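import Cfsg.Agent.TAB.F22.FxA_m3
import Cfsg.Agent.TAB.Suz.Main
import Cfsg.Agent.KFacts.SuzInvol
import Cfsg.Agent.H123.Cls.SuzOre
import Cfsg.Agent.Lib.ListFast
import Cfsg.Agent.Prune
set_option linter.all false
prune_inst 0x7ffffffdffbfffffffff7fffffffffffffffffffffdffbfbfff7ffffffffb7fffbefffbffff6faffdeffe7ff3cf9fb53fffffffffd6ffc7ffffdfff75ffbffffffffbf8d71dfbffeeffdeffffbf37fffffffffffffffffffffffffffffffffffffffffffffff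
open scoped Cfsg.Agent.FastGrp
private noncomputable def lq26d9c69aa0 {T : Sort _} (f :
    type_of% (@_root_.Prod.mk.{0, 0}) →
    type_of% (@_root_.List.cons.{0}) →
    type_of% (@_root_.List.nil.{0}) →
    type_of% (@_root_.Nat.succ) →
    type_of% (@_root_.Bool.false) →
    type_of% (@_root_.Bool.true) →
    type_of% (@_root_.List.cons.{0} (List Int)) →
    type_of% (@_root_.Nat.mul) →
    type_of% (@_root_.Nat.pow) →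
    type_of% (@_root_.Nat.add) →
    ((List (Prod Nat Nat)) → (List (Prod Nat Nat))) →
    type_of% (@_root_.Nat.sub) →
    type_of% (@_root_.Nat.div) →
    ((Int) → (Int)) →
    ((Nat) → (Nat)) →
    type_of% (@_root_.Nat.mod) →
    type_of% (@_root_.Decidable.decide) → T) : T :=
  f (@_root_.Prod.mk.{0, 0}) (@_root_.List.cons.{0}) (@_root_.List.nil.{0}) (@_root_.Nat.succ) (@_root_.Bool.false) (@_root_.Bool.true) (@_root_.List.cons.{0} (List Int)) (@_root_.Nat.mul) (@_root_.Nat.pow) (@_root_.Nat.add) (fun x => x) (@_root_.Nat.sub) (@_root_.Nat.div) (fun x => x) (fun x => x) (@_root_.Nat.mod) (@_root_.Decidable.decide)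

/-!
# MK, `3.Suz` : the sixfold cover in 24 dimensions, data (helper88)

The letters `0, ..., 6` are the generators, `7` is the scalar of order six, `8` is `-1`, `9` is the semilinear map.
-/

set_option autoImplicit false
set_option maxRecDepth 100000
set_option Elab.async false

namespace Cfsg.Agent.MK.S4.Z

open Cfsg.Agent.TAB.F22 Cfsg.Agent.TAB.Eng Cfsg.Agent.TAB.Sz

local notation "A" => Nat.add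
local notation "M" => Nat.mul

/-- the letter 0 -/
def m0 : List Row := (beta% delta% lq26d9c69aa0 fun a b c _ _ _ _ _ _ _ _ _ _ _ _ _ _ =>
 (b (a (a (b (a 0 1)<|c) 0)<|a c 0)<|b (a (a (b (a 1 1)<|c) 0)<|a c 0)<|b (a (a (b (a 2 1)<|c) 0)<|a c 0)<|b (a (a c 2)<|a (b (a 3 1)<|c) 0)<|b (a (a (b (a 4 1)<|c) 0)<|a c
 0)<|b (a (a c 2)<|a (b (a 5 1)<|c) 0)<|b (a (a (b (a 6 1)<|c) 0)<|a c 0)<|b (a (a (b (a 7 1)<|c) 0)<|a c 0)<|b (a (a c 2)<|a (b (a 8 1)<|c) 0)<|b (a (a (b (a 9 1)<|c) 0)<|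
 a c 0)<|b (a (a (b (a 10 1)<|c) 0)<|a c 0)<|b (a (a c 2)<|a (b (a 11 1)<|c) 0)<|b (a (a c 2)<|a (b (a 12 1)<|c) 0)<|b (a (a (b (a 13 1)<|c) 0)<|a c 0)<|b (a (a (b (a 14
 1)<|c) 0)<|a c 0)<|b (a (a (b (a 15 1)<|c) 0)<|a c 0)<|b (a (a (b (a 16 1)<|c) 0)<|a c 0)<|b (a (a (b (a 17 1)<|c) 0)<|a c 0)<|b (a (a (b (a 18 1)<|c) 0)<|a c 0)<|
 b (a (a c 2)<|a (b (a 19 1)<|c) 0)<|b (a (a (b (a 20 1)<|c) 0)<|a c 0)<|b (a (a (b (a 21 1)<|c) 0)<|a c 0)<|b (a (a c 2)<|a (b (a 22 1)<|c) 0)<|b (a (a c 2)<|a (b (a 23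
 1)<|c) 0)<|c))

/-- the function of the letter 0 -/
def f0 (C : ℕ) : Fn (List (ℕ × ℕ)) 24 := (beta% delta% lq26d9c69aa0 fun a b c _ _ _ _ _ _ _ o _ _ _ _ _ _ =>
 fun (
 x0 x1 x2 x3 x4 x5 x6 x7 x8 x9 x10 x11 x12 x13 x14 x15 x16 x17 x18 x19 x20 x21 x22 x23 : ℕ) => ((b (a (A (M 1 x0) (M 0 C)) (M 0 C))<|b (a (A (M 1 x1) (M 0 C)) (M 0 C))<|b (a (A (M 1 x2) (M 0 C)) (M 0 C))<|b (a (M 2 C) (A (M 1
 x3) (M 0 C)))<|b (a (A (M 1 x4) (M 0 C)) (M 0 C))<|b (a (M 2 C) (A (M 1 x5) (M 0 C)))<|b (a (A (M 1 x6) (M 0 C)) (M 0 C))<|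
 b (a (A (M 1 x7) (M 0 C)) (M 0 C))<|b (a (M 2 C) (A (M 1 x8) (M 0 C)))<|b (a (A (M 1 x9) (M 0 C)) (M 0 C))<|b (a (A (M 1 x10) (M
 0 C)) (M 0 C))<|b (a (M 2 C) (A (M 1 x11) (M 0 C)))<|b (a (M 2 C) (A (M 1 x12) (M 0 C)))<|b (a (A (M 1 x13) (M 0 C)) (M 0
 C))<|b (a (A (M 1 x14) (M 0 C)) (M 0 C))<|b (a (A (M 1 x15) (M 0 C)) (M 0 C))<|b (a (A (M 1 x16) (M 0 C)) (M 0 C))<|b (a (A (M 1
 x17) (M 0 C)) (M 0 C))<|b (a (A (M 1 x18) (M 0 C)) (M 0 C))<|b (a (M 2 C) (A (M 1 x19) (M 0 C)))<|b (a (A (M 1 x20) (M 0 C))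
 (M 0 C))<|b (a (A (M 1 x21) (M 0 C)) (M 0 C))<|b (a (M 2 C) (A (M 1 x22) (M 0 C)))<|b (a (M 2 C) (A (M 1 x23) (M 0 C)))<|c) :type_of% (o _)))

theorem f0_eq : f0 = fnOf 24 m0 := rfl

/-- the letter 1 -/
def m1 : List Row := (beta% delta% lq26d9c69aa0 fun a b c _ _ _ _ _ _ _ _ _ _ _ _ _ _ =>
 (b (a (a (b (a 0 2)<|b (a 11 1)<|b (a 15 1)<|b (a 18 1)<|b (a 22 1)<|c) 4)<|a (b (a 10 1)<|b (a 13 1)<|b (a 17 2)<|b (a 19 1)<|b (a 23 1)<|c) 0)<|b (a (a (b (a 1 2)<|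
 b (a 8 2)<|b (a 11 1)<|b (a 13 1)<|b (a 22 1)<|b (a 23 1)<|c) 0)<|a (b (a 10 1)<|b (a 15 1)<|b (a 18 1)<|b (a 19 1)<|c) 0)<|b (a (a (b (a 2 2)<|b (a 5 2)<|b (a 18
 1)<|b (a 19 1)<|b (a 22 1)<|b (a 23 1)<|c) 0)<|a (b (a 10 1)<|b (a 11 1)<|b (a 13 1)<|b (a 15 1)<|c) 0)<|b (a (a (b (a 3 2)<|b (a 13 1)<|b (a 15 1)<|b (a 18 1)<|
 b (a 23 1)<|c) 4)<|a (b (a 6 2)<|b (a 10 1)<|b (a 11 1)<|b (a 19 1)<|b (a 22 1)<|c) 0)<|b (a (a (b (a 4 2)<|b (a 10 1)<|b (a 13 1)<|b (a 18 1)<|b (a 22 1)<|c) 4)<|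
 a (b (a 11 1)<|b (a 12 2)<|b (a 15 1)<|b (a 19 1)<|b (a 23 1)<|c) 0)<|b (a (a (b (a 2 2)<|b (a 5 2)<|b (a 10 1)<|b (a 11 1)<|b (a 13 1)<|b (a 15 1)<|c) 0)<|a (b (a 18
 1)<|b (a 19 1)<|b (a 22 1)<|b (a 23 1)<|c) 0)<|b (a (a (b (a 6 2)<|b (a 13 1)<|b (a 15 1)<|b (a 18 1)<|b (a 23 1)<|c) 4)<|a (b (a 3 2)<|b (a 10 1)<|b (a 11 1)<|
 b (a 19 1)<|b (a 22 1)<|c) 0)<|b (a (a (b (a 7 2)<|b (a 10 1)<|b (a 11 1)<|b (a 18 1)<|b (a 23 1)<|c) 4)<|a (b (a 13 1)<|b (a 15 1)<|b (a 19 1)<|b (a 20 2)<|b (a 22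
 1)<|c) 0)<|b (a (a (b (a 1 2)<|b (a 8 2)<|b (a 10 1)<|b (a 15 1)<|b (a 18 1)<|b (a 19 1)<|c) 0)<|a (b (a 11 1)<|b (a 13 1)<|b (a 22 1)<|b (a 23 1)<|c) 0)<|
 b (a (a (b (a 9 2)<|c) 12)<|a (b (a 10 1)<|b (a 11 1)<|b (a 13 1)<|b (a 15 1)<|b (a 18 1)<|b (a 19 1)<|b (a 21 2)<|b (a 22 1)<|b (a 23 1)<|c) 0)<|b (a (a (b (a 4 1)<|
 b (a 5 1)<|b (a 7 1)<|b (a 8 1)<|b (a 12 1)<|b (a 14 1)<|b (a 16 1)<|b (a 20 1)<|c) 4)<|a (b (a 0 1)<|b (a 1 1)<|b (a 2 1)<|b (a 3 1)<|b (a 6 1)<|b (a 9 1)<|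
 b (a 17 1)<|b (a 21 1)<|c) 0)<|b (a (a (b (a 0 1)<|b (a 1 1)<|b (a 5 1)<|b (a 7 1)<|b (a 17 1)<|b (a 20 1)<|c) 8)<|a (b (a 2 1)<|b (a 3 1)<|b (a 4 1)<|b (a 6 1)<|
 b (a 8 1)<|b (a 9 1)<|b (a 12 1)<|b (a 14 1)<|b (a 16 1)<|b (a 21 1)<|c) 0)<|b (a (a (b (a 10 1)<|b (a 12 2)<|b (a 13 1)<|b (a 18 1)<|b (a 22 1)<|c) 4)<|a (b (a 4
 2)<|b (a 11 1)<|b (a 15 1)<|b (a 19 1)<|b (a 23 1)<|c) 0)<|b (a (a (b (a 1 1)<|b (a 3 1)<|b (a 4 1)<|b (a 5 1)<|b (a 6 1)<|b (a 12 1)<|c) 8)<|a (b (a 0 1)<|b (a 2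
 1)<|b (a 7 1)<|b (a 8 1)<|b (a 9 1)<|b (a 14 1)<|b (a 16 1)<|b (a 17 1)<|b (a 20 1)<|b (a 21 1)<|c) 0)<|b (a (a (b (a 10 1)<|b (a 14 2)<|b (a 15 1)<|b (a 22 1)<|
 b (a 23 1)<|c) 4)<|a (b (a 11 1)<|b (a 13 1)<|b (a 16 2)<|b (a 18 1)<|b (a 19 1)<|c) 0)<|b (a (a (b (a 0 1)<|b (a 3 1)<|b (a 5 1)<|b (a 6 1)<|b (a 8 1)<|b (a 14 1)<|
 b (a 16 1)<|b (a 17 1)<|c) 4)<|a (b (a 1 1)<|b (a 2 1)<|b (a 4 1)<|b (a 7 1)<|b (a 9 1)<|b (a 12 1)<|b (a 20 1)<|b (a 21 1)<|c) 0)<|b (a (a (b (a 10 1)<|b (a 15 1)<|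
 b (a 16 2)<|b (a 22 1)<|b (a 23 1)<|c) 4)<|a (b (a 11 1)<|b (a 13 1)<|b (a 14 2)<|b (a 18 1)<|b (a 19 1)<|c) 0)<|b (a (a (b (a 11 1)<|b (a 15 1)<|b (a 17 2)<|
 b (a 18 1)<|b (a 22 1)<|c) 4)<|a (b (a 0 2)<|b (a 10 1)<|b (a 13 1)<|b (a 19 1)<|b (a 23 1)<|c) 0)<|b (a (a (b (a 0 1)<|b (a 2 1)<|b (a 3 1)<|b (a 4 1)<|b (a 6 1)<|
 b (a 7 1)<|b (a 8 1)<|b (a 12 1)<|b (a 17 1)<|b (a 20 1)<|c) 0)<|a (b (a 1 1)<|b (a 5 1)<|b (a 9 1)<|b (a 14 1)<|b (a 16 1)<|b (a 21 1)<|c) 0)<|b (a (a (b (a 2 1)<|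
 b (a 8 1)<|c) 16)<|a (b (a 0 1)<|b (a 1 1)<|b (a 3 1)<|b (a 4 1)<|b (a 5 1)<|b (a 6 1)<|b (a 7 1)<|b (a 9 1)<|b (a 12 1)<|b (a 14 1)<|b (a 16 1)<|b (a 17 1)<|
 b (a 20 1)<|b (a 21 1)<|c) 0)<|b (a (a (b (a 10 1)<|b (a 11 1)<|b (a 18 1)<|b (a 20 2)<|b (a 23 1)<|c) 4)<|a (b (a 7 2)<|b (a 13 1)<|b (a 15 1)<|b (a 19 1)<|b (a 22
 1)<|c) 0)<|b (a (a (b (a 21 2)<|c) 12)<|a (b (a 9 2)<|b (a 10 1)<|b (a 11 1)<|b (a 13 1)<|b (a 15 1)<|b (a 18 1)<|b (a 19 1)<|b (a 22 1)<|b (a 23 1)<|c) 0)<|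
 b (a (a (b (a 0 1)<|b (a 1 1)<|b (a 2 1)<|b (a 4 1)<|b (a 12 1)<|b (a 14 1)<|b (a 16 1)<|b (a 17 1)<|c) 4)<|a (b (a 3 1)<|b (a 5 1)<|b (a 6 1)<|b (a 7 1)<|b (a 8 1)<|
 b (a 9 1)<|b (a 20 1)<|b (a 21 1)<|c) 0)<|b (a (a (b (a 1 1)<|b (a 2 1)<|b (a 3 1)<|b (a 6 1)<|b (a 7 1)<|b (a 14 1)<|b (a 16 1)<|b (a 20 1)<|c) 4)<|a (b (a 0 1)<|
 b (a 4 1)<|b (a 5 1)<|b (a 8 1)<|b (a 9 1)<|b (a 12 1)<|b (a 17 1)<|b (a 21 1)<|c) 0)<|c))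

/-- the function of the letter 1 -/
def f1 (C : ℕ) : Fn (List (ℕ × ℕ)) 24 := (beta% delta% lq26d9c69aa0 fun a b c _ _ _ _ _ _ _ o _ _ _ _ _ _ =>
 fun (
 x0 x1 x2 x3 x4 x5 x6 x7 x8 x9 x10 x11 x12 x13 x14 x15 x16 x17 x18 x19 x20 x21 x22 x23 : ℕ) => ((b (a (A (M 2 x0) (A (M 1 x11) (A (M 1 x15) (A (M 1 x18) (A (M 1 x22) (M 4 C)))))) (A (M 1 x10) (A (M 1 x13) (A (M 2
 x17) (A (M 1 x19) (A (M 1 x23) (M 0 C)))))))<|b (a (A (M 2 x1) (A (M 2 x8) (A (M 1 x11) (A (M 1 x13) (A (M 1 x22) (A (M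
 1 x23) (M 0 C))))))) (A (M 1 x10) (A (M 1 x15) (A (M 1 x18) (A (M 1 x19) (M 0 C))))))<|b (a (A (M 2 x2) (A (M 2 x5) (A
 (M 1 x18) (A (M 1 x19) (A (M 1 x22) (A (M 1 x23) (M 0 C))))))) (A (M 1 x10) (A (M 1 x11) (A (M 1 x13) (A (M 1 x15)
 (M 0 C))))))<|b (a (A (M 2 x3) (A (M 1 x13) (A (M 1 x15) (A (M 1 x18) (A (M 1 x23) (M 4 C)))))) (A (M 2 x6) (A (M 1
 x10) (A (M 1 x11) (A (M 1 x19) (A (M 1 x22) (M 0 C)))))))<|b (a (A (M 2 x4) (A (M 1 x10) (A (M 1 x13) (A (M 1 x18) (A (M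
 1 x22) (M 4 C)))))) (A (M 1 x11) (A (M 2 x12) (A (M 1 x15) (A (M 1 x19) (A (M 1 x23) (M 0 C)))))))<|b (a (A (M 2 x2) (A
 (M 2 x5) (A (M 1 x10) (A (M 1 x11) (A (M 1 x13) (A (M 1 x15) (M 0 C))))))) (A (M 1 x18) (A (M 1 x19) (A (M 1 x22)
 (A (M 1 x23) (M 0 C))))))<|b (a (A (M 2 x6) (A (M 1 x13) (A (M 1 x15) (A (M 1 x18) (A (M 1 x23) (M 4 C)))))) (A (M 2
 x3) (A (M 1 x10) (A (M 1 x11) (A (M 1 x19) (A (M 1 x22) (M 0 C)))))))<|b (a (A (M 2 x7) (A (M 1 x10) (A (M 1 x11) (A (M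
 1 x18) (A (M 1 x23) (M 4 C)))))) (A (M 1 x13) (A (M 1 x15) (A (M 1 x19) (A (M 2 x20) (A (M 1 x22) (M 0 C)))))))<|
 b (a (A (M 2 x1) (A (M 2 x8) (A (M 1 x10) (A (M 1 x15) (A (M 1 x18) (A (M 1 x19) (M 0 C))))))) (A (M 1 x11) (A (M 1
 x13) (A (M 1 x22) (A (M 1 x23) (M 0 C))))))<|b (a (A (M 2 x9) (M 12 C)) (A (M 1 x10) (A (M 1 x11) (A (M 1 x13) (A (M 1
 x15) (A (M 1 x18) (A (M 1 x19) (A (M 2 x21) (A (M 1 x22) (A (M 1 x23) (M 0 C)))))))))))<|b (a (A (M 1 x4) (A (M 1 x5) (A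
 (M 1 x7) (A (M 1 x8) (A (M 1 x12) (A (M 1 x14) (A (M 1 x16) (A (M 1 x20) (M 4 C))))))))) (A (M 1 x0) (A (M 1 x1) (A
 (M 1 x2) (A (M 1 x3) (A (M 1 x6) (A (M 1 x9) (A (M 1 x17) (A (M 1 x21) (M 0 C))))))))))<|b (a (A (M 1 x0) (A (M 1 x1) (A
 (M 1 x5) (A (M 1 x7) (A (M 1 x17) (A (M 1 x20) (M 8 C))))))) (A (M 1 x2) (A (M 1 x3) (A (M 1 x4) (A (M 1 x6) (A (M
 1 x8) (A (M 1 x9) (A (M 1 x12) (A (M 1 x14) (A (M 1 x16) (A (M 1 x21) (M 0 C))))))))))))<|b (a (A (M 1 x10) (A (M 2 x12)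
 (A (M 1 x13) (A (M 1 x18) (A (M 1 x22) (M 4 C)))))) (A (M 2 x4) (A (M 1 x11) (A (M 1 x15) (A (M 1 x19) (A (M 1 x23)
 (M 0 C)))))))<|b (a (A (M 1 x1) (A (M 1 x3) (A (M 1 x4) (A (M 1 x5) (A (M 1 x6) (A (M 1 x12) (M 8 C))))))) (A (M 1 x0)
 (A (M 1 x2) (A (M 1 x7) (A (M 1 x8) (A (M 1 x9) (A (M 1 x14) (A (M 1 x16) (A (M 1 x17) (A (M 1 x20) (A (M 1 x21) (M
 0 C))))))))))))<|b (a (A (M 1 x10) (A (M 2 x14) (A (M 1 x15) (A (M 1 x22) (A (M 1 x23) (M 4 C)))))) (A (M 1 x11) (A (M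
 1 x13) (A (M 2 x16) (A (M 1 x18) (A (M 1 x19) (M 0 C)))))))<|b (a (A (M 1 x0) (A (M 1 x3) (A (M 1 x5) (A (M 1 x6) (A (M
 1 x8) (A (M 1 x14) (A (M 1 x16) (A (M 1 x17) (M 4 C))))))))) (A (M 1 x1) (A (M 1 x2) (A (M 1 x4) (A (M 1 x7) (A (M
 1 x9) (A (M 1 x12) (A (M 1 x20) (A (M 1 x21) (M 0 C))))))))))<|b (a (A (M 1 x10) (A (M 1 x15) (A (M 2 x16) (A (M 1 x22)
 (A (M 1 x23) (M 4 C)))))) (A (M 1 x11) (A (M 1 x13) (A (M 2 x14) (A (M 1 x18) (A (M 1 x19) (M 0 C)))))))<|b (a (A (M 1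
 x11) (A (M 1 x15) (A (M 2 x17) (A (M 1 x18) (A (M 1 x22) (M 4 C)))))) (A (M 2 x0) (A (M 1 x10) (A (M 1 x13) (A (M 1
 x19) (A (M 1 x23) (M 0 C)))))))<|b (a (A (M 1 x0) (A (M 1 x2) (A (M 1 x3) (A (M 1 x4) (A (M 1 x6) (A (M 1 x7) (A (M 1
 x8) (A (M 1 x12) (A (M 1 x17) (A (M 1 x20) (M 0 C))))))))))) (A (M 1 x1) (A (M 1 x5) (A (M 1 x9) (A (M 1 x14) (A (M
 1 x16) (A (M 1 x21) (M 0 C))))))))<|b (a (A (M 1 x2) (A (M 1 x8) (M 16 C))) (A (M 1 x0) (A (M 1 x1) (A (M 1 x3) (A (M 1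
 x4) (A (M 1 x5) (A (M 1 x6) (A (M 1 x7) (A (M 1 x9) (A (M 1 x12) (A (M 1 x14) (A (M 1 x16) (A (M 1 x17) (A (M 1 x20)
 (A (M 1 x21) (M 0 C))))))))))))))))<|b (a (A (M 1 x10) (A (M 1 x11) (A (M 1 x18) (A (M 2 x20) (A (M 1 x23) (M 4 C))))))
 (A (M 2 x7) (A (M 1 x13) (A (M 1 x15) (A (M 1 x19) (A (M 1 x22) (M 0 C)))))))<|b (a (A (M 2 x21) (M 12 C)) (A (M 2 x9)
 (A (M 1 x10) (A (M 1 x11) (A (M 1 x13) (A (M 1 x15) (A (M 1 x18) (A (M 1 x19) (A (M 1 x22) (A (M 1 x23) (M 0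
 C)))))))))))<|b (a (A (M 1 x0) (A (M 1 x1) (A (M 1 x2) (A (M 1 x4) (A (M 1 x12) (A (M 1 x14) (A (M 1 x16) (A (M 1 x17)
 (M 4 C))))))))) (A (M 1 x3) (A (M 1 x5) (A (M 1 x6) (A (M 1 x7) (A (M 1 x8) (A (M 1 x9) (A (M 1 x20) (A (M 1 x21)
 (M 0 C))))))))))<|b (a (A (M 1 x1) (A (M 1 x2) (A (M 1 x3) (A (M 1 x6) (A (M 1 x7) (A (M 1 x14) (A (M 1 x16) (A (M 1
 x20) (M 4 C))))))))) (A (M 1 x0) (A (M 1 x4) (A (M 1 x5) (A (M 1 x8) (A (M 1 x9) (A (M 1 x12) (A (M 1 x17) (A (M 1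
 x21) (M 0 C))))))))))<|c) :type_of% (o _)))

theorem f1_eq : f1 = fnOf 24 m1 := rfl

/-- the letter 2 -/
def m2 : List Row := (beta% delta% lq26d9c69aa0 fun a b c _ _ _ _ _ _ _ _ _ _ _ _ _ _ =>
 (b (a (a c 2)<|a (b (a 18 1)<|c) 0)<|b (a (a c 2)<|a (b (a 7 1)<|c) 0)<|b (a (a c 2)<|a (b (a 16 1)<|c) 0)<|b (a (a (b (a 3 1)<|c) 0)<|a c 0)<|b (a (a c 2)<|a (b (a 17
 1)<|c) 0)<|b (a (a (b (a 5 1)<|c) 0)<|a c 0)<|b (a (a c 2)<|a (b (a 21 1)<|c) 0)<|b (a (a c 2)<|a (b (a 1 1)<|c) 0)<|b (a (a (b (a 8 1)<|c) 0)<|a c 0)<|b (a (a (b (a 10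
 1)<|c) 0)<|a c 0)<|b (a (a (b (a 9 1)<|c) 0)<|a c 0)<|b (a (a (b (a 11 1)<|c) 0)<|a c 0)<|b (a (a (b (a 12 1)<|c) 0)<|a c 0)<|b (a (a (b (a 14 1)<|c) 0)<|a c 0)<|
 b (a (a (b (a 13 1)<|c) 0)<|a c 0)<|b (a (a (b (a 20 1)<|c) 0)<|a c 0)<|b (a (a c 2)<|a (b (a 2 1)<|c) 0)<|b (a (a c 2)<|a (b (a 4 1)<|c) 0)<|b (a (a c 2)<|a (b (a 0
 1)<|c) 0)<|b (a (a (b (a 19 1)<|c) 0)<|a c 0)<|b (a (a (b (a 15 1)<|c) 0)<|a c 0)<|b (a (a c 2)<|a (b (a 6 1)<|c) 0)<|b (a (a (b (a 22 1)<|c) 0)<|a c 0)<|b (a (a (b (a 23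
 1)<|c) 0)<|a c 0)<|c))

/-- the function of the letter 2 -/
def f2 (C : ℕ) : Fn (List (ℕ × ℕ)) 24 := (beta% delta% lq26d9c69aa0 fun a b c _ _ _ _ _ _ _ o _ _ _ _ _ _ =>
 fun (
 x0 x1 x2 x3 x4 x5 x6 x7 x8 x9 x10 x11 x12 x13 x14 x15 x16 x17 x18 x19 x20 x21 x22 x23 : ℕ) => ((b (a (M 2 C) (A (M 1 x18) (M 0 C)))<|b (a (M 2 C) (A (M 1 x7) (M 0 C)))<|b (a (M 2 C) (A (M 1 x16) (M 0 C)))<|b (a (A (M 1 x3) (M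
 0 C)) (M 0 C))<|b (a (M 2 C) (A (M 1 x17) (M 0 C)))<|b (a (A (M 1 x5) (M 0 C)) (M 0 C))<|b (a (M 2 C) (A (M 1 x21) (M 0
 C)))<|b (a (M 2 C) (A (M 1 x1) (M 0 C)))<|b (a (A (M 1 x8) (M 0 C)) (M 0 C))<|b (a (A (M 1 x10) (M 0 C)) (M 0 C))<|b (a (A (M 1
 x9) (M 0 C)) (M 0 C))<|b (a (A (M 1 x11) (M 0 C)) (M 0 C))<|b (a (A (M 1 x12) (M 0 C)) (M 0 C))<|b (a (A (M 1 x14) (M 0 C))
 (M 0 C))<|b (a (A (M 1 x13) (M 0 C)) (M 0 C))<|b (a (A (M 1 x20) (M 0 C)) (M 0 C))<|b (a (M 2 C) (A (M 1 x2) (M 0 C)))<|b (a (M 2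
 C) (A (M 1 x4) (M 0 C)))<|b (a (M 2 C) (A (M 1 x0) (M 0 C)))<|b (a (A (M 1 x19) (M 0 C)) (M 0 C))<|b (a (A (M 1 x15) (M 0
 C)) (M 0 C))<|b (a (M 2 C) (A (M 1 x6) (M 0 C)))<|b (a (A (M 1 x22) (M 0 C)) (M 0 C))<|b (a (A (M 1 x23) (M 0 C)) (M 0 C))<|c) :type_of% (o _)))

theorem f2_eq : f2 = fnOf 24 m2 := rfl

/-- the letter 3 -/
def m3 : List Row := (beta% delta% lq26d9c69aa0 fun a b c _ _ _ _ _ _ _ _ _ _ _ _ _ _ =>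
 (b (a (a (b (a 14 1)<|c) 0)<|a c 0)<|b (a (a (b (a 2 1)<|c) 0)<|a c 0)<|b (a (a c 2)<|a (b (a 1 1)<|c) 0)<|b (a (a c 2)<|a (b (a 12 1)<|c) 0)<|b (a (a (b (a 6 1)<|c) 0)<|
 a c 0)<|b (a (a c 2)<|a (b (a 8 1)<|c) 0)<|b (a (a c 2)<|a (b (a 4 1)<|c) 0)<|b (a (a c 2)<|a (b (a 21 1)<|c) 0)<|b (a (a (b (a 5 1)<|c) 0)<|a c 0)<|b (a (a (b (a 20
 1)<|c) 0)<|a c 0)<|b (a (a (b (a 13 1)<|c) 0)<|a c 0)<|b (a (a (b (a 22 1)<|c) 0)<|a c 0)<|b (a (a (b (a 3 1)<|c) 0)<|a c 0)<|b (a (a c 2)<|a (b (a 10 1)<|c) 0)<|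
 b (a (a c 2)<|a (b (a 0 1)<|c) 0)<|b (a (a c 2)<|a (b (a 18 1)<|c) 0)<|b (a (a c 2)<|a (b (a 17 1)<|c) 0)<|b (a (a (b (a 16 1)<|c) 0)<|a c 0)<|b (a (a (b (a 15 1)<|c) 0)<|
 a c 0)<|b (a (a c 2)<|a (b (a 23 1)<|c) 0)<|b (a (a c 2)<|a (b (a 9 1)<|c) 0)<|b (a (a (b (a 7 1)<|c) 0)<|a c 0)<|b (a (a c 2)<|a (b (a 11 1)<|c) 0)<|b (a (a (b (a 19
 1)<|c) 0)<|a c 0)<|c))

/-- the function of the letter 3 -/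
def f3 (C : ℕ) : Fn (List (ℕ × ℕ)) 24 := (beta% delta% lq26d9c69aa0 fun a b c _ _ _ _ _ _ _ o _ _ _ _ _ _ =>
 fun (
 x0 x1 x2 x3 x4 x5 x6 x7 x8 x9 x10 x11 x12 x13 x14 x15 x16 x17 x18 x19 x20 x21 x22 x23 : ℕ) => ((b (a (A (M 1 x14) (M 0 C)) (M 0 C))<|b (a (A (M 1 x2) (M 0 C)) (M 0 C))<|b (a (M 2 C) (A (M 1 x1) (M 0 C)))<|b (a (M 2 C) (A (M
 1 x12) (M 0 C)))<|b (a (A (M 1 x6) (M 0 C)) (M 0 C))<|b (a (M 2 C) (A (M 1 x8) (M 0 C)))<|b (a (M 2 C) (A (M 1 x4) (M 0 C)))<|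
 b (a (M 2 C) (A (M 1 x21) (M 0 C)))<|b (a (A (M 1 x5) (M 0 C)) (M 0 C))<|b (a (A (M 1 x20) (M 0 C)) (M 0 C))<|b (a (A (M 1 x13)
 (M 0 C)) (M 0 C))<|b (a (A (M 1 x22) (M 0 C)) (M 0 C))<|b (a (A (M 1 x3) (M 0 C)) (M 0 C))<|b (a (M 2 C) (A (M 1 x10) (M 0
 C)))<|b (a (M 2 C) (A (M 1 x0) (M 0 C)))<|b (a (M 2 C) (A (M 1 x18) (M 0 C)))<|b (a (M 2 C) (A (M 1 x17) (M 0 C)))<|b (a (A (M 1
 x16) (M 0 C)) (M 0 C))<|b (a (A (M 1 x15) (M 0 C)) (M 0 C))<|b (a (M 2 C) (A (M 1 x23) (M 0 C)))<|b (a (M 2 C) (A (M 1 x9)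
 (M 0 C)))<|b (a (A (M 1 x7) (M 0 C)) (M 0 C))<|b (a (M 2 C) (A (M 1 x11) (M 0 C)))<|b (a (A (M 1 x19) (M 0 C)) (M 0 C))<|c) :type_of% (o _)))

theorem f3_eq : f3 = fnOf 24 m3 := rfl

/-- the letter 4 -/
def m4 : List Row := (beta% delta% lq26d9c69aa0 fun a b c _ _ _ _ _ _ _ _ _ _ _ _ _ _ =>
 (b (a (a (b (a 20 1)<|c) 4)<|a (b (a 13 1)<|b (a 14 1)<|b (a 15 1)<|c) 0)<|b (a (a (b (a 6 1)<|b (a 16 1)<|b (a 21 1)<|c) 0)<|a (b (a 2 1)<|c) 0)<|b (a (a (b (a 1 1)<|b (a 4 1)<|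
 b (a 17 1)<|c) 0)<|a (b (a 7 1)<|c) 0)<|b (a (a (b (a 5 1)<|b (a 11 1)<|b (a 12 1)<|c) 0)<|a (b (a 19 1)<|c) 0)<|b (a (a (b (a 21 1)<|c) 4)<|a (b (a 2 1)<|b (a 6 1)<|b (a 16
 1)<|c) 0)<|b (a (a (b (a 8 1)<|b (a 22 1)<|c) 2)<|a (b (a 3 1)<|b (a 23 1)<|c) 0)<|b (a (a (b (a 4 1)<|c) 4)<|a (b (a 1 1)<|b (a 7 1)<|b (a 17 1)<|c) 0)<|b (a (a (b (a 2 1)<|
 b (a 6 1)<|b (a 21 1)<|c) 0)<|a (b (a 16 1)<|c) 0)<|b (a (a (b (a 12 1)<|c) 4)<|a (b (a 5 1)<|b (a 11 1)<|b (a 19 1)<|c) 0)<|b (a (a (b (a 13 1)<|c) 4)<|a (b (a 14 1)<|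
 b (a 15 1)<|b (a 20 1)<|c) 0)<|b (a (a (b (a 14 1)<|c) 4)<|a (b (a 13 1)<|b (a 15 1)<|b (a 20 1)<|c) 0)<|b (a (a (b (a 8 1)<|b (a 23 1)<|c) 2)<|a (b (a 3 1)<|b (a 22 1)<|c)
 0)<|b (a (a (b (a 22 1)<|b (a 23 1)<|c) 2)<|a (b (a 3 1)<|b (a 8 1)<|c) 0)<|b (a (a (b (a 0 1)<|b (a 10 1)<|c) 2)<|a (b (a 9 1)<|b (a 18 1)<|c) 0)<|b (a (a (b (a 0 1)<|b (a 9
 1)<|c) 2)<|a (b (a 10 1)<|b (a 18 1)<|c) 0)<|b (a (a (b (a 0 1)<|b (a 9 1)<|b (a 10 1)<|b (a 18 1)<|c) 0)<|a c 2)<|b (a (a (b (a 4 1)<|b (a 7 1)<|b (a 17 1)<|c) 0)<|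
 a (b (a 1 1)<|c) 0)<|b (a (a (b (a 6 1)<|c) 4)<|a (b (a 2 1)<|b (a 16 1)<|b (a 21 1)<|c) 0)<|b (a (a (b (a 13 1)<|b (a 14 1)<|b (a 20 1)<|c) 0)<|a (b (a 15 1)<|c) 0)<|
 b (a (a (b (a 3 1)<|b (a 8 1)<|b (a 22 1)<|b (a 23 1)<|c) 0)<|a c 2)<|b (a (a (b (a 9 1)<|b (a 10 1)<|c) 2)<|a (b (a 0 1)<|b (a 18 1)<|c) 0)<|b (a (a (b (a 17 1)<|c) 4)<|
 a (b (a 1 1)<|b (a 4 1)<|b (a 7 1)<|c) 0)<|b (a (a (b (a 11 1)<|c) 4)<|a (b (a 5 1)<|b (a 12 1)<|b (a 19 1)<|c) 0)<|b (a (a (b (a 5 1)<|c) 4)<|a (b (a 11 1)<|b (a 12 1)<|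
 b (a 19 1)<|c) 0)<|c))

/-- the function of the letter 4 -/
def f4 (C : ℕ) : Fn (List (ℕ × ℕ)) 24 := (beta% delta% lq26d9c69aa0 fun a b c _ _ _ _ _ _ _ o _ _ _ _ _ _ =>
 fun (
 x0 x1 x2 x3 x4 x5 x6 x7 x8 x9 x10 x11 x12 x13 x14 x15 x16 x17 x18 x19 x20 x21 x22 x23 : ℕ) => ((b (a (A (M 1 x20) (M 4 C)) (A (M 1 x13) (A (M 1 x14) (A (M 1 x15) (M 0 C)))))<|b (a (A (M 1 x6) (A (M 1 x16) (A (M 1 x21)
 (M 0 C)))) (A (M 1 x2) (M 0 C)))<|b (a (A (M 1 x1) (A (M 1 x4) (A (M 1 x17) (M 0 C)))) (A (M 1 x7) (M 0 C)))<|b (a (A (M 1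
 x5) (A (M 1 x11) (A (M 1 x12) (M 0 C)))) (A (M 1 x19) (M 0 C)))<|b (a (A (M 1 x21) (M 4 C)) (A (M 1 x2) (A (M 1 x6) (A
 (M 1 x16) (M 0 C)))))<|b (a (A (M 1 x8) (A (M 1 x22) (M 2 C))) (A (M 1 x3) (A (M 1 x23) (M 0 C))))<|b (a (A (M 1 x4) (M 4
 C)) (A (M 1 x1) (A (M 1 x7) (A (M 1 x17) (M 0 C)))))<|b (a (A (M 1 x2) (A (M 1 x6) (A (M 1 x21) (M 0 C)))) (A (M 1
 x16) (M 0 C)))<|b (a (A (M 1 x12) (M 4 C)) (A (M 1 x5) (A (M 1 x11) (A (M 1 x19) (M 0 C)))))<|b (a (A (M 1 x13) (M 4 C))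
 (A (M 1 x14) (A (M 1 x15) (A (M 1 x20) (M 0 C)))))<|b (a (A (M 1 x14) (M 4 C)) (A (M 1 x13) (A (M 1 x15) (A (M 1 x20)
 (M 0 C)))))<|b (a (A (M 1 x8) (A (M 1 x23) (M 2 C))) (A (M 1 x3) (A (M 1 x22) (M 0 C))))<|b (a (A (M 1 x22) (A (M 1 x23) (M
 2 C))) (A (M 1 x3) (A (M 1 x8) (M 0 C))))<|b (a (A (M 1 x0) (A (M 1 x10) (M 2 C))) (A (M 1 x9) (A (M 1 x18) (M 0
 C))))<|b (a (A (M 1 x0) (A (M 1 x9) (M 2 C))) (A (M 1 x10) (A (M 1 x18) (M 0 C))))<|b (a (A (M 1 x0) (A (M 1 x9) (A (M 1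
 x10) (A (M 1 x18) (M 0 C))))) (M 2 C))<|b (a (A (M 1 x4) (A (M 1 x7) (A (M 1 x17) (M 0 C)))) (A (M 1 x1) (M 0 C)))<|
 b (a (A (M 1 x6) (M 4 C)) (A (M 1 x2) (A (M 1 x16) (A (M 1 x21) (M 0 C)))))<|b (a (A (M 1 x13) (A (M 1 x14) (A (M 1 x20) (M
 0 C)))) (A (M 1 x15) (M 0 C)))<|b (a (A (M 1 x3) (A (M 1 x8) (A (M 1 x22) (A (M 1 x23) (M 0 C))))) (M 2 C))<|b (a (A (M 1
 x9) (A (M 1 x10) (M 2 C))) (A (M 1 x0) (A (M 1 x18) (M 0 C))))<|b (a (A (M 1 x17) (M 4 C)) (A (M 1 x1) (A (M 1 x4) (A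
 (M 1 x7) (M 0 C)))))<|b (a (A (M 1 x11) (M 4 C)) (A (M 1 x5) (A (M 1 x12) (A (M 1 x19) (M 0 C)))))<|b (a (A (M 1 x5) (M 4
 C)) (A (M 1 x11) (A (M 1 x12) (A (M 1 x19) (M 0 C)))))<|c) :type_of% (o _)))

theorem f4_eq : f4 = fnOf 24 m4 := rfl

/-- the letter 5 -/
def m5 : List Row := (beta% delta% lq26d9c69aa0 fun a b c _ _ _ _ _ _ _ _ _ _ _ _ _ _ =>
 (b (a (a (b (a 2 1)<|c) 0)<|a c 0)<|b (a (a c 2)<|a (b (a 14 1)<|c) 0)<|b (a (a (b (a 0 1)<|c) 0)<|a c 0)<|b (a (a (b (a 3 1)<|c) 0)<|a c 0)<|b (a (a (b (a 20 1)<|c) 0)<|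
 a c 0)<|b (a (a (b (a 5 1)<|c) 0)<|a c 0)<|b (a (a c 2)<|a (b (a 9 1)<|c) 0)<|b (a (a (b (a 13 1)<|c) 0)<|a c 0)<|b (a (a (b (a 8 1)<|c) 0)<|a c 0)<|b (a (a c 2)<|
 a (b (a 6 1)<|c) 0)<|b (a (a (b (a 21 1)<|c) 0)<|a c 0)<|b (a (a (b (a 11 1)<|c) 0)<|a c 0)<|b (a (a (b (a 12 1)<|c) 0)<|a c 0)<|b (a (a (b (a 7 1)<|c) 0)<|a c 0)<|
 b (a (a c 2)<|a (b (a 1 1)<|c) 0)<|b (a (a c 2)<|a (b (a 17 1)<|c) 0)<|b (a (a (b (a 18 1)<|c) 0)<|a c 0)<|b (a (a c 2)<|a (b (a 15 1)<|c) 0)<|b (a (a (b (a 16 1)<|c) 0)<|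
 a c 0)<|b (a (a (b (a 19 1)<|c) 0)<|a c 0)<|b (a (a (b (a 4 1)<|c) 0)<|a c 0)<|b (a (a (b (a 10 1)<|c) 0)<|a c 0)<|b (a (a (b (a 22 1)<|c) 0)<|a c 0)<|b (a (a (b (a 23
 1)<|c) 0)<|a c 0)<|c))

/-- the function of the letter 5 -/
def f5 (C : ℕ) : Fn (List (ℕ × ℕ)) 24 := (beta% delta% lq26d9c69aa0 fun a b c _ _ _ _ _ _ _ o _ _ _ _ _ _ =>
 fun (
 x0 x1 x2 x3 x4 x5 x6 x7 x8 x9 x10 x11 x12 x13 x14 x15 x16 x17 x18 x19 x20 x21 x22 x23 : ℕ) => ((b (a (A (M 1 x2) (M 0 C)) (M 0 C))<|b (a (M 2 C) (A (M 1 x14) (M 0 C)))<|b (a (A (M 1 x0) (M 0 C)) (M 0 C))<|b (a (A (M 1 x3) (M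
 0 C)) (M 0 C))<|b (a (A (M 1 x20) (M 0 C)) (M 0 C))<|b (a (A (M 1 x5) (M 0 C)) (M 0 C))<|b (a (M 2 C) (A (M 1 x9) (M 0 C)))<|
 b (a (A (M 1 x13) (M 0 C)) (M 0 C))<|b (a (A (M 1 x8) (M 0 C)) (M 0 C))<|b (a (M 2 C) (A (M 1 x6) (M 0 C)))<|b (a (A (M 1 x21) (M
 0 C)) (M 0 C))<|b (a (A (M 1 x11) (M 0 C)) (M 0 C))<|b (a (A (M 1 x12) (M 0 C)) (M 0 C))<|b (a (A (M 1 x7) (M 0 C)) (M 0
 C))<|b (a (M 2 C) (A (M 1 x1) (M 0 C)))<|b (a (M 2 C) (A (M 1 x17) (M 0 C)))<|b (a (A (M 1 x18) (M 0 C)) (M 0 C))<|b (a (M 2 C)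
 (A (M 1 x15) (M 0 C)))<|b (a (A (M 1 x16) (M 0 C)) (M 0 C))<|b (a (A (M 1 x19) (M 0 C)) (M 0 C))<|b (a (A (M 1 x4) (M 0 C))
 (M 0 C))<|b (a (A (M 1 x10) (M 0 C)) (M 0 C))<|b (a (A (M 1 x22) (M 0 C)) (M 0 C))<|b (a (A (M 1 x23) (M 0 C)) (M 0 C))<|c) :type_of% (o _)))

theorem f5_eq : f5 = fnOf 24 m5 := rfl

/-- the letter 6 -/
def m6 : List Row := (beta% delta% lq26d9c69aa0 fun a b c _ _ _ _ _ _ _ _ _ _ _ _ _ _ =>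
 (b (a (a c 2)<|a (b (a 1 1)<|c) 0)<|b (a (a c 2)<|a (b (a 0 1)<|c) 0)<|b (a (a c 2)<|a (b (a 14 1)<|c) 0)<|b (a (a (b (a 3 1)<|c) 0)<|a c 0)<|b (a (a c 2)<|a (b (a 9 1)<|c)
 0)<|b (a (a (b (a 5 1)<|c) 0)<|a c 0)<|b (a (a c 2)<|a (b (a 20 1)<|c) 0)<|b (a (a c 2)<|a (b (a 18 1)<|c) 0)<|b (a (a (b (a 8 1)<|c) 0)<|a c 0)<|b (a (a c 2)<|a (b (a 4
 1)<|c) 0)<|b (a (a (b (a 17 1)<|c) 0)<|a c 0)<|b (a (a (b (a 11 1)<|c) 0)<|a c 0)<|b (a (a (b (a 12 1)<|c) 0)<|a c 0)<|b (a (a (b (a 16 1)<|c) 0)<|a c 0)<|b (a (a c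
 2)<|a (b (a 2 1)<|c) 0)<|b (a (a (b (a 21 1)<|c) 0)<|a c 0)<|b (a (a (b (a 13 1)<|c) 0)<|a c 0)<|b (a (a (b (a 10 1)<|c) 0)<|a c 0)<|b (a (a c 2)<|a (b (a 7 1)<|c) 0)<|
 b (a (a (b (a 19 1)<|c) 0)<|a c 0)<|b (a (a c 2)<|a (b (a 6 1)<|c) 0)<|b (a (a (b (a 15 1)<|c) 0)<|a c 0)<|b (a (a (b (a 22 1)<|c) 0)<|a c 0)<|b (a (a (b (a 23 1)<|c) 0)<|
 a c 0)<|c))

/-- the function of the letter 6 -/
def f6 (C : ℕ) : Fn (List (ℕ × ℕ)) 24 := (beta% delta% lq26d9c69aa0 fun a b c _ _ _ _ _ _ _ o _ _ _ _ _ _ =>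
 fun (
 x0 x1 x2 x3 x4 x5 x6 x7 x8 x9 x10 x11 x12 x13 x14 x15 x16 x17 x18 x19 x20 x21 x22 x23 : ℕ) => ((b (a (M 2 C) (A (M 1 x1) (M 0 C)))<|b (a (M 2 C) (A (M 1 x0) (M 0 C)))<|b (a (M 2 C) (A (M 1 x14) (M 0 C)))<|b (a (A (M 1 x3) (M
 0 C)) (M 0 C))<|b (a (M 2 C) (A (M 1 x9) (M 0 C)))<|b (a (A (M 1 x5) (M 0 C)) (M 0 C))<|b (a (M 2 C) (A (M 1 x20) (M 0 C)))<|
 b (a (M 2 C) (A (M 1 x18) (M 0 C)))<|b (a (A (M 1 x8) (M 0 C)) (M 0 C))<|b (a (M 2 C) (A (M 1 x4) (M 0 C)))<|b (a (A (M 1 x17) (M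
 0 C)) (M 0 C))<|b (a (A (M 1 x11) (M 0 C)) (M 0 C))<|b (a (A (M 1 x12) (M 0 C)) (M 0 C))<|b (a (A (M 1 x16) (M 0 C)) (M 0
 C))<|b (a (M 2 C) (A (M 1 x2) (M 0 C)))<|b (a (A (M 1 x21) (M 0 C)) (M 0 C))<|b (a (A (M 1 x13) (M 0 C)) (M 0 C))<|b (a (A (M 1
 x10) (M 0 C)) (M 0 C))<|b (a (M 2 C) (A (M 1 x7) (M 0 C)))<|b (a (A (M 1 x19) (M 0 C)) (M 0 C))<|b (a (M 2 C) (A (M 1 x6) (M
 0 C)))<|b (a (A (M 1 x15) (M 0 C)) (M 0 C))<|b (a (A (M 1 x22) (M 0 C)) (M 0 C))<|b (a (A (M 1 x23) (M 0 C)) (M 0 C))<|c) :type_of% (o _)))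

theorem f6_eq : f6 = fnOf 24 m6 := rfl

/-- the letter 7 -/
def m7 : List Row := (beta% delta% lq26d9c69aa0 fun a b c _ _ _ _ _ _ _ _ _ _ _ _ _ _ =>
 (b (a (a (b (a 0 1)<|b (a 4 1)<|b (a 6 1)<|c) 0)<|a (b (a 14 1)<|c) 0)<|b (a (a (b (a 1 1)<|b (a 9 1)<|b (a 20 1)<|c) 0)<|a (b (a 2 1)<|c) 0)<|b (a (a (b (a 1 1)<|b (a 2 1)<|
 b (a 20 1)<|c) 0)<|a (b (a 9 1)<|c) 0)<|b (a (a (b (a 3 1)<|b (a 22 1)<|c) 2)<|a (b (a 8 1)<|b (a 19 1)<|c) 0)<|b (a (a (b (a 4 1)<|b (a 6 1)<|b (a 14 1)<|c) 0)<|a (b (a 0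
 1)<|c) 0)<|b (a (a (b (a 5 1)<|b (a 11 1)<|b (a 23 1)<|c) 0)<|a (b (a 12 1)<|c) 0)<|b (a (a (b (a 6 1)<|c) 4)<|a (b (a 0 1)<|b (a 4 1)<|b (a 14 1)<|c) 0)<|b (a (a (b (a 7 1)<|c)
 4)<|a (b (a 10 1)<|b (a 15 1)<|b (a 16 1)<|c) 0)<|b (a (a (b (a 3 1)<|b (a 8 1)<|c) 2)<|a (b (a 19 1)<|b (a 22 1)<|c) 0)<|b (a (a (b (a 2 1)<|b (a 9 1)<|b (a 20 1)<|c)
 0)<|a (b (a 1 1)<|c) 0)<|b (a (a (b (a 7 1)<|b (a 10 1)<|b (a 15 1)<|c) 0)<|a (b (a 16 1)<|c) 0)<|b (a (a (b (a 11 1)<|c) 4)<|a (b (a 5 1)<|b (a 12 1)<|b (a 23 1)<|c) 0)<|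
 b (a (a (b (a 5 1)<|b (a 11 1)<|b (a 12 1)<|c) 0)<|a (b (a 23 1)<|c) 0)<|b (a (a (b (a 13 1)<|b (a 17 1)<|c) 2)<|a (b (a 18 1)<|b (a 21 1)<|c) 0)<|b (a (a (b (a 0 1)<|b (a 6
 1)<|b (a 14 1)<|c) 0)<|a (b (a 4 1)<|c) 0)<|b (a (a (b (a 7 1)<|b (a 15 1)<|b (a 16 1)<|c) 0)<|a (b (a 10 1)<|c) 0)<|b (a (a (b (a 7 1)<|b (a 10 1)<|b (a 16 1)<|c) 0)<|
 a (b (a 15 1)<|c) 0)<|b (a (a (b (a 17 1)<|b (a 21 1)<|c) 2)<|a (b (a 13 1)<|b (a 18 1)<|c) 0)<|b (a (a (b (a 13 1)<|b (a 17 1)<|b (a 18 1)<|b (a 21 1)<|c) 0)<|a c 2)<|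
 b (a (a (b (a 3 1)<|b (a 8 1)<|b (a 19 1)<|b (a 22 1)<|c) 0)<|a c 2)<|b (a (a (b (a 20 1)<|c) 4)<|a (b (a 1 1)<|b (a 2 1)<|b (a 9 1)<|c) 0)<|b (a (a (b (a 13 1)<|b (a 21
 1)<|c) 2)<|a (b (a 17 1)<|b (a 18 1)<|c) 0)<|b (a (a (b (a 8 1)<|b (a 22 1)<|c) 2)<|a (b (a 3 1)<|b (a 19 1)<|c) 0)<|b (a (a (b (a 11 1)<|b (a 12 1)<|b (a 23 1)<|c) 0)<|
 a (b (a 5 1)<|c) 0)<|c))

/-- the function of the letter 7 -/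
def f7 (C : ℕ) : Fn (List (ℕ × ℕ)) 24 := (beta% delta% lq26d9c69aa0 fun a b c _ _ _ _ _ _ _ o _ _ _ _ _ _ =>
 fun (
 x0 x1 x2 x3 x4 x5 x6 x7 x8 x9 x10 x11 x12 x13 x14 x15 x16 x17 x18 x19 x20 x21 x22 x23 : ℕ) => ((b (a (A (M 1 x0) (A (M 1 x4) (A (M 1 x6) (M 0 C)))) (A (M 1 x14) (M 0 C)))<|b (a (A (M 1 x1) (A (M 1 x9) (A (M 1 x20) (M 0
 C)))) (A (M 1 x2) (M 0 C)))<|b (a (A (M 1 x1) (A (M 1 x2) (A (M 1 x20) (M 0 C)))) (A (M 1 x9) (M 0 C)))<|b (a (A (M 1 x3)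
 (A (M 1 x22) (M 2 C))) (A (M 1 x8) (A (M 1 x19) (M 0 C))))<|b (a (A (M 1 x4) (A (M 1 x6) (A (M 1 x14) (M 0 C)))) (A (M
 1 x0) (M 0 C)))<|b (a (A (M 1 x5) (A (M 1 x11) (A (M 1 x23) (M 0 C)))) (A (M 1 x12) (M 0 C)))<|b (a (A (M 1 x6) (M 4 C))
 (A (M 1 x0) (A (M 1 x4) (A (M 1 x14) (M 0 C)))))<|b (a (A (M 1 x7) (M 4 C)) (A (M 1 x10) (A (M 1 x15) (A (M 1 x16) (M 0
 C)))))<|b (a (A (M 1 x3) (A (M 1 x8) (M 2 C))) (A (M 1 x19) (A (M 1 x22) (M 0 C))))<|b (a (A (M 1 x2) (A (M 1 x9) (A (M 1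
 x20) (M 0 C)))) (A (M 1 x1) (M 0 C)))<|b (a (A (M 1 x7) (A (M 1 x10) (A (M 1 x15) (M 0 C)))) (A (M 1 x16) (M 0 C)))<|
 b (a (A (M 1 x11) (M 4 C)) (A (M 1 x5) (A (M 1 x12) (A (M 1 x23) (M 0 C)))))<|b (a (A (M 1 x5) (A (M 1 x11) (A (M 1 x12) (M
 0 C)))) (A (M 1 x23) (M 0 C)))<|b (a (A (M 1 x13) (A (M 1 x17) (M 2 C))) (A (M 1 x18) (A (M 1 x21) (M 0 C))))<|b (a (A (M
 1 x0) (A (M 1 x6) (A (M 1 x14) (M 0 C)))) (A (M 1 x4) (M 0 C)))<|b (a (A (M 1 x7) (A (M 1 x15) (A (M 1 x16) (M 0 C))))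
 (A (M 1 x10) (M 0 C)))<|b (a (A (M 1 x7) (A (M 1 x10) (A (M 1 x16) (M 0 C)))) (A (M 1 x15) (M 0 C)))<|b (a (A (M 1 x17) (A
 (M 1 x21) (M 2 C))) (A (M 1 x13) (A (M 1 x18) (M 0 C))))<|b (a (A (M 1 x13) (A (M 1 x17) (A (M 1 x18) (A (M 1 x21) (M 0
 C))))) (M 2 C))<|b (a (A (M 1 x3) (A (M 1 x8) (A (M 1 x19) (A (M 1 x22) (M 0 C))))) (M 2 C))<|b (a (A (M 1 x20) (M 4 C))
 (A (M 1 x1) (A (M 1 x2) (A (M 1 x9) (M 0 C)))))<|b (a (A (M 1 x13) (A (M 1 x21) (M 2 C))) (A (M 1 x17) (A (M 1 x18) (M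
 0 C))))<|b (a (A (M 1 x8) (A (M 1 x22) (M 2 C))) (A (M 1 x3) (A (M 1 x19) (M 0 C))))<|b (a (A (M 1 x11) (A (M 1 x12) (A (M
 1 x23) (M 0 C)))) (A (M 1 x5) (M 0 C)))<|c) :type_of% (o _)))

theorem f7_eq : f7 = fnOf 24 m7 := rfl

/-- the letter 8 -/
def m8 : List Row := (beta% delta% lq26d9c69aa0 fun a b c _ _ _ _ _ _ _ _ _ _ _ _ _ _ =>
 (b (a (a c 2)<|a (b (a 0 1)<|c) 0)<|b (a (a c 2)<|a (b (a 1 1)<|c) 0)<|b (a (a c 2)<|a (b (a 2 1)<|c) 0)<|b (a (a c 2)<|a (b (a 3 1)<|c) 0)<|b (a (a c 2)<|a (b (a 4 1)<|c)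
 0)<|b (a (a c 2)<|a (b (a 5 1)<|c) 0)<|b (a (a c 2)<|a (b (a 6 1)<|c) 0)<|b (a (a c 2)<|a (b (a 7 1)<|c) 0)<|b (a (a c 2)<|a (b (a 8 1)<|c) 0)<|b (a (a c 2)<|a (b (a 9
 1)<|c) 0)<|b (a (a c 2)<|a (b (a 10 1)<|c) 0)<|b (a (a c 2)<|a (b (a 11 1)<|c) 0)<|b (a (a c 2)<|a (b (a 12 1)<|c) 0)<|b (a (a c 2)<|a (b (a 13 1)<|c) 0)<|b (a (a c
 2)<|a (b (a 14 1)<|c) 0)<|b (a (a c 2)<|a (b (a 15 1)<|c) 0)<|b (a (a c 2)<|a (b (a 16 1)<|c) 0)<|b (a (a c 2)<|a (b (a 17 1)<|c) 0)<|b (a (a c 2)<|a (b (a 18 1)<|c)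
 0)<|b (a (a c 2)<|a (b (a 19 1)<|c) 0)<|b (a (a c 2)<|a (b (a 20 1)<|c) 0)<|b (a (a c 2)<|a (b (a 21 1)<|c) 0)<|b (a (a c 2)<|a (b (a 22 1)<|c) 0)<|b (a (a c 2)<|
 a (b (a 23 1)<|c) 0)<|c))

/-- the function of the letter 8 -/
def f8 (C : ℕ) : Fn (List (ℕ × ℕ)) 24 := (beta% delta% lq26d9c69aa0 fun a b c _ _ _ _ _ _ _ o _ _ _ _ _ _ =>
 fun (
 x0 x1 x2 x3 x4 x5 x6 x7 x8 x9 x10 x11 x12 x13 x14 x15 x16 x17 x18 x19 x20 x21 x22 x23 : ℕ) => ((b (a (M 2 C) (A (M 1 x0) (M 0 C)))<|b (a (M 2 C) (A (M 1 x1) (M 0 C)))<|b (a (M 2 C) (A (M 1 x2) (M 0 C)))<|b (a (M 2 C) (A (M 1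
 x3) (M 0 C)))<|b (a (M 2 C) (A (M 1 x4) (M 0 C)))<|b (a (M 2 C) (A (M 1 x5) (M 0 C)))<|b (a (M 2 C) (A (M 1 x6) (M 0 C)))<|
 b (a (M 2 C) (A (M 1 x7) (M 0 C)))<|b (a (M 2 C) (A (M 1 x8) (M 0 C)))<|b (a (M 2 C) (A (M 1 x9) (M 0 C)))<|b (a (M 2 C) (A (M 1
 x10) (M 0 C)))<|b (a (M 2 C) (A (M 1 x11) (M 0 C)))<|b (a (M 2 C) (A (M 1 x12) (M 0 C)))<|b (a (M 2 C) (A (M 1 x13) (M 0
 C)))<|b (a (M 2 C) (A (M 1 x14) (M 0 C)))<|b (a (M 2 C) (A (M 1 x15) (M 0 C)))<|b (a (M 2 C) (A (M 1 x16) (M 0 C)))<|b (a (M 2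
 C) (A (M 1 x17) (M 0 C)))<|b (a (M 2 C) (A (M 1 x18) (M 0 C)))<|b (a (M 2 C) (A (M 1 x19) (M 0 C)))<|b (a (M 2 C) (A (M 1
 x20) (M 0 C)))<|b (a (M 2 C) (A (M 1 x21) (M 0 C)))<|b (a (M 2 C) (A (M 1 x22) (M 0 C)))<|b (a (M 2 C) (A (M 1 x23) (M 0 C)))<|c) :type_of% (o _)))

theorem f8_eq : f8 = fnOf 24 m8 := rfl

/-- the letter 9 -/
def m9 : List Row := (beta% delta% lq26d9c69aa0 fun a b c _ _ _ _ _ _ _ _ _ _ _ _ _ _ =>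
 (b (a (a (b (a 20 1)<|c) 0)<|a c 0)<|b (a (a c 2)<|a (b (a 4 1)<|c) 0)<|b (a (a c 2)<|a (b (a 6 1)<|c) 0)<|b (a (a c 2)<|a (b (a 5 1)<|c) 0)<|b (a (a (b (a 1 1)<|c) 0)<|a c
 0)<|b (a (a (b (a 3 1)<|c) 0)<|a c 0)<|b (a (a (b (a 2 1)<|c) 0)<|a c 0)<|b (a (a c 2)<|a (b (a 17 1)<|c) 0)<|b (a (a (b (a 12 1)<|c) 0)<|a c 0)<|b (a (a (b (a 14 1)<|c)
 0)<|a c 0)<|b (a (a (b (a 13 1)<|c) 0)<|a c 0)<|b (a (a c 2)<|a (b (a 22 1)<|c) 0)<|b (a (a c 2)<|a (b (a 8 1)<|c) 0)<|b (a (a c 2)<|a (b (a 10 1)<|c) 0)<|b (a (a c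
 2)<|a (b (a 9 1)<|c) 0)<|b (a (a (b (a 18 1)<|c) 0)<|a c 0)<|b (a (a c 2)<|a (b (a 21 1)<|c) 0)<|b (a (a (b (a 7 1)<|c) 0)<|a c 0)<|b (a (a c 2)<|a (b (a 15 1)<|c) 0)<|
 b (a (a c 2)<|a (b (a 23 1)<|c) 0)<|b (a (a c 2)<|a (b (a 0 1)<|c) 0)<|b (a (a (b (a 16 1)<|c) 0)<|a c 0)<|b (a (a (b (a 11 1)<|c) 0)<|a c 0)<|b (a (a (b (a 19 1)<|c) 0)<|
 a c 0)<|c))

/-- the function of the letter 9 -/
def f9 (C : ℕ) : Fn (List (ℕ × ℕ)) 24 := (beta% delta% lq26d9c69aa0 fun a b c _ _ _ _ _ _ _ o _ _ _ _ _ _ =>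
 fun (
 x0 x1 x2 x3 x4 x5 x6 x7 x8 x9 x10 x11 x12 x13 x14 x15 x16 x17 x18 x19 x20 x21 x22 x23 : ℕ) => ((b (a (A (M 1 x20) (M 0 C)) (M 0 C))<|b (a (M 2 C) (A (M 1 x4) (M 0 C)))<|b (a (M 2 C) (A (M 1 x6) (M 0 C)))<|b (a (M 2 C) (A (M
 1 x5) (M 0 C)))<|b (a (A (M 1 x1) (M 0 C)) (M 0 C))<|b (a (A (M 1 x3) (M 0 C)) (M 0 C))<|b (a (A (M 1 x2) (M 0 C)) (M 0 C))<|
 b (a (M 2 C) (A (M 1 x17) (M 0 C)))<|b (a (A (M 1 x12) (M 0 C)) (M 0 C))<|b (a (A (M 1 x14) (M 0 C)) (M 0 C))<|b (a (A (M 1 x13)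
 (M 0 C)) (M 0 C))<|b (a (M 2 C) (A (M 1 x22) (M 0 C)))<|b (a (M 2 C) (A (M 1 x8) (M 0 C)))<|b (a (M 2 C) (A (M 1 x10) (M 0
 C)))<|b (a (M 2 C) (A (M 1 x9) (M 0 C)))<|b (a (A (M 1 x18) (M 0 C)) (M 0 C))<|b (a (M 2 C) (A (M 1 x21) (M 0 C)))<|b (a (A (M 1
 x7) (M 0 C)) (M 0 C))<|b (a (M 2 C) (A (M 1 x15) (M 0 C)))<|b (a (M 2 C) (A (M 1 x23) (M 0 C)))<|b (a (M 2 C) (A (M 1 x0) (M
 0 C)))<|b (a (A (M 1 x16) (M 0 C)) (M 0 C))<|b (a (A (M 1 x11) (M 0 C)) (M 0 C))<|b (a (A (M 1 x19) (M 0 C)) (M 0 C))<|c) :type_of% (o _)))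

theorem f9_eq : f9 = fnOf 24 m9 := rfl

/-- the letters -/
def ms : List (List Row) := [m0, m1, m2, m3, m4, m5, m6, m7, m8, m9]

/-- the functions -/
def fs : List (ℕ → Fn (List (ℕ × ℕ)) 24) := [f0, f1, f2, f3, f4, f5, f6, f7, f8, f9]

/-- the denominators -/
def sc : List ℕ := [1, 4, 1, 1, 2, 1, 1, 2, 1, 1]

private noncomputable def _root_.Cfsg.Agent.LsF.f1a70d9_0 : {f // @Cfsg.Agent.TAB.F22.sgn = f} := ⟨_, by first | (delta Cfsg.Agent.TAB.F22.sgn; rewrite [Cfsg.Agent.LsF.ineg_pat, Cfsg.Agent.LsF.icast_pat, Cfsg.Agent.LsF.lappend_pat, Cfsg.Agent.LsF.map_eq]; exact rfl) | exact rfl⟩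
private noncomputable def _root_.Cfsg.Agent.LsF.f1a70d9_1 : {f // @Cfsg.Agent.TAB.F22.okR = f} := ⟨_, by first | (delta Cfsg.Agent.TAB.F22.okR; rewrite [Cfsg.Agent.LsF.f1a70d9_0.2, Cfsg.Agent.LsF.nbeq_pat, Cfsg.Agent.LsF.iadd_pat, Cfsg.Agent.LsF.isub_pat, Cfsg.Agent.LsF.icast_pat, Cfsg.Agent.LsF.and_eq, Cfsg.Agent.LsF.decLt_eq, Cfsg.Agent.LsF.all_eq, Cfsg.Agent.LsF.map_eq, Cfsg.Agent.LsF.sum_eq, Cfsg.Agent.LsF.instIAdd_eq, Cfsg.Agent.LsF.instIDecEq_eq, Cfsg.Agent.LsF.idecLe_eq, Cfsg.Agent.LsF.length_eq, Cfsg.Agent.LsF.decide_eq]; exact rfl) | exact rfl⟩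
theorem ok_ms : OkL 24 ms sc fs := by
  refine ⟨?_, by (refine of_decide_eq_true ?_; (try (rewrite [Cfsg.Agent.LsF.f1a70d9_1.2, Cfsg.Agent.LsF.decLt_eq, Cfsg.Agent.LsF.getD_eq, Cfsg.Agent.LsF.dAnd_eq, Cfsg.Agent.LsF.dBoolEq_eq, Cfsg.Agent.LsF.dBallLT_eq, Cfsg.Agent.LsF.length_eq, Cfsg.Agent.LsF.decide_eq])); decide +kernel)⟩
  rw [fs, f0_eq, f1_eq, f2_eq, f3_eq, f4_eq, f5_eq, f6_eq, f7_eq, f8_eq, f9_eq]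
  rfl

/-- the word of an inverse -/
def iw (w : List ℕ) : List ℕ := w.reverse.flatMap (List.replicate 11)

/-- the check of an equation -/
noncomputable def eqB (v w : List ℕ) : Bool := relB 24 ms sc fs 8 (v ++ iw w)

/-- the check of a scalar -/
noncomputable def scB (w : List ℕ) : Bool := eqB w [] || (eqB w [7, 7, 7] || eqB w [7])

/-- the numbers of the generators -/
def ix : Spor.Suz.Gen → ℕ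
  | .a => 0
  | .b => 1
  | .c => 2
  | .d => 3
  | .e => 4
  | .f => 5
  | .g => 6

/-- powers of words -/
def pw (w : List ℕ) (k : ℕ) : List ℕ := (List.replicate k w).flatten

private noncomputable def mu (Mu : ℕ → ℕ → ℕ) (a x : ℕ) : ℕ :=
  Nat.rec (Mu a x) (fun n _ => Nat.rec x (fun _ _ => Mu a x) n) a

private noncomputable def sq (Ad Mu : ℕ → ℕ → ℕ) (u : List ℕ) (c C : ℕ) (l : List (ℕ × ℕ)) : ℕ :=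
  List.rec (Mu c C) (fun p l' ih => List.rec (Nat.rec (mu Mu p.2 (ntd u 0 p.1)) (fun _ _ => Ad (mu Mu p.2 (ntd u 0 p.1)) ih) c)
    (fun _ _ _ => Ad (mu Mu p.2 (ntd u 0 p.1)) ih) l') l

private theorem mu_eq (a x : ℕ) : mu Nat.mul a x = Nat.mul a x := by
  rcases a with _ | _ | a
  · rfl
  · exact (Nat.one_mul x).symm
  · rfl

private theorem sq_eq (u : List ℕ) (c C : ℕ) : ∀ l, sq Nat.add Nat.mul u c C l = sumL u (Nat.mul c C) l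
  | [] => rfl
  | [p] => by
    cases c with
    | zero => exact (mu_eq _ _).trans (congrArg (Nat.add _) (Nat.zero_mul C)).symm
    | succ c => exact congrArg (Nat.add · _) (mu_eq _ _)
  | p :: q :: l => congrArg₂ Nat.add (mu_eq _ _) (sq_eq u c C (q :: l))

private noncomputable def stq (Ad Mu S D O : ℕ → ℕ → ℕ) (e : ℕ → Bool → Bool) (s C : ℕ) (u : List ℕ) (m : List Row) :
    ℕ → (List ℕ → Bool) → Bool :=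
  List.rec (fun r k => e r (k [])) (fun p _ ih r k => Nat.rec false (fun n _ => ih (O r (Nat.succ n)) fun l =>
    k (D (Nat.succ n) s :: l)) (S (sq Ad Mu u p.1.2 C p.1.1) (sq Ad Mu u p.2.2 C p.2.1))) m

private noncomputable def fin (s B r : ℕ) (b : Bool) : Bool :=
  Bool.rec false (Bool.rec false b (Nat.ble r (Nat.mul s B))) (Nat.beq (Nat.mod r s) 0)

private theorem stq_spec {j C B : ℕ} {u : List ℕ} : ∀ (m : List Row) (r : ℕ) (k : List ℕ → Bool),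
    stq Nat.add Nat.mul Nat.sub Nat.div Nat.lor (fin (2 ^ j) B) (2 ^ j) C u m r k = true →
      (r % 2 ^ j = 0 ∧ r ≤ 2 ^ j * B) ∧ ∃ z, List.Forall₂ (fun y p => 2 ^ j * y + p.2 = p.1) z (m.map (pq C u)) ∧
        (∀ y ∈ z, y ≤ B) ∧ k z = true
  | [], r, k, h => by
    have h1 : (Bool.rec false (Bool.rec false (k []) (Nat.ble r (2 ^ j * B))) (Nat.beq (r % 2 ^ j) 0) : Bool) = true := h
    cases h2 : Nat.beq (r % 2 ^ j) 0 with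
    | false => rw [h2] at h1; cases h1
    | true =>
      cases h3 : Nat.ble r (2 ^ j * B) with
      | false => rw [h2, h3] at h1; cases h1
      | true =>
        rw [h2, h3] at h1
        exact ⟨⟨Nat.eq_of_beq_eq_true h2, Nat.le_of_ble_eq_true h3⟩, [], List.Forall₂.nil, fun _ h => (nomatch h), h1⟩
  | p :: m, r, k, h => by
    have h1 : (Nat.rec false (fun n _ => stq Nat.add Nat.mul Nat.sub Nat.div Nat.lor (fin (2 ^ j) B) (2 ^ j) C u m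
      (r ||| (n + 1)) fun l => k ((n + 1) / 2 ^ j :: l))
      (sq Nat.add Nat.mul u p.1.2 C p.1.1 - sq Nat.add Nat.mul u p.2.2 C p.2.1) : Bool) = true := h
    rw [sq_eq, sq_eq] at h1
    cases h2 : sumL u (Nat.mul p.1.2 C) p.1.1 - sumL u (Nat.mul p.2.2 C) p.2.1 with
    | zero => rw [h2] at h1; cases h1
    | succ n =>
      rw [h2] at h1
      obtain ⟨⟨h3, h4⟩, z, h5, h6, h7⟩ := stq_spec m _ _ h1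
      rw [Nat.or_mod_two_pow, Nat.or_eq_zero_iff] at h3
      refine ⟨⟨h3.1, Nat.left_le_or.trans h4⟩, _, List.Forall₂.cons ?_ h5, List.forall_mem_cons.2
        ⟨Nat.div_le_of_le_mul (Nat.right_le_or.trans h4), h6⟩, h7⟩
      show 2 ^ j * ((n + 1) / 2 ^ j) + sumL u (Nat.mul p.2.2 C) p.2.1 = sumL u (Nat.mul p.1.2 C) p.1.1
      rw [Nat.mul_div_cancel' (Nat.dvd_of_mod_eq_zero h3.2)]
      omega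

private theorem stp_of {s : ℕ} (hs : 0 < s) {z : List ℕ} {l : List (ℕ × ℕ)}
    (h : List.Forall₂ (fun y p => s * y + p.2 = p.1) z l) : ∀ k : List ℕ → Bool, stp s l k = k z := by
  induction h with
  | nil => exact fun _ => rfl
  | @cons y p z l h1 _ ih =>
    intro k
    show (frc p.1 fun P => frc p.2 fun Q => frc ((P - Q) / s) fun y =>
      (Bool.rec false (stp s l fun l' => k (y :: l')) (Nat.beq (s * y + Q) P) : Bool)) = _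
    rw [frc_eq, frc_eq, frc_eq, ← h1, Nat.add_sub_cancel, Nat.mul_div_cancel_left _ hs, Nat.beq_refl]
    exact ih _

private noncomputable def mo (S : ℕ → ℕ → ℕ) (B : ℕ) (u : List ℕ) (d : List (ℕ × Bool)) : List ℕ :=
  List.rec [] (fun p _ ih => (Bool.rec (ntd u 0 p.1) (S B (ntd u 0 p.1)) p.2 : ℕ) :: ih) d

private def mr (p : ℕ × Bool) : Row := (beta% delta% lq26d9c69aa0 fun a b c _ _ _ _ _ _ _ _ _ _ _ _ _ _ =>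
 Bool.rec (a (a (b (a (p.1) 1)<|c) 0)<|a c 0) (a (a c 2)<|a (b (a (p.1) 1)<|c) 0) p.2)

private theorem mo_spec {C : ℕ} {u : List ℕ} (hu : ∀ y ∈ u, y ≤ 2 * C) : ∀ d : List (ℕ × Bool),
    List.Forall₂ (fun y p => 1 * y + p.2 = p.1) (mo Nat.sub (2 * C) u d) ((d.map mr).map (pq C u)) ∧
      ∀ y ∈ mo Nat.sub (2 * C) u d, y ≤ 2 * C
  | [] => ⟨List.Forall₂.nil, fun _ h => (nomatch h)⟩
  | (j, b) :: d => by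
    have h : ntd u 0 j ≤ 2 * C := (ntd_mem u 0 j).elim (fun h => h.trans_le (Nat.zero_le _)) (hu _)
    cases b with
    | false =>
      exact ⟨List.Forall₂.cons (rfl : 1 * ntd u 0 j + 0 * C = 1 * ntd u 0 j + 0 * C) (mo_spec hu d).1,
        List.forall_mem_cons.2 ⟨h, (mo_spec hu d).2⟩⟩
    | true =>
      exact ⟨List.Forall₂.cons (by omega : 1 * (2 * C - ntd u 0 j) + (1 * ntd u 0 j + 0 * C) = 2 * C) (mo_spec hu d).1,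
        List.forall_mem_cons.2 ⟨Nat.sub_le _ _, (mo_spec hu d).2⟩⟩

private def RR (C : ℕ) (K : Fn Bool 24) (k : List ℕ → Bool) : Prop :=
  ∀ u : List ℕ, u.length = 24 → (∀ y ∈ u, y ≤ 2 * C) → ap 24 K u = true → k u = true

private theorem rr_mo {C : ℕ} {K : Fn Bool 24} {k : List ℕ → Bool} (h : RR C K k) (d : List (ℕ × Bool)) (hd : d.length = 24) :
    RR C (lam 24 fun u => ap 24 K (mo Nat.sub (2 * C) u d)) fun u => stp 1 (ap 24 (fnOf 24 (d.map mr) C) u) k := by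
  intro u hl hu h1
  rw [ap_lam _ _ _ hl] at h1
  have h2 := mo_spec hu d
  show stp 1 (ap 24 (lam 24 fun u => (d.map mr).map (pq C u)) u) k = true
  rw [ap_lam _ _ _ hl, stp_of Nat.one_pos h2.1]
  exact h _ (by rw [h2.1.length_eq, List.length_map, List.length_map, hd]) h2.2 h1

private theorem rr_de {C : ℕ} {K : Fn Bool 24} {k : List ℕ → Bool} (h : RR C K k) (j : ℕ) (m : List Row) (hd : m.length = 24) :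
    RR C (lam 24 fun u => stq Nat.add Nat.mul Nat.sub Nat.div Nat.lor (fin (2 ^ j) (2 * C)) (2 ^ j) C u m 0 (ap 24 K))
      fun u => stp (2 ^ j) (ap 24 (fnOf 24 m C) u) k := by
  intro u hl hu h1
  rw [ap_lam _ _ _ hl] at h1
  obtain ⟨-, z, h2, h3, h4⟩ := stq_spec _ _ _ h1
  show stp (2 ^ j) (ap 24 (lam 24 fun u => m.map (pq C u)) u) k = true
  rw [ap_lam _ _ _ hl, stp_of (Nat.two_pow_pos j) h2]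
  exact h _ (by rw [h2.length_eq, List.length_map, hd]) h3 h4

private def d0 : List (ℕ × Bool) := (beta% delta% lq26d9c69aa0 fun a b c _ g i _ _ _ _ _ _ _ _ _ _ _ =>
 (b (a 0 g)<|b (a 1 g)<|b (a 2 g)<|b (a 3 i)<|b (a 4 g)<|b (a 5 i)<|b (a 6 g)<|b (a 7 g)<|b (a 8 i)<|b (a 9 g)<|
 b (a 10 g)<|b (a 11 i)<|b (a 12 i)<|b (a 13 g)<|b (a 14 g)<|b (a 15 g)<|b (a 16 g)<|b (a 17 g)<|b (a 18 g)<|
 b (a 19 i)<|b (a 20 g)<|b (a 21 g)<|b (a 22 i)<|b (a 23 i)<|c))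

private def g0 (S : ℕ → ℕ → ℕ) (B : ℕ) (K : ℕ → ℕ → ℕ → ℕ → ℕ → ℕ → ℕ → ℕ → ℕ → ℕ → ℕ → ℕ → ℕ → ℕ → ℕ → ℕ → ℕ → ℕ → ℕ → ℕ → ℕ → ℕ → ℕ → ℕ → Bool)
    (x0 x1 x2 x3 x4 x5 x6 x7 x8 x9 x10 x11 x12 x13 x14 x15 x16 x17 x18 x19 x20 x21 x22 x23 : ℕ) : Bool :=
  K x0 x1 x2 (S B x3) x4 (S B x5) x6 x7 (S B x8) x9 x10 (S B x11) (S B x12) x13 x14 x15 x16 x17 x18 (S B x19) x20 x21
  (S B x22) (S B x23)

private theorem g0_eq (S : ℕ → ℕ → ℕ) (B : ℕ) (K : Fn Bool 24) :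
    g0 S B K = lam 24 fun u => ap 24 K (mo S B u d0) := Eq.refl (g0 S B K)

private noncomputable def g1 (Ad Mu S D O : ℕ → ℕ → ℕ) (e : ℕ → Bool → Bool) (s C : ℕ)
    (K : ℕ → ℕ → ℕ → ℕ → ℕ → ℕ → ℕ → ℕ → ℕ → ℕ → ℕ → ℕ → ℕ → ℕ → ℕ → ℕ → ℕ → ℕ → ℕ → ℕ → ℕ → ℕ → ℕ → ℕ → Bool)
    (x0 x1 x2 x3 x4 x5 x6 x7 x8 x9 x10 x11 x12 x13 x14 x15 x16 x17 x18 x19 x20 x21 x22 x23 : ℕ) : Bool :=
  @Nat.rec (fun _ => Bool) false (fun n0 _ => @Nat.rec (fun _ => Bool) false (fun n1 _ => @Nat.rec (fun _ => Bool)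
  false (fun n2 _ => @Nat.rec (fun _ => Bool) false (fun n3 _ => @Nat.rec (fun _ => Bool) false (fun n4 _ => @Nat.rec
  (fun _ => Bool) false (fun n5 _ => @Nat.rec (fun _ => Bool) false (fun n6 _ => @Nat.rec (fun _ => Bool) false (fun
  n7 _ => @Nat.rec (fun _ => Bool) false (fun n8 _ => @Nat.rec (fun _ => Bool) false (fun n9 _ => @Nat.rec (fun _ =>
  Bool) false (fun n10 _ => @Nat.rec (fun _ => Bool) false (fun n11 _ => @Nat.rec (fun _ => Bool) false (fun n12 _ =>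
  @Nat.rec (fun _ => Bool) false (fun n13 _ => @Nat.rec (fun _ => Bool) false (fun n14 _ => @Nat.rec (fun _ => Bool)
  false (fun n15 _ => @Nat.rec (fun _ => Bool) false (fun n16 _ => @Nat.rec (fun _ => Bool) false (fun n17 _ =>
  @Nat.rec (fun _ => Bool) false (fun n18 _ => @Nat.rec (fun _ => Bool) false (fun n19 _ => @Nat.rec (fun _ => Bool)
  false (fun n20 _ => @Nat.rec (fun _ => Bool) false (fun n21 _ => @Nat.rec (fun _ => Bool) false (fun n22 _ =>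
  @Nat.rec (fun _ => Bool) false (fun n23 _ => (beta% delta% lq26d9c69aa0 fun _ _ _ f _ _ _ _ _ _ _ _ _ _ _ _ _ =>
 e (O (O (O (O (O (O (O (O (O (O (O (O (O (O (O (O (O (O (O (O (O (O (O
 (O 0 (f n0)) (f n1)) (f n2)) (f n3)) (f n4)) (f n5)) (f n6))
 (f n7)) (f n8)) (f n9)) (f n10)) (f n11)) (f n12)) (f n13))
 (f n14)) (f n15)) (f n16)) (f n17)) (f n18)) (f n19)) (f n20))
 (f n21)) (f n22)) (f n23)) (K (D (f n0) s) (D (f n1) s) (D (f n2) s) (D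
 (f n3) s) (D (f n4) s) (D (f n5) s) (D (f n6) s) (D (f n7) s) (D (f n8) s)
 (D (f n9) s) (D (f n10) s) (D (f n11) s) (D (f n12) s) (D (f n13) s) (D (f
 n14) s) (D (f n15) s) (D (f n16) s) (D (f n17) s) (D (f n18) s) (D (f n19) s) (D
 (f n20) s) (D (f n21) s) (D (f n22) s) (D (f n23) s)))) (S (Ad x1 (Ad x2 (Ad x3 (Ad x6 (Ad x7
  (Ad x14 (Ad x16 (Ad x20 (Mu 4 C))))))))) (Ad x0 (Ad x4 (Ad x5 (Ad x8 (Ad x9 (Ad x12 (Ad x17 x21))))))))) (S (Ad x0 (Ad x1 (Ad x2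
  (Ad x4 (Ad x12 (Ad x14 (Ad x16 (Ad x17 (Mu 4 C))))))))) (Ad x3 (Ad x5 (Ad x6 (Ad x7 (Ad x8 (Ad x9 (Ad x20 x21))))))))) (S (Ad (Mu 2
  x21) (Mu 12 C)) (Ad (Mu 2 x9) (Ad x10 (Ad x11 (Ad x13 (Ad x15 (Ad x18 (Ad x19 (Ad x22 x23)))))))))) (S (Ad x10 (Ad x11 (Ad x18 (Ad
  (Mu 2 x20) (Ad x23 (Mu 4 C)))))) (Ad (Mu 2 x7) (Ad x13 (Ad x15 (Ad x19 x22)))))) (S (Ad x2 (Ad x8 (Mu 16 C))) (Ad x0 (Ad x1 (Ad x3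
  (Ad x4 (Ad x5 (Ad x6 (Ad x7 (Ad x9 (Ad x12 (Ad x14 (Ad x16 (Ad x17 (Ad x20 x21))))))))))))))) (S (Ad x0 (Ad x2 (Ad x3 (Ad x4 (Ad x6
  (Ad x7 (Ad x8 (Ad x12 (Ad x17 x20))))))))) (Ad x1 (Ad x5 (Ad x9 (Ad x14 (Ad x16 x21))))))) (S (Ad x11 (Ad x15 (Ad (Mu 2 x17) (Ad
  x18 (Ad x22 (Mu 4 C)))))) (Ad (Mu 2 x0) (Ad x10 (Ad x13 (Ad x19 x23)))))) (S (Ad x10 (Ad x15 (Ad (Mu 2 x16) (Ad x22 (Ad x23 (Mu 4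
  C)))))) (Ad x11 (Ad x13 (Ad (Mu 2 x14) (Ad x18 x19)))))) (S (Ad x0 (Ad x3 (Ad x5 (Ad x6 (Ad x8 (Ad x14 (Ad x16 (Ad x17 (Mu 4
  C))))))))) (Ad x1 (Ad x2 (Ad x4 (Ad x7 (Ad x9 (Ad x12 (Ad x20 x21))))))))) (S (Ad x10 (Ad (Mu 2 x14) (Ad x15 (Ad x22 (Ad x23 (Mu 4
  C)))))) (Ad x11 (Ad x13 (Ad (Mu 2 x16) (Ad x18 x19)))))) (S (Ad x1 (Ad x3 (Ad x4 (Ad x5 (Ad x6 (Ad x12 (Mu 8 C))))))) (Ad x0 (Ad
  x2 (Ad x7 (Ad x8 (Ad x9 (Ad x14 (Ad x16 (Ad x17 (Ad x20 x21))))))))))) (S (Ad x10 (Ad (Mu 2 x12) (Ad x13 (Ad x18 (Ad x22 (Mu 4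
  C)))))) (Ad (Mu 2 x4) (Ad x11 (Ad x15 (Ad x19 x23)))))) (S (Ad x0 (Ad x1 (Ad x5 (Ad x7 (Ad x17 (Ad x20 (Mu 8 C))))))) (Ad x2 (Ad
  x3 (Ad x4 (Ad x6 (Ad x8 (Ad x9 (Ad x12 (Ad x14 (Ad x16 x21))))))))))) (S (Ad x4 (Ad x5 (Ad x7 (Ad x8 (Ad x12 (Ad x14 (Ad x16 (Ad
  x20 (Mu 4 C))))))))) (Ad x0 (Ad x1 (Ad x2 (Ad x3 (Ad x6 (Ad x9 (Ad x17 x21))))))))) (S (Ad (Mu 2 x9) (Mu 12 C)) (Ad x10 (Ad x11
  (Ad x13 (Ad x15 (Ad x18 (Ad x19 (Ad (Mu 2 x21) (Ad x22 x23)))))))))) (S (Ad (Mu 2 x1) (Ad (Mu 2 x8) (Ad x10 (Ad x15 (Ad x18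
  x19))))) (Ad x11 (Ad x13 (Ad x22 x23))))) (S (Ad (Mu 2 x7) (Ad x10 (Ad x11 (Ad x18 (Ad x23 (Mu 4 C)))))) (Ad x13 (Ad x15 (Ad x19
  (Ad (Mu 2 x20) x22)))))) (S (Ad (Mu 2 x6) (Ad x13 (Ad x15 (Ad x18 (Ad x23 (Mu 4 C)))))) (Ad (Mu 2 x3) (Ad x10 (Ad x11 (Ad x19
  x22)))))) (S (Ad (Mu 2 x2) (Ad (Mu 2 x5) (Ad x10 (Ad x11 (Ad x13 x15))))) (Ad x18 (Ad x19 (Ad x22 x23))))) (S (Ad (Mu 2 x4) (Ad
  x10 (Ad x13 (Ad x18 (Ad x22 (Mu 4 C)))))) (Ad x11 (Ad (Mu 2 x12) (Ad x15 (Ad x19 x23)))))) (S (Ad (Mu 2 x3) (Ad x13 (Ad x15 (Ad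
  x18 (Ad x23 (Mu 4 C)))))) (Ad (Mu 2 x6) (Ad x10 (Ad x11 (Ad x19 x22)))))) (S (Ad (Mu 2 x2) (Ad (Mu 2 x5) (Ad x18 (Ad x19 (Ad x22
  x23))))) (Ad x10 (Ad x11 (Ad x13 x15))))) (S (Ad (Mu 2 x1) (Ad (Mu 2 x8) (Ad x11 (Ad x13 (Ad x22 x23))))) (Ad x10 (Ad x15 (Ad x18
  x19))))) (S (Ad (Mu 2 x0) (Ad x11 (Ad x15 (Ad x18 (Ad x22 (Mu 4 C)))))) (Ad x10 (Ad x13 (Ad (Mu 2 x17) (Ad x19 x23)))))

private theorem g1_eq (Ad Mu S D O : ℕ → ℕ → ℕ) (e : ℕ → Bool → Bool) (s C : ℕ) (K : Fn Bool 24) :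
    g1 Ad Mu S D O e s C K = lam 24 fun u => stq Ad Mu S D O e s C u m1 0 (ap 24 K) := Eq.refl (g1 Ad Mu S D O e s C K)

private def d2 : List (ℕ × Bool) := (beta% delta% lq26d9c69aa0 fun a b c _ g i _ _ _ _ _ _ _ _ _ _ _ =>
 (b (a 18 i)<|b (a 7 i)<|b (a 16 i)<|b (a 3 g)<|b (a 17 i)<|b (a 5 g)<|b (a 21 i)<|b (a 1 i)<|b (a 8 g)<|b (a 10
 g)<|b (a 9 g)<|b (a 11 g)<|b (a 12 g)<|b (a 14 g)<|b (a 13 g)<|b (a 20 g)<|b (a 2 i)<|b (a 4 i)<|b (a 0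
 i)<|b (a 19 g)<|b (a 15 g)<|b (a 6 i)<|b (a 22 g)<|b (a 23 g)<|c))

private def g2 (S : ℕ → ℕ → ℕ) (B : ℕ) (K : ℕ → ℕ → ℕ → ℕ → ℕ → ℕ → ℕ → ℕ → ℕ → ℕ → ℕ → ℕ → ℕ → ℕ → ℕ → ℕ → ℕ → ℕ → ℕ → ℕ → ℕ → ℕ → ℕ → ℕ → Bool)
    (x0 x1 x2 x3 x4 x5 x6 x7 x8 x9 x10 x11 x12 x13 x14 x15 x16 x17 x18 x19 x20 x21 x22 x23 : ℕ) : Bool :=
  K (S B x18) (S B x7) (S B x16) x3 (S B x17) x5 (S B x21) (S B x1) x8 x10 x9 x11 x12 x14 x13 x20 (S B x2) (S B x4) (S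
  B x0) x19 x15 (S B x6) x22 x23

private theorem g2_eq (S : ℕ → ℕ → ℕ) (B : ℕ) (K : Fn Bool 24) :
    g2 S B K = lam 24 fun u => ap 24 K (mo S B u d2) := Eq.refl (g2 S B K)

private def d3 : List (ℕ × Bool) := (beta% delta% lq26d9c69aa0 fun a b c _ g i _ _ _ _ _ _ _ _ _ _ _ =>
 (b (a 14 g)<|b (a 2 g)<|b (a 1 i)<|b (a 12 i)<|b (a 6 g)<|b (a 8 i)<|b (a 4 i)<|b (a 21 i)<|b (a 5 g)<|b (a 20
 g)<|b (a 13 g)<|b (a 22 g)<|b (a 3 g)<|b (a 10 i)<|b (a 0 i)<|b (a 18 i)<|b (a 17 i)<|b (a 16 g)<|b (a 15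
 g)<|b (a 23 i)<|b (a 9 i)<|b (a 7 g)<|b (a 11 i)<|b (a 19 g)<|c))

private def g3 (S : ℕ → ℕ → ℕ) (B : ℕ) (K : ℕ → ℕ → ℕ → ℕ → ℕ → ℕ → ℕ → ℕ → ℕ → ℕ → ℕ → ℕ → ℕ → ℕ → ℕ → ℕ → ℕ → ℕ → ℕ → ℕ → ℕ → ℕ → ℕ → ℕ → Bool)
    (x0 x1 x2 x3 x4 x5 x6 x7 x8 x9 x10 x11 x12 x13 x14 x15 x16 x17 x18 x19 x20 x21 x22 x23 : ℕ) : Bool :=
  K x14 x2 (S B x1) (S B x12) x6 (S B x8) (S B x4) (S B x21) x5 x20 x13 x22 x3 (S B x10) (S B x0) (S B x18) (S B x17)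
  x16 x15 (S B x23) (S B x9) x7 (S B x11) x19

private theorem g3_eq (S : ℕ → ℕ → ℕ) (B : ℕ) (K : Fn Bool 24) :
    g3 S B K = lam 24 fun u => ap 24 K (mo S B u d3) := Eq.refl (g3 S B K)

private noncomputable def g4 (Ad Mu S D O : ℕ → ℕ → ℕ) (e : ℕ → Bool → Bool) (s C : ℕ)
    (K : ℕ → ℕ → ℕ → ℕ → ℕ → ℕ → ℕ → ℕ → ℕ → ℕ → ℕ → ℕ → ℕ → ℕ → ℕ → ℕ → ℕ → ℕ → ℕ → ℕ → ℕ → ℕ → ℕ → ℕ → Bool)
    (x0 x1 x2 x3 x4 x5 x6 x7 x8 x9 x10 x11 x12 x13 x14 x15 x16 x17 x18 x19 x20 x21 x22 x23 : ℕ) : Bool :=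
  @Nat.rec (fun _ => Bool) false (fun n0 _ => @Nat.rec (fun _ => Bool) false (fun n1 _ => @Nat.rec (fun _ => Bool)
  false (fun n2 _ => @Nat.rec (fun _ => Bool) false (fun n3 _ => @Nat.rec (fun _ => Bool) false (fun n4 _ => @Nat.rec
  (fun _ => Bool) false (fun n5 _ => @Nat.rec (fun _ => Bool) false (fun n6 _ => @Nat.rec (fun _ => Bool) false (fun
  n7 _ => @Nat.rec (fun _ => Bool) false (fun n8 _ => @Nat.rec (fun _ => Bool) false (fun n9 _ => @Nat.rec (fun _ =>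
  Bool) false (fun n10 _ => @Nat.rec (fun _ => Bool) false (fun n11 _ => @Nat.rec (fun _ => Bool) false (fun n12 _ =>
  @Nat.rec (fun _ => Bool) false (fun n13 _ => @Nat.rec (fun _ => Bool) false (fun n14 _ => @Nat.rec (fun _ => Bool)
  false (fun n15 _ => @Nat.rec (fun _ => Bool) false (fun n16 _ => @Nat.rec (fun _ => Bool) false (fun n17 _ =>
  @Nat.rec (fun _ => Bool) false (fun n18 _ => @Nat.rec (fun _ => Bool) false (fun n19 _ => @Nat.rec (fun _ => Bool)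
  false (fun n20 _ => @Nat.rec (fun _ => Bool) false (fun n21 _ => @Nat.rec (fun _ => Bool) false (fun n22 _ =>
  @Nat.rec (fun _ => Bool) false (fun n23 _ => (beta% delta% lq26d9c69aa0 fun _ _ _ f _ _ _ _ _ _ _ _ _ _ _ _ _ =>
 e (O (O (O (O (O (O (O (O (O (O (O (O (O (O (O (O (O (O (O (O (O (O (O
 (O 0 (f n0)) (f n1)) (f n2)) (f n3)) (f n4)) (f n5)) (f n6))
 (f n7)) (f n8)) (f n9)) (f n10)) (f n11)) (f n12)) (f n13))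
 (f n14)) (f n15)) (f n16)) (f n17)) (f n18)) (f n19)) (f n20))
 (f n21)) (f n22)) (f n23)) (K (D (f n0) s) (D (f n1) s) (D (f n2) s) (D
 (f n3) s) (D (f n4) s) (D (f n5) s) (D (f n6) s) (D (f n7) s) (D (f n8) s)
 (D (f n9) s) (D (f n10) s) (D (f n11) s) (D (f n12) s) (D (f n13) s) (D (f
 n14) s) (D (f n15) s) (D (f n16) s) (D (f n17) s) (D (f n18) s) (D (f n19) s) (D
 (f n20) s) (D (f n21) s) (D (f n22) s) (D (f n23) s)))) (S (Ad x5 (Mu 4 C)) (Ad x11 (Ad x12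
  x19)))) (S (Ad x11 (Mu 4 C)) (Ad x5 (Ad x12 x19)))) (S (Ad x17 (Mu 4 C)) (Ad x1 (Ad x4 x7)))) (S (Ad x9 (Ad x10 (Mu 2 C))) (Ad
  x0 x18))) (S (Ad x3 (Ad x8 (Ad x22 x23))) (Mu 2 C))) (S (Ad x13 (Ad x14 x20)) x15)) (S (Ad x6 (Mu 4 C)) (Ad x2 (Ad x16 x21))))
  (S (Ad x4 (Ad x7 x17)) x1)) (S (Ad x0 (Ad x9 (Ad x10 x18))) (Mu 2 C))) (S (Ad x0 (Ad x9 (Mu 2 C))) (Ad x10 x18))) (S (Ad x0 (Ad
  x10 (Mu 2 C))) (Ad x9 x18))) (S (Ad x22 (Ad x23 (Mu 2 C))) (Ad x3 x8))) (S (Ad x8 (Ad x23 (Mu 2 C))) (Ad x3 x22))) (S (Ad x14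
  (Mu 4 C)) (Ad x13 (Ad x15 x20)))) (S (Ad x13 (Mu 4 C)) (Ad x14 (Ad x15 x20)))) (S (Ad x12 (Mu 4 C)) (Ad x5 (Ad x11 x19)))) (S
  (Ad x2 (Ad x6 x21)) x16)) (S (Ad x4 (Mu 4 C)) (Ad x1 (Ad x7 x17)))) (S (Ad x8 (Ad x22 (Mu 2 C))) (Ad x3 x23))) (S (Ad x21 (Mu 4
  C)) (Ad x2 (Ad x6 x16)))) (S (Ad x5 (Ad x11 x12)) x19)) (S (Ad x1 (Ad x4 x17)) x7)) (S (Ad x6 (Ad x16 x21)) x2)) (S (Ad x20
  (Mu 4 C)) (Ad x13 (Ad x14 x15)))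

private theorem g4_eq (Ad Mu S D O : ℕ → ℕ → ℕ) (e : ℕ → Bool → Bool) (s C : ℕ) (K : Fn Bool 24) :
    g4 Ad Mu S D O e s C K = lam 24 fun u => stq Ad Mu S D O e s C u m4 0 (ap 24 K) := Eq.refl (g4 Ad Mu S D O e s C K)

private def d5 : List (ℕ × Bool) := (beta% delta% lq26d9c69aa0 fun a b c _ g i _ _ _ _ _ _ _ _ _ _ _ =>
 (b (a 2 g)<|b (a 14 i)<|b (a 0 g)<|b (a 3 g)<|b (a 20 g)<|b (a 5 g)<|b (a 9 i)<|b (a 13 g)<|b (a 8 g)<|b (a 6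
 i)<|b (a 21 g)<|b (a 11 g)<|b (a 12 g)<|b (a 7 g)<|b (a 1 i)<|b (a 17 i)<|b (a 18 g)<|b (a 15 i)<|b (a 16
 g)<|b (a 19 g)<|b (a 4 g)<|b (a 10 g)<|b (a 22 g)<|b (a 23 g)<|c))

private def g5 (S : ℕ → ℕ → ℕ) (B : ℕ) (K : ℕ → ℕ → ℕ → ℕ → ℕ → ℕ → ℕ → ℕ → ℕ → ℕ → ℕ → ℕ → ℕ → ℕ → ℕ → ℕ → ℕ → ℕ → ℕ → ℕ → ℕ → ℕ → ℕ → ℕ → Bool)
    (x0 x1 x2 x3 x4 x5 x6 x7 x8 x9 x10 x11 x12 x13 x14 x15 x16 x17 x18 x19 x20 x21 x22 x23 : ℕ) : Bool :=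
  K x2 (S B x14) x0 x3 x20 x5 (S B x9) x13 x8 (S B x6) x21 x11 x12 x7 (S B x1) (S B x17) x18 (S B x15) x16 x19 x4 x10
  x22 x23

private theorem g5_eq (S : ℕ → ℕ → ℕ) (B : ℕ) (K : Fn Bool 24) :
    g5 S B K = lam 24 fun u => ap 24 K (mo S B u d5) := Eq.refl (g5 S B K)

private def d6 : List (ℕ × Bool) := (beta% delta% lq26d9c69aa0 fun a b c _ g i _ _ _ _ _ _ _ _ _ _ _ =>
 (b (a 1 i)<|b (a 0 i)<|b (a 14 i)<|b (a 3 g)<|b (a 9 i)<|b (a 5 g)<|b (a 20 i)<|b (a 18 i)<|b (a 8 g)<|b (a 4 i)<|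
 b (a 17 g)<|b (a 11 g)<|b (a 12 g)<|b (a 16 g)<|b (a 2 i)<|b (a 21 g)<|b (a 13 g)<|b (a 10 g)<|b (a 7 i)<|
 b (a 19 g)<|b (a 6 i)<|b (a 15 g)<|b (a 22 g)<|b (a 23 g)<|c))

private def g6 (S : ℕ → ℕ → ℕ) (B : ℕ) (K : ℕ → ℕ → ℕ → ℕ → ℕ → ℕ → ℕ → ℕ → ℕ → ℕ → ℕ → ℕ → ℕ → ℕ → ℕ → ℕ → ℕ → ℕ → ℕ → ℕ → ℕ → ℕ → ℕ → ℕ → Bool)
    (x0 x1 x2 x3 x4 x5 x6 x7 x8 x9 x10 x11 x12 x13 x14 x15 x16 x17 x18 x19 x20 x21 x22 x23 : ℕ) : Bool :=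
  K (S B x1) (S B x0) (S B x14) x3 (S B x9) x5 (S B x20) (S B x18) x8 (S B x4) x17 x11 x12 x16 (S B x2) x21 x13 x10 (S
  B x7) x19 (S B x6) x15 x22 x23

private theorem g6_eq (S : ℕ → ℕ → ℕ) (B : ℕ) (K : Fn Bool 24) :
    g6 S B K = lam 24 fun u => ap 24 K (mo S B u d6) := Eq.refl (g6 S B K)

private noncomputable def g7 (Ad Mu S D O : ℕ → ℕ → ℕ) (e : ℕ → Bool → Bool) (s C : ℕ)
    (K : ℕ → ℕ → ℕ → ℕ → ℕ → ℕ → ℕ → ℕ → ℕ → ℕ → ℕ → ℕ → ℕ → ℕ → ℕ → ℕ → ℕ → ℕ → ℕ → ℕ → ℕ → ℕ → ℕ → ℕ → Bool)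
    (x0 x1 x2 x3 x4 x5 x6 x7 x8 x9 x10 x11 x12 x13 x14 x15 x16 x17 x18 x19 x20 x21 x22 x23 : ℕ) : Bool :=
  @Nat.rec (fun _ => Bool) false (fun n0 _ => @Nat.rec (fun _ => Bool) false (fun n1 _ => @Nat.rec (fun _ => Bool)
  false (fun n2 _ => @Nat.rec (fun _ => Bool) false (fun n3 _ => @Nat.rec (fun _ => Bool) false (fun n4 _ => @Nat.rec
  (fun _ => Bool) false (fun n5 _ => @Nat.rec (fun _ => Bool) false (fun n6 _ => @Nat.rec (fun _ => Bool) false (fun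
  n7 _ => @Nat.rec (fun _ => Bool) false (fun n8 _ => @Nat.rec (fun _ => Bool) false (fun n9 _ => @Nat.rec (fun _ =>
  Bool) false (fun n10 _ => @Nat.rec (fun _ => Bool) false (fun n11 _ => @Nat.rec (fun _ => Bool) false (fun n12 _ =>
  @Nat.rec (fun _ => Bool) false (fun n13 _ => @Nat.rec (fun _ => Bool) false (fun n14 _ => @Nat.rec (fun _ => Bool)
  false (fun n15 _ => @Nat.rec (fun _ => Bool) false (fun n16 _ => @Nat.rec (fun _ => Bool) false (fun n17 _ =>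
  @Nat.rec (fun _ => Bool) false (fun n18 _ => @Nat.rec (fun _ => Bool) false (fun n19 _ => @Nat.rec (fun _ => Bool)
  false (fun n20 _ => @Nat.rec (fun _ => Bool) false (fun n21 _ => @Nat.rec (fun _ => Bool) false (fun n22 _ =>
  @Nat.rec (fun _ => Bool) false (fun n23 _ => (beta% delta% lq26d9c69aa0 fun _ _ _ f _ _ _ _ _ _ _ _ _ _ _ _ _ =>
 e (O (O (O (O (O (O (O (O (O (O (O (O (O (O (O (O (O (O (O (O (O (O (O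
 (O 0 (f n0)) (f n1)) (f n2)) (f n3)) (f n4)) (f n5)) (f n6))
 (f n7)) (f n8)) (f n9)) (f n10)) (f n11)) (f n12)) (f n13))
 (f n14)) (f n15)) (f n16)) (f n17)) (f n18)) (f n19)) (f n20))
 (f n21)) (f n22)) (f n23)) (K (D (f n0) s) (D (f n1) s) (D (f n2) s) (D
 (f n3) s) (D (f n4) s) (D (f n5) s) (D (f n6) s) (D (f n7) s) (D (f n8) s)
 (D (f n9) s) (D (f n10) s) (D (f n11) s) (D (f n12) s) (D (f n13) s) (D (f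
 n14) s) (D (f n15) s) (D (f n16) s) (D (f n17) s) (D (f n18) s) (D (f n19) s) (D
 (f n20) s) (D (f n21) s) (D (f n22) s) (D (f n23) s)))) (S (Ad x11 (Ad x12 x23)) x5)) (S (Ad
  x8 (Ad x22 (Mu 2 C))) (Ad x3 x19))) (S (Ad x13 (Ad x21 (Mu 2 C))) (Ad x17 x18))) (S (Ad x20 (Mu 4 C)) (Ad x1 (Ad x2 x9)))) (S
  (Ad x3 (Ad x8 (Ad x19 x22))) (Mu 2 C))) (S (Ad x13 (Ad x17 (Ad x18 x21))) (Mu 2 C))) (S (Ad x17 (Ad x21 (Mu 2 C))) (Ad x13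
  x18))) (S (Ad x7 (Ad x10 x16)) x15)) (S (Ad x7 (Ad x15 x16)) x10)) (S (Ad x0 (Ad x6 x14)) x4)) (S (Ad x13 (Ad x17 (Mu 2 C)))
  (Ad x18 x21))) (S (Ad x5 (Ad x11 x12)) x23)) (S (Ad x11 (Mu 4 C)) (Ad x5 (Ad x12 x23)))) (S (Ad x7 (Ad x10 x15)) x16)) (S (Ad
  x2 (Ad x9 x20)) x1)) (S (Ad x3 (Ad x8 (Mu 2 C))) (Ad x19 x22))) (S (Ad x7 (Mu 4 C)) (Ad x10 (Ad x15 x16)))) (S (Ad x6 (Mu 4 C))
  (Ad x0 (Ad x4 x14)))) (S (Ad x5 (Ad x11 x23)) x12)) (S (Ad x4 (Ad x6 x14)) x0)) (S (Ad x3 (Ad x22 (Mu 2 C))) (Ad x8 x19))) (S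
  (Ad x1 (Ad x2 x20)) x9)) (S (Ad x1 (Ad x9 x20)) x2)) (S (Ad x0 (Ad x4 x6)) x14)

private theorem g7_eq (Ad Mu S D O : ℕ → ℕ → ℕ) (e : ℕ → Bool → Bool) (s C : ℕ) (K : Fn Bool 24) :
    g7 Ad Mu S D O e s C K = lam 24 fun u => stq Ad Mu S D O e s C u m7 0 (ap 24 K) := Eq.refl (g7 Ad Mu S D O e s C K)

private def d8 : List (ℕ × Bool) := (beta% delta% lq26d9c69aa0 fun a b c _ _ i _ _ _ _ _ _ _ _ _ _ _ =>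
 (b (a 0 i)<|b (a 1 i)<|b (a 2 i)<|b (a 3 i)<|b (a 4 i)<|b (a 5 i)<|b (a 6 i)<|b (a 7 i)<|b (a 8 i)<|b (a 9 i)<|b (a 10
 i)<|b (a 11 i)<|b (a 12 i)<|b (a 13 i)<|b (a 14 i)<|b (a 15 i)<|b (a 16 i)<|b (a 17 i)<|b (a 18 i)<|b (a 19 i)<|
 b (a 20 i)<|b (a 21 i)<|b (a 22 i)<|b (a 23 i)<|c))

private def g8 (S : ℕ → ℕ → ℕ) (B : ℕ) (K : ℕ → ℕ → ℕ → ℕ → ℕ → ℕ → ℕ → ℕ → ℕ → ℕ → ℕ → ℕ → ℕ → ℕ → ℕ → ℕ → ℕ → ℕ → ℕ → ℕ → ℕ → ℕ → ℕ → ℕ → Bool)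
    (x0 x1 x2 x3 x4 x5 x6 x7 x8 x9 x10 x11 x12 x13 x14 x15 x16 x17 x18 x19 x20 x21 x22 x23 : ℕ) : Bool :=
  K (S B x0) (S B x1) (S B x2) (S B x3) (S B x4) (S B x5) (S B x6) (S B x7) (S B x8) (S B x9) (S B x10) (S B x11) (S B
  x12) (S B x13) (S B x14) (S B x15) (S B x16) (S B x17) (S B x18) (S B x19) (S B x20) (S B x21) (S B x22) (S B x23)

private theorem g8_eq (S : ℕ → ℕ → ℕ) (B : ℕ) (K : Fn Bool 24) :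
    g8 S B K = lam 24 fun u => ap 24 K (mo S B u d8) := Eq.refl (g8 S B K)

private def d9 : List (ℕ × Bool) := (beta% delta% lq26d9c69aa0 fun a b c _ g i _ _ _ _ _ _ _ _ _ _ _ =>
 (b (a 20 g)<|b (a 4 i)<|b (a 6 i)<|b (a 5 i)<|b (a 1 g)<|b (a 3 g)<|b (a 2 g)<|b (a 17 i)<|b (a 12 g)<|b (a 14
 g)<|b (a 13 g)<|b (a 22 i)<|b (a 8 i)<|b (a 10 i)<|b (a 9 i)<|b (a 18 g)<|b (a 21 i)<|b (a 7 g)<|b (a 15 i)<|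
 b (a 23 i)<|b (a 0 i)<|b (a 16 g)<|b (a 11 g)<|b (a 19 g)<|c))

private def g9 (S : ℕ → ℕ → ℕ) (B : ℕ) (K : ℕ → ℕ → ℕ → ℕ → ℕ → ℕ → ℕ → ℕ → ℕ → ℕ → ℕ → ℕ → ℕ → ℕ → ℕ → ℕ → ℕ → ℕ → ℕ → ℕ → ℕ → ℕ → ℕ → ℕ → Bool)
    (x0 x1 x2 x3 x4 x5 x6 x7 x8 x9 x10 x11 x12 x13 x14 x15 x16 x17 x18 x19 x20 x21 x22 x23 : ℕ) : Bool :=
  K x20 (S B x4) (S B x6) (S B x5) x1 x3 x2 (S B x17) x12 x14 x13 (S B x22) (S B x8) (S B x10) (S B x9) x18 (S B x21)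
  x7 (S B x15) (S B x23) (S B x0) x16 x11 x19

private theorem g9_eq (S : ℕ → ℕ → ℕ) (B : ℕ) (K : Fn Bool 24) :
    g9 S B K = lam 24 fun u => ap 24 K (mo S B u d9) := Eq.refl (g9 S B K)

private noncomputable def gs : List ((ℕ → ℕ → Fn Bool 24 → Fn Bool 24) × Unit) := [
  (fun _ B K => g0 Nat.sub B K, ()),
  (fun C B K => g1 Nat.add Nat.mul Nat.sub Nat.div Nat.lor (fin 4 B) 4 C K, ()),
  (fun _ B K => g2 Nat.sub B K, ()),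
  (fun _ B K => g3 Nat.sub B K, ()),
  (fun C B K => g4 Nat.add Nat.mul Nat.sub Nat.div Nat.lor (fin 2 B) 2 C K, ()),
  (fun _ B K => g5 Nat.sub B K, ()),
  (fun _ B K => g6 Nat.sub B K, ()),
  (fun C B K => g7 Nat.add Nat.mul Nat.sub Nat.div Nat.lor (fin 2 B) 2 C K, ()),
  (fun _ B K => g8 Nat.sub B K, ()),
  (fun _ B K => g9 Nat.sub B K, ())]

private noncomputable def apF (C B : ℕ) (w : List ℕ) : Fn Bool 24 → Fn Bool 24 :=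
  List.rec (fun K => K) (fun x _ ih K => ih ((ntd gs (fun _ _ K => K, ()) x).1 C B K)) w

private theorem r0 {C : ℕ} {K : Fn Bool 24} {k : List ℕ → Bool} (h : RR C K k) :
    RR C (g0 Nat.sub (2 * C) K) fun u => stp 1 (ap 24 (f0 C) u) k := by
  rw [g0_eq, f0_eq]
  exact rr_mo h d0 (Eq.refl 24)

private theorem r1 {C : ℕ} {K : Fn Bool 24} {k : List ℕ → Bool} (h : RR C K k) :
    RR C (g1 Nat.add Nat.mul Nat.sub Nat.div Nat.lor (fin 4 (2 * C)) 4 C K) fun u => stp 4 (ap 24 (f1 C) u) k := by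
  rw [g1_eq, f1_eq]
  exact rr_de h 2 m1 (Eq.refl 24)

private theorem r2 {C : ℕ} {K : Fn Bool 24} {k : List ℕ → Bool} (h : RR C K k) :
    RR C (g2 Nat.sub (2 * C) K) fun u => stp 1 (ap 24 (f2 C) u) k := by
  rw [g2_eq, f2_eq]
  exact rr_mo h d2 (Eq.refl 24)

private theorem r3 {C : ℕ} {K : Fn Bool 24} {k : List ℕ → Bool} (h : RR C K k) :
    RR C (g3 Nat.sub (2 * C) K) fun u => stp 1 (ap 24 (f3 C) u) k := by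
  rw [g3_eq, f3_eq]
  exact rr_mo h d3 (Eq.refl 24)

private theorem r4 {C : ℕ} {K : Fn Bool 24} {k : List ℕ → Bool} (h : RR C K k) :
    RR C (g4 Nat.add Nat.mul Nat.sub Nat.div Nat.lor (fin 2 (2 * C)) 2 C K) fun u => stp 2 (ap 24 (f4 C) u) k := by
  rw [g4_eq, f4_eq]
  exact rr_de h 1 m4 (Eq.refl 24)

private theorem r5 {C : ℕ} {K : Fn Bool 24} {k : List ℕ → Bool} (h : RR C K k) :
    RR C (g5 Nat.sub (2 * C) K) fun u => stp 1 (ap 24 (f5 C) u) k := by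
  rw [g5_eq, f5_eq]
  exact rr_mo h d5 (Eq.refl 24)

private theorem r6 {C : ℕ} {K : Fn Bool 24} {k : List ℕ → Bool} (h : RR C K k) :
    RR C (g6 Nat.sub (2 * C) K) fun u => stp 1 (ap 24 (f6 C) u) k := by
  rw [g6_eq, f6_eq]
  exact rr_mo h d6 (Eq.refl 24)

private theorem r7 {C : ℕ} {K : Fn Bool 24} {k : List ℕ → Bool} (h : RR C K k) :
    RR C (g7 Nat.add Nat.mul Nat.sub Nat.div Nat.lor (fin 2 (2 * C)) 2 C K) fun u => stp 2 (ap 24 (f7 C) u) k := by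
  rw [g7_eq, f7_eq]
  exact rr_de h 1 m7 (Eq.refl 24)

private theorem r8 {C : ℕ} {K : Fn Bool 24} {k : List ℕ → Bool} (h : RR C K k) :
    RR C (g8 Nat.sub (2 * C) K) fun u => stp 1 (ap 24 (f8 C) u) k := by
  rw [g8_eq, f8_eq]
  exact rr_mo h d8 (Eq.refl 24)

private theorem r9 {C : ℕ} {K : Fn Bool 24} {k : List ℕ → Bool} (h : RR C K k) :
    RR C (g9 Nat.sub (2 * C) K) fun u => stp 1 (ap 24 (f9 C) u) k := by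
  rw [g9_eq, f9_eq]
  exact rr_mo h d9 (Eq.refl 24)

private theorem rr_st {C : ℕ} {K : Fn Bool 24} {k : List ℕ → Bool} (h : RR C K k) : ∀ x < 10,
    RR C ((ntd gs (fun _ _ K => K, ()) x).1 C (2 * C) K) fun u => stp (ntd sc 1 x) (ap 24 (ntd fs (fnOf 24 []) x C) u) k
    := by
  intro x hx
  rcases x with _ | _ | _ | _ | _ | _ | _ | _ | _ | _ | x
  exacts [r0 h, r1 h, r2 h, r3 h, r4 h, r5 h, r6 h, r7 h, r8 h, r9 h, absurd hx (Nat.not_lt.2 (Nat.le_add_left 10 x))]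

private theorem app_of {C : ℕ} {v : List ℕ} (hl : v.length = 24) (hv : ∀ y ∈ v, y ≤ 2 * C) : ∀ (w : List ℕ),
    (∀ x ∈ w, x < 10) → ∀ K k, RR C K k → ap 24 (apF C (2 * C) w K) v = true → app 24 sc fs C v w k = true
  | [], _, _, _, h, h1 => h v hl hv h1
  | x :: w, hw, _, _, h, h1 => app_of hl hv w (fun y hy => hw y (List.mem_cons_of_mem _ hy)) _ _
      (rr_st h x (hw x List.mem_cons_self)) h1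

private theorem rec_and {a b : Bool} (h : (Bool.rec false a b : Bool) = true) : b = true ∧ a = true := by
  cases b with
  | false => cases h
  | true => exact ⟨rfl, h⟩

private def ini (B C : ℕ) (F : ℕ → ℕ → ℕ → ℕ → ℕ → ℕ → ℕ → ℕ → ℕ → ℕ → ℕ → ℕ → ℕ → ℕ → ℕ → ℕ → ℕ → ℕ → ℕ → ℕ → ℕ → ℕ → ℕ → ℕ → Bool) : Bool :=
  (beta% delta% lq26d9c69aa0 fun _ _ _ _ _ _ _ k l m _ _ _ _ _ _ _ =>
 F (m (k 8 (l B 0)) C) (m (k 8 (l B 1)) C) (m (k 8 (l B 2))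
 C) (m (k 8 (l B 3)) C) (m (k 8 (l B 4)) C) (m (k 8 (l B 5))
 C) (m (k 8 (l B 6)) C) (m (k 8 (l B 7)) C) (m (k 8 (l B 8))
 C) (m (k 8 (l B 9)) C) (m (k 8 (l B 10)) C) (m (k 8 (l B
 11)) C) (m (k 8 (l B 12)) C) (m (k 8 (l B 13)) C) (m (k 8 (l
 B 14)) C) (m (k 8 (l B 15)) C) (m (k 8 (l B 16)) C) (m (k 8
 (l B 17)) C) (m (k 8 (l B 18)) C) (m (k 8 (l B 19)) C) (m (k
 8 (l B 20)) C) (m (k 8 (l B 21)) C) (m (k 8 (l B 22)) C) (m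
 (k 8 (l B 23)) C))

private theorem ini_eq (B C : ℕ) (F : Fn Bool 24) : ini B C F = ap 24 F (st 24 8 B C) := Eq.refl (ini B C F)

private theorem st_le {B C : ℕ} (hB : 8 ≤ B) (hC : C = B ^ (24 + 1) + 7) : ∀ y ∈ st 24 8 B C, y ≤ 2 * C := fun y hy => by
  obtain ⟨j, hj, rfl⟩ := List.mem_map.1 hy
  have h1 : B ^ (j + 1) ≤ B ^ (24 + 1) := Nat.pow_le_pow_right (by omega) (by have := List.mem_range.1 hj; omega)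
  have h2 : B ^ j * 8 ≤ B ^ (j + 1) := Nat.mul_le_mul_left _ hB
  omega

private noncomputable def runF (w : List ℕ) (K : ℕ → ℕ → ℕ → ℕ → Fn Bool 24) : Bool :=
  Bool.rec false (frc (ws sc w) fun s => frc (8 * s ^ 2) fun h => frc (4 * h + 11400714819323198485) fun B =>
    frc (B ^ (24 + 1) + 7) fun C => frc (2 * C) fun E => ini B C (apF C E w (K s h B C))) (allL (fun x => Nat.blt x 10) w)

private theorem core {B C : ℕ} {w : List ℕ} {K : Fn Bool 24} {k : List ℕ → Bool} (hB : 8 ≤ B) (hC : C = B ^ (24 + 1) + 7)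
    (hw : ∀ x ∈ w, x < 10) (hK : RR C K k) (h : ini B C (apF C (2 * C) w K) = true) :
    app 24 sc fs C (st 24 8 B C) w k = true :=
  app_of (by rw [st, List.length_map, List.length_range]) (st_le hB hC) w hw _ _ hK ((ini_eq _ _ _).symm.trans h)

private theorem run_of {w : List ℕ} {K : ℕ → ℕ → ℕ → ℕ → Fn Bool 24} {k : ℕ → ℕ → ℕ → ℕ → List ℕ → List ℕ → Bool}
    (hK : ∀ s h B C, h = 8 * s ^ 2 → 8 ≤ B → C = B ^ (24 + 1) + 7 → RR C (K s h B C) (k s h B C (st 24 8 B C)))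
    (h : runF w K = true) :
    (allL (fun x => Nat.blt x ms.length) w && Nat.blt 0 8 && frc (ws sc w) fun s => frc (8 * s ^ 2) fun h =>
      frc (4 * h + 11400714819323198485) fun B => frc (B ^ (24 + 1) + 7) fun C => frcL (st 24 8 B C) fun v =>
        app 24 sc fs C v w (k s h B C v)) = true := by
  have h1 := rec_and h
  have h2 := h1.2
  have h3 : ∀ a : ℕ, 8 ≤ a + 11400714819323198485 := fun a => by omega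
  rw [frc_eq, frc_eq, frc_eq, frc_eq, frc_eq] at h2
  rw [Bool.and_eq_true, Bool.and_eq_true, frc_eq, frc_eq, frc_eq, frc_eq, frcL_eq]
  exact ⟨⟨h1.1, Eq.refl true⟩, core (h3 _) rfl (fun x hx => Nat.blt_eq.mp (allL_spec h1.1 x hx))
    (hK _ _ _ _ rfl (h3 _) rfl) h2⟩

private noncomputable def dsum (Ad Mu D Q P : ℕ → ℕ → ℕ) (s o B : ℕ) (u l : List ℕ) : ℕ :=
  List.rec 0 (fun i _ ih => Ad (Q (D (Ad (Mu s (ntd u 0 i)) o) (P B i)) B) ih) l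

private def kT (Ad Mu D Q P : ℕ → ℕ → ℕ) (e : ℕ → Bool) (s o B : ℕ)
    (x0 x1 x2 x3 x4 x5 x6 x7 x8 x9 x10 x11 x12 x13 x14 x15 x16 x17 x18 x19 x20 x21 x22 x23 : ℕ) : Bool :=
  e (Ad (Q (D (Ad (Mu s x0) o) (P B 0)) B) (Ad (Q (D (Ad (Mu s x1) o) (P B 1)) B) (Ad (Q (D (Ad (Mu s x2) o) (P B 2)) B) (Ad
  (Q (D (Ad (Mu s x3) o) (P B 3)) B) (Ad (Q (D (Ad (Mu s x4) o) (P B 4)) B) (Ad (Q (D (Ad (Mu s x5) o) (P B 5)) B) (Ad (Q (D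
  (Ad (Mu s x6) o) (P B 6)) B) (Ad (Q (D (Ad (Mu s x7) o) (P B 7)) B) (Ad (Q (D (Ad (Mu s x8) o) (P B 8)) B) (Ad (Q (D (Ad (Mu
  s x9) o) (P B 9)) B) (Ad (Q (D (Ad (Mu s x10) o) (P B 10)) B) (Ad (Q (D (Ad (Mu s x11) o) (P B 11)) B) (Ad (Q (D (Ad (Mu s
  x12) o) (P B 12)) B) (Ad (Q (D (Ad (Mu s x13) o) (P B 13)) B) (Ad (Q (D (Ad (Mu s x14) o) (P B 14)) B) (Ad (Q (D (Ad (Mu s
  x15) o) (P B 15)) B) (Ad (Q (D (Ad (Mu s x16) o) (P B 16)) B) (Ad (Q (D (Ad (Mu s x17) o) (P B 17)) B) (Ad (Q (D (Ad (Mu s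
  x18) o) (P B 18)) B) (Ad (Q (D (Ad (Mu s x19) o) (P B 19)) B) (Ad (Q (D (Ad (Mu s x20) o) (P B 20)) B) (Ad (Q (D (Ad (Mu s
  x21) o) (P B 21)) B) (Ad (Q (D (Ad (Mu s x22) o) (P B 22)) B) (Ad (Q (D (Ad (Mu s x23) o) (P B 23)) B)
  0))))))))))))))))))))))))

private theorem kT_eq (Ad Mu D Q P : ℕ → ℕ → ℕ) (e : ℕ → Bool) (s o B : ℕ) : kT Ad Mu D Q P e s o B =
    lam 24 fun u => e (dsum Ad Mu D Q P s o B u (List.range 24)) := Eq.refl (kT Ad Mu D Q P e s o B)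

private theorem dsum_eq {s o B : ℕ} {h O C : ℤ} (hB : 0 < B) (hC : C = B ^ (24 + 1) + 7) (hO : O = o + 7 * s) (u : List ℕ) :
    ∀ l : List ℕ, (∀ i ∈ l, i < 24) → (l.map fun i => (s * ((ntd u 0 i : ℕ) - C) + O) / (B : ℤ) ^ i % B - h).sum =
      (dsum Nat.add Nat.mul Nat.div Nat.mod Nat.pow s o B u l : ℕ) - l.length * h
  | [], _ => by
    show (0 : ℤ) = (0 : ℕ) - (0 : ℕ) * h
    rw [Nat.cast_zero, zero_mul, sub_zero]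
  | i :: l, hl => by
    obtain ⟨d, hd⟩ : ∃ d, 24 = i + d := ⟨24 - i, by have := hl i List.mem_cons_self; omega⟩
    have h1 : (s : ℤ) * ((ntd u 0 i : ℕ) - C) + O = (s * (ntd u 0 i : ℕ) + o) + B ^ i * (B * (-s * B ^ d)) := by
      rw [hC, hO, hd, pow_succ, pow_add]
      ring
    rw [List.map_cons, List.sum_cons, dsum_eq hB hC hO u l fun j hj => hl j (List.mem_cons_of_mem _ hj), h1,
      Int.add_mul_ediv_left _ _ (pow_ne_zero _ (Int.natCast_ne_zero.2 hB.ne')), Int.add_mul_emod_self_left]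
    show _ = (((s * ntd u 0 i + o) / B ^ i % B + dsum Nat.add Nat.mul Nat.div Nat.mod Nat.pow s o B u l : ℕ) : ℤ) -
      ((l.length + 1 : ℕ) : ℤ) * h
    push_cast
    ring

private noncomputable def trF (w : List ℕ) (t : ℤ) : Bool :=
  runF w fun s h B _ => (beta% delta% lq26d9c69aa0 fun _ _ _ _ _ _ _ k l m _ q r u v w x =>
 kT m k r w l
 (fun d => x ((d :type_of% (u _)) - (24 :type_of% (v _)) * (h :type_of% (u _)) = (8 :type_of% (v _)) * (s * t))) s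
 (q (k h (r (q (l B 24) 1) (q B 1))) (k 7 s)) B)

private theorem tr_of {w : List ℕ} {t : ℤ} (h : trF w t = true) : trB 24 ms sc fs 8 w t = true :=
  run_of (k := fun s h B C _ u => frZ (h * (pws 24 B).sum) fun o => decide (((List.range 24).map fun i =>
    (s * ((ntd u 0 i : ℕ) - (C : ℤ)) + o) / (B : ℤ) ^ i % B - h).sum = (8 : ℕ) * (s * t))) (fun s h B C e1 e2 e3 u hl _ h1 => by
      rw [kT_eq, ap_lam _ _ _ hl] at h1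
      have h2 : ∑ k ∈ Finset.range 24, B ^ k = (B ^ 24 - 1) / (B - 1) := Nat.geomSum_eq (by omega) 24
      have h3 : 1 ≤ (B ^ 24 - 1) / (B - 1) := h2 ▸ (pow_zero B).ge.trans
        (Finset.single_le_sum (f := fun k => B ^ k) (fun _ _ => Nat.zero_le _) (Finset.mem_range.2 (by decide)))
      have h4 : 7 * s ≤ h * ((B ^ 24 - 1) / (B - 1)) :=
        (by rw [e1]; exact Nat.mul_le_mul (by decide) (Nat.le_self_pow (by decide) s) : 7 * s ≤ h).trans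
          (Nat.le_mul_of_pos_right _ h3)
      have h5 : (h : ℤ) * (pws 24 B).sum = (h * ((B ^ 24 - 1) / (B - 1)) - 7 * s : ℕ) + 7 * s := by
        rw [Nat.cast_sub h4, ← h2, pws, TAB.Sm2.sum_range_eq']
        push_cast
        ring
      beta_reduce
      rw [frZ_eq, dsum_eq (by omega) (by rw [e3]; push_cast; rfl) h5 u _ fun i hi => List.mem_range.1 hi, List.length_range]
      exact h1) h

private noncomputable def relF (w : List ℕ) : Bool := runF w fun _ _ B C => lam 24 fun u => decide (u = st 24 8 B C)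

private theorem rel_of {w : List ℕ} (h : relF w = true) : relB 24 ms sc fs 8 w = true :=
  run_of (k := fun _ _ _ _ v u => decide (u = v)) (fun _ _ _ _ _ _ _ _ hl _ h1 => (ap_lam _ _ _ hl).symm.trans h1) h

private noncomputable def eqF (v w : List ℕ) : Bool := relF (v ++ iw w)

private theorem eq_of {v w : List ℕ} (h : eqF v w = true) : eqB v w = true := rel_of h

private noncomputable def scF (w : List ℕ) : Bool := eqF w [] || (eqF w [7, 7, 7] || eqF w [7])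

private theorem sc_of {w : List ℕ} (h : scF w = true) : scB w = true := by
  rw [scF, Bool.or_eq_true, Bool.or_eq_true] at h
  rw [scB, Bool.or_eq_true, Bool.or_eq_true]
  exact h.imp eq_of (Or.imp eq_of eq_of)

theorem p12_chk : ∀ x < 10, relB 24 ms sc fs 8 (List.replicate 12 x) = true := fun x hx =>
  rel_of ((by decide +kernel : ∀ x < 10, relF (List.replicate 12 x) = true) x hx)

theorem neg_chk : ∀ i j : Fin 24, TAB.Use.coef ((m8.map sgn).getD i []) j = if i = j then -1 else 0 := by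
  decide +kernel

theorem cox_chk (x y : Spor.Suz.Gen) : scB (pw [ix x, ix y] (Spor.coxLabel Spor.Suz.edges x y)) = true := by
  refine sc_of ?_
  cases x <;> cases y <;> decide +kernel

theorem ex_chk : scB (pw [2, 3] 4 ++ [0]) = true ∧ scB (pw [5, 6] 2 ++ [0]) = true ∧ scB (pw [0, 1, 2, 5] 5) = true ∧
    scB (pw [1, 5, 6] 5) = true ∧ scB (pw (pw [1, 2, 3, 2, 3] 5 ++ [4]) 3) = true :=
  ⟨sc_of (by decide +kernel), sc_of (by decide +kernel), sc_of (by decide +kernel), sc_of (by decide +kernel),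
    sc_of (by decide +kernel)⟩

theorem cen_chk (x : Spor.Suz.Gen) : eqB [7, ix x] [ix x, 7] = true := by
  refine eq_of ?_
  cases x <;> decide +kernel

theorem tau_chk (x : Spor.Suz.Gen) : eqB [9, ix x] [ix (KFacts.SuzRho.sw x), 9] = true := by
  refine eq_of ?_
  cases x <;> decide +kernel

theorem j_chk : eqB (List.replicate 6 7) [] = true ∧ eqB [8] [7, 7, 7] = true ∧ eqB [7, 9, 7] [9] = true ∧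
    eqB [9, 9] [7, 7, 7] = true ∧ trB 24 ms sc fs 8 [] 24 = true ∧ trB 24 ms sc fs 8 [7, 7] (-12) = true ∧
    trB 24 ms sc fs 8 [7, 7, 7] (-24) = true ∧ eqB [0, 0, 0, 0] [] = true :=
  ⟨eq_of (by decide +kernel), eq_of (by decide +kernel), eq_of (by decide +kernel), eq_of (by decide +kernel),
    tr_of (by decide +kernel), tr_of (by decide +kernel), tr_of (by decide +kernel), eq_of (by decide +kernel)⟩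

/-- words which commute up to a scalar -/
def w1 : List ℕ := (beta% delta% lq26d9c69aa0 fun _ b c _ _ _ _ _ _ _ _ _ _ _ _ _ _ =>
 (b 3<|b 2<|b 1<|b 4<|b 5<|b 6<|b 1<|b 2<|b 3<|b 2<|b 1<|b 6<|b 5<|b 4<|b 1<|b 2<|c))

/-- words which commute up to a scalar -/
def w4 : List ℕ := [1, 6, 1, 5, 1, 6, 5, 6, 1, 5, 6]

theorem com_chk : eqB (w1 ++ [3]) ([7, 7, 7] ++ ([3] ++ w1)) = true ∧
    eqB ([1, 5] ++ w4) ([7, 7, 7, 7] ++ (w4 ++ [1, 5])) = true :=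
  ⟨eq_of (by decide +kernel), eq_of (by decide +kernel)⟩

/-- the words of the representatives -/
noncomputable def wd (i : ℕ) : List ℕ :=
  (H123.Cls.SuzDat.W.map fun y => y.2.1 ++ y.2.2 ++ y.2.1.reverse ++ y.2.2.reverse).getD i []

/-- the traces -/
def trs : List (List ℤ) := (beta% delta% lq26d9c69aa0 fun _ b c _ _ _ j _ _ _ _ _ _ _ _ _ _ =>
 (let n:=(let n:=(let n:=(j (b (-5)<|b 4<|b 1<|b (-3)<|b (-3)<|b 6<|b (-3)<|b 6<|b (-3)<|c)<|j (b 0<|b 0<|b 0<|b 8<|b (-4)<|b (-4)<|b 24<|b (-12)<|b (-12)<|c)<|j (b (-6)<|b 3<|b 3<|b (-6)<|b 3<|b 3<|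
 b (-6)<|b 3<|b 3<|c)<|j (b (-8)<|b 4<|b 4<|b (-8)<|b 4<|b 4<|b 24<|b (-12)<|b (-12)<|c)<|j (b (-12)<|b 6<|b 6<|b (-12)<|b 6<|b 6<|b (-12)<|b 6<|b 6<|c)<|c);
 (j (b 0<|b 0<|b 0<|b 4<|b (-2)<|b (-2)<|b 4<|b (-2)<|b (-2)<|c)<|
 j (b 4<|b (-2)<|b (-2)<|b (-12)<|b 6<|b 6<|b (-12)<|b 6<|b 6<|c)<|j (b 4<|b (-2)<|b (-2)<|b (-4)<|b 2<|b 2<|b (-4)<|b 2<|b 2<|c)<|j (b 0<|b 0<|b 0<|b (-8)<|b 4<|b 4<|b (-8)<|b 4<|b 4<|c)<|j (b 0<|b 0<|b 0<|b (-24)<|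
 b 12<|b 12<|b 24<|b (-12)<|b (-12)<|c)<|n));
 (let n:=(j (b 0<|b 0<|b 0<|b 0<|b 0<|b 0<|b 12<|b 12<|b (-24)<|c)<|j (b 0<|b 0<|b 0<|b 0<|b 0<|b 0<|b (-4)<|b 8<|b (-4)<|c)<|j (b 0<|b 0<|b 0<|b (-4)<|
 b 2<|b 2<|b (-12)<|b 6<|b 6<|c)<|j (b (-2)<|b 1<|b 1<|b (-6)<|b 3<|b 3<|b (-6)<|b 3<|b 3<|c)<|j (b (-2)<|b 1<|b 1<|b (-2)<|b 1<|b 1<|b 6<|b (-3)<|b (-3)<|c)<|n);
 (j (b 0<|b 0<|b 0<|b 0<|b 0<|b 0<|b 0<|b 0<|b 0<|c)<|j (b 0<|b 0<|b 0<|b 0<|b 0<|b 0<|b 0<|b 0<|b 0<|c)<|j (b (-3)<|b 0<|b 3<|b 3<|b (-3)<|b 0<|b 3<|b 0<|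
 b (-3)<|c)<|j (b 1<|b 1<|b (-2)<|b 3<|b 0<|b (-3)<|b 3<|b (-3)<|b 0<|c)<|n)));
 (let n:=(let n:=(j (b (-2)<|b 1<|b 1<|b (-2)<|b 1<|
 b 1<|b (-2)<|b 1<|b 1<|c)<|j (b 4<|b (-2)<|b (-2)<|b 4<|b (-2)<|b (-2)<|b 4<|b (-2)<|b (-2)<|c)<|j (b 0<|b 0<|b 0<|b 0<|b 0<|b 0<|b 0<|b 0<|b 0<|c)<|j (b (-2)<|b 1<|b 1<|b (-2)<|b 1<|b 1<|b (-2)<|b 1<|b 1<|c)<|j (b (-2)<|
 b 1<|b 1<|b 2<|b (-1)<|b (-1)<|b 2<|b (-1)<|b (-1)<|c)<|n);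
 (j (b (-1)<|b (-1)<|b 2<|b (-1)<|b 2<|b (-1)<|b (-1)<|b (-1)<|
 b 2<|c)<|j (b 0<|b 0<|b 0<|b 4<|b (-2)<|b (-2)<|b (-4)<|b 2<|b 2<|c)<|j (b (-4)<|b 2<|b 2<|b 0<|b 0<|b 0<|b (-8)<|b 4<|b 4<|c)<|j (b 0<|b 0<|b 0<|b (-4)<|b 2<|b 2<|b 4<|b (-2)<|b (-2)<|c)<|n));
 (let n:=(j (b (-6)<|b 3<|b 3<|b 6<|b (-3)<|b (-3)<|b 6<|b (-3)<|b (-3)<|c)<|j (b (-2)<|b 1<|b 1<|b 2<|b (-1)<|b (-1)<|b (-6)<|b 3<|b 3<|c)<|j (b 0<|b 0<|b 0<|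
 b 0<|b 0<|b 0<|b 0<|b 0<|b 0<|c)<|j (b (-4)<|b 2<|b 2<|b 4<|b (-2)<|b (-2)<|b (-12)<|b 6<|b 6<|c)<|j (b 0<|b 3<|b (-3)<|b (-2)<|b 1<|b 1<|b 6<|b (-3)<|b (-3)<|c)<|n);
 (b (b 24<|b (-12)<|b (-12)<|b 24<|b (-12)<|b (-12)<|b 24<|b (-12)<|b (-12)<|c)<|b (b (-8)<|b 4<|b 4<|b 24<|b (-12)<|b (-12)<|b 24<|b (-12)<|b (-12)<|c)<|b (b 0<|b 0<|b 0<|b (-8)<|b 4<|b 4<|b 24<|b (-12)<|
 b (-12)<|c)<|b (b (-2)<|b 1<|b 1<|b 6<|b (-3)<|b (-3)<|b 6<|b (-3)<|b (-3)<|c)<|n)))))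

/-- the traces of the three multiples of a power -/
noncomputable def tv (t a : ℕ) : ℤ × ℤ × ℤ :=
  (nth (ntd trs [] t) (3 * a), nth (ntd trs [] t) (3 * a + 1), nth (ntd trs [] t) (3 * a + 2))

/-- the check of three traces -/
noncomputable def tr3 (w : List ℕ) (v : ℤ × ℤ × ℤ) : Bool :=
  trB 24 ms sc fs 8 w v.1 && (trB 24 ms sc fs 8 ([7, 7] ++ w) v.2.1 && trB 24 ms sc fs 8 ([7, 7] ++ ([7, 7] ++ w)) v.2.2)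

/-- the check of a representative -/
noncomputable def trT (t : ℕ) : Bool :=
  allL (fun x => Nat.blt x 7) (wd (sw t)) && (tr3 (wd (sw t)) (tv t 0) && (tr3 (pw (wd (sw t)) 2) (tv t 1) &&
    tr3 (pw (wd (sw t)) 4) (tv t 2)))

private noncomputable def t3F (w : List ℕ) (v : ℤ × ℤ × ℤ) : Bool :=
  trF w v.1 && (trF ([7, 7] ++ w) v.2.1 && trF ([7, 7] ++ ([7, 7] ++ w)) v.2.2)

private theorem t3_of {w : List ℕ} {v : ℤ × ℤ × ℤ} (h : t3F w v = true) : tr3 w v = true := by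
  rw [t3F, Bool.and_eq_true, Bool.and_eq_true] at h
  rw [tr3, tr_of h.1, tr_of h.2.1, tr_of h.2.2]
  rfl

private noncomputable def tTF (t : ℕ) : Bool :=
  frcL (wd (sw t)) fun w => allL (fun x => Nat.blt x 7) w && (t3F w (tv t 0) && (t3F (pw w 2) (tv t 1) &&
    t3F (pw w 4) (tv t 2)))

private theorem tT_of {t : ℕ} (h : tTF t = true) : trT t = true := by
  rw [tTF, frcL_eq, Bool.and_eq_true, Bool.and_eq_true, Bool.and_eq_true] at h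
  rw [trT, h.1, t3_of h.2.1, t3_of h.2.2.1, t3_of h.2.2.2]
  rfl

theorem tr_chk0 : ∀ s < 10, 0 + s < 37 → trT (0 + s) = true := fun s h1 h2 =>
  tT_of ((by decide +kernel : ∀ s < 10, 0 + s < 37 → tTF (0 + s) = true) s h1 h2)

theorem tr_chk1 : ∀ s < 10, 10 + s < 37 → trT (10 + s) = true := fun s h1 h2 =>
  tT_of ((by decide +kernel : ∀ s < 10, 10 + s < 37 → tTF (10 + s) = true) s h1 h2)

theorem tr_chk2 : ∀ s < 10, 20 + s < 37 → trT (20 + s) = true := fun s h1 h2 =>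
  tT_of ((by decide +kernel : ∀ s < 10, 20 + s < 37 → tTF (20 + s) = true) s h1 h2)

theorem tr_chk3 : ∀ s < 10, 30 + s < 37 → trT (30 + s) = true := fun s h1 h2 =>
  tT_of ((by decide +kernel : ∀ s < 10, 30 + s < 37 → tTF (30 + s) = true) s h1 h2)

theorem tr_chk (t : ℕ) (ht : t < 37) : trT t = true := by
  rcases (by omega : t < 10 ∨ 10 ≤ t ∧ t < 20 ∨ 20 ≤ t ∧ t < 30 ∨ 30 ≤ t) with h | h | h | h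
  · simpa using tr_chk0 t h (by omega)
  · have := tr_chk1 (t - 10) (by omega) (by omega)
    rwa [Nat.add_sub_cancel' h.1] at this
  · have := tr_chk2 (t - 20) (by omega) (by omega)
    rwa [Nat.add_sub_cancel' h.1] at this
  · have := tr_chk3 (t - 30) (by omega) (by omega)
    rwa [Nat.add_sub_cancel' h] at this

end Cfsg.Agent.MK.S4.Z

private theorem dce_77cd8b3fcfd8 : _root_.True := by
  try have : _root_.True := by simp only [_root_.Cfsg.Agent.MK.S4.Z.fs.eq_1]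
  exact _root_.True.intro
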