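import Cfsg.Agent.MK.S5.Mov_m3
import Cfsg.Agent.MK.T.D_m3
import Cfsg.Agent.GAL.Spor.HN_m3
import Cfsg.Agent.TAB.Suz.Main
import Cfsg.Agent.S2074
import Cfsg.Agent.S1694
import Cfsg.Agent.Lib.PermNetFast
import Cfsg.Agent.MK.U43.Inv_m3
import Cfsg.Agent.H829.GowDesc
import Cfsg.Agent.H95.StemCover
import Cfsg.Agent.H51.Tools
import Cfsg.Agent.S0148
import Cfsg.Agent.S2048
import Cfsg.Agent.MK.A.Six_m3
import Cfsg.Agent.MK.G.Cover_m3
import Cfsg.Agent.MK.Two.Box_m3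
import Cfsg.Agent.MK.E.Mult_m3
import Cfsg.Agent.MK.C.Main_m3
import Cfsg.Agent.H793.PC.Pi_m3
import Cfsg.Agent.H624.MGroupA
import Cfsg.Agent.H94.Matching
import Cfsg.Agent.ODD.FA.Mon_m3
import Cfsg.Agent.ClassicalGeometry.SympAutRecog
import Cfsg.Agent.ClassicalGeometry.SympAutExists
import Cfsg.Agent.LieRecognition.FieldSemilinear
import Cfsg.Agent.Lib.FieldAutCard
import Cfsg.Agent.S0270
import Cfsg.Agent.MK.GO.Num_m3
import Cfsg.Agent.H383.Cube.Crude_m3
import Cfsg.Agent.H965.XZ.Walk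
import Cfsg.Agent.Nodes.CardWitt
import Cfsg.Agent.Nodes.WittRGDD
import Cfsg.Agent.ODD.PW.Rows_m3
import Cfsg.Agent.ODD.Cov.Lin
import Cfsg.Agent.H803.RowOmega
import Cfsg.Agent.FastGrp
import Cfsg.Agent.Prune
set_option linter.all false

section
prune_inst 0x7ffcbcf92fa829dfdfff7e3ff6d4cff9f1e8afffe6dff9cbffe0e9bf0fdf4b02e9456b858fe210ff0e56621410f87b03f9ffdeffe06bdc7ffffd5ff41ffbff8fedf6350851d48c340f340fff03f0778e6f3fffffffffffffffffffffffffffbeffbffbfeffff

-- part: MK/S4/Suz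
section
prune_inst 0x4010000
set_option linter.all false
open scoped Cfsg.Agent.FastGrp

/-!
# MK, the row `Suz` (helper88)
-/

set_option autoImplicit false
set_option maxRecDepth 100000

namespace Cfsg.Agent.MK.S4

open Cfsg Subgroup Cfsg.Agent.MK.T Cfsg.Agent.MK.S

namespace SuzRow

open Cfsg.Spor (Suz)
open Cfsg.Agent.Schreier.SuzT Cfsg.Agent.Schreier.Suz Cfsg.Agent.H895.Pron.SuzS Cfsg.Agent.H895.Pron.SuzB
  Cfsg.Agent.GAL.Spor.Sz Cfsg.Agent.KFacts.SuzRho Cfsg.Agent.TAB Cfsg.Agent.TAB.Use Cfsg.Agent.Characters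
open Cfsg.Agent.SporadicRecognition.SuzOrder (el finiteSuz card_Suz)
open Cfsg.Agent.SuzThree.Basic (el_append)
open Cfsg.Agent.SuzThree.CentA (h1 h2)

theorem step {G : Type} [Group G] [Finite G] {N M : Subgroup G} {a b c : G}
    (h : ∀ x ∈ closure {a, b, c} ⊔ N, ∀ t ∈ M, x * t * x⁻¹ * t⁻¹ ∈ N) (hM : closure {a, b, c} ⊔ N ≤ M)
    (ha : a * a ∈ N) (hb : b * b ∈ N) (hc : c * c ∈ N) :
    Nat.card (closure {a, b, c} ⊔ N : Subgroup G) ≤ 8 * Nat.card N := by
  have key : ∀ (W : Subgroup G) (x : G), N ≤ W → W ≤ M → x ∈ closure {a, b, c} → x * x ∈ N →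
      Nat.card (zpowers x ⊔ W : Subgroup G) ≤ 2 * Nat.card W := fun W x h1 h2 h3 h4 =>
    Pc.card_ext (h1 h4) (fun y hy => by
      have h5 := mul_mem (h1 (h x (mem_sup_left h3) y (h2 hy))) hy
      rwa [inv_mul_cancel_right] at h5) fun K h5 h6 => sup_le (zpowers_le.2 h6) h5
  have ma : a ∈ closure {a, b, c} := subset_closure (by simp)
  have mb : b ∈ closure {a, b, c} := subset_closure (by simp)
  have mc : c ∈ closure {a, b, c} := subset_closure (by simp)
  have l0 : N ≤ M := le_sup_right.trans hM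
  have l1 : zpowers c ⊔ N ≤ M := sup_le (zpowers_le.2 (hM (mem_sup_left mc))) l0
  have l2 : zpowers b ⊔ (zpowers c ⊔ N) ≤ M := sup_le (zpowers_le.2 (hM (mem_sup_left mb))) l1
  have k1 := key N c le_rfl l0 mc hc
  have k2 := key _ b le_sup_right l1 mb hb
  have k3 := key _ a (le_sup_right.trans le_sup_right) l2 ma ha
  have k4 : closure {a, b, c} ⊔ N ≤ zpowers a ⊔ (zpowers b ⊔ (zpowers c ⊔ N)) := by
    refine sup_le ((closure_le _).2 ?_) (le_sup_right.trans (le_sup_right.trans le_sup_right))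
    rintro x (rfl | rfl | rfl)
    · exact mem_sup_left (mem_zpowers _)
    · exact mem_sup_right (mem_sup_left (mem_zpowers _))
    · exact mem_sup_right (mem_sup_right (mem_sup_left (mem_zpowers _)))
  have k5 := card_le_of_le k4
  omega

theorem sq_comm {G : Type} [Group G] {N : Subgroup G} {a b : G} (ha : a ^ 2 = 1)
    (h : (a * b * a⁻¹ * b⁻¹) * a * (a * b * a⁻¹ * b⁻¹)⁻¹ * a⁻¹ ∈ N) :
    (a * b * a⁻¹ * b⁻¹) * (a * b * a⁻¹ * b⁻¹) ∈ N := by
  have h1 : a⁻¹ = a := inv_eq_of_mul_eq_one_right (by rw [← pow_two, ha])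
  have h2 : (a * b * a⁻¹ * b⁻¹) * a * (a * b * a⁻¹ * b⁻¹)⁻¹ * a⁻¹ =
      (a * b * a⁻¹ * b⁻¹) * (a * b * a * b⁻¹ * (a⁻¹ * a⁻¹)) := by group
  rw [h2, ← mul_inv_rev, ← pow_two, ha, inv_one, mul_one] at h
  rwa [h1] at h ⊢

theorem U4_le : U4 ≤ T := T_eq ▸ le_sup_right

theorem card_U4 : Nat.card U4 ≤ 2 ^ 9 := by
  have := finiteSuz
  have h1 : Nat.card U10 ≤ 8 := by
    rw [U10_eq]
    refine (Nat.card_le_card_of_surjective
      (fun i : Fin 8 => (⟨_, mem_A2.2 ⟨lA2.getD i 0, by revert i; decide, rfl⟩⟩ : A2)) fun ⟨g, hg⟩ => ?_).trans (by simp)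
    obtain ⟨c, hc, rfl⟩ := mem_A2.1 hg
    obtain ⟨i, hi⟩ := (by decide : ∀ c ∈ lA2, ∃ i : Fin 8, lA2.getD i 0 = c) c hc
    exact ⟨i, Subtype.ext (by simp only [hi])⟩
  have h2 := step (a := x7) (b := x8) (c := x9) st7.2 (le4.trans U4_le) (sq_comm o_s1 (st7.2 _ mem7_7 _ s1_mem))
    (sq_comm o_s3 (st7.2 _ mem7_8 _ s3_mem)) (sq_comm o_x4 (st7.2 _ mem7_9 _ x4_mem))
  have h3 := step (a := x4) (b := x5) (c := x6) st4.2 U4_le (sq_comm o_s1 (st4.2 _ mem4_4 _ s1_mem))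
    (sq_comm o_s2 (st4.2 _ mem4_5 _ s2_mem)) (sq_comm o_s2 (st4.2 _ mem4_6 _ s2_mem))
  change Nat.card U7 ≤ _ at h2
  change Nat.card U4 ≤ _ at h3
  omega

/-- the words of the generators -/
def sw4 : Fin 4 → List Suz.Gen
  | 0 => [.g]
  | 1 => [.d, .b, .c, .f, .b, .a, .b, .f, .c, .b, .d]
  | 2 => [.e]
  | 3 => [.b, .c, .d, .f, .b, .c, .d, .e, .d, .c, .b, .f, .d, .c, .b]

/-- the generators -/
noncomputable def yy (i : Fin 4) : Suz := el (sw4 i)

theorem gn : Gn T yy := by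
  have := finiteSuz
  refine ⟨fun i => ?_, ?_, fun i => ?_, twoT, S4.le_ab (n := 9) card_T (commutator_le.2 st0.2) card_U4⟩
  · fin_cases i
    exacts [s1_mem, s2_mem, s3_mem, s4_mem]
  · rw [T_def]
    exact closure_mono (forall_S (P := fun x => x ∈ Set.range yy) ⟨0, rfl⟩ ⟨1, rfl⟩ ⟨2, rfl⟩ ⟨3, rfl⟩)
  · rw [← pow_two]
    fin_cases i
    exacts [o_s1, o_s2, o_s3, o_s4]

theorem yy_word : ∀ v : List (Fin 4), (v.map yy).prod = el (v.flatMap sw4)
  | [] => rfl
  | i :: v => by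
    rw [List.map_cons, List.prod_cons, List.flatMap_cons, el_append, yy_word v]
    rfl

/-- the action of the element of order three -/
def iw : Fin 4 → List (Fin 4)
  | 0 => [0]
  | 1 => [1]
  | 2 => [2, 3]
  | 3 => [2]

theorem w_yy (i : Fin 4) : ∃ c ∈ ⁅T, T⁆, MulAut.conj w (yy i) = ((iw i).map yy).prod * c := by
  have h11 : x11 ∈ ⁅T, T⁆ := commutator_mem_commutator x10_mem s2_mem
  have h12 : x12 ∈ ⁅T, T⁆ := comm_eq e_x11_s1 ▸ commutator_mem_commutator x11_mem s1_mem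
  rw [MulAut.conj_apply]
  fin_cases i
  · exact ⟨1, one_mem _, (mul_inv_eq_of_eq_mul w_s1).trans (by simp; rfl)⟩
  · exact ⟨1, one_mem _, (mul_inv_eq_of_eq_mul w_s2).trans (by simp; rfl)⟩
  · refine ⟨x6 * x11 * x12, mul_mem (mul_mem (commutator_mem_commutator s2_mem s4_mem) h11) h12,
      (mul_inv_eq_of_eq_mul w_s3).trans ?_⟩
    change _ = s3 * (s4 * 1) * _
    group
  · refine ⟨x5 * x11 * x12, mul_mem (mul_mem (commutator_mem_commutator s2_mem s3_mem) h11) h12,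
      (mul_inv_eq_of_eq_mul w_s4).trans ?_⟩
    change _ = s3 * 1 * _
    group

theorem k0_T : k0 T = 16 := by
  have := finiteSuz
  rw [k0_two twoT, gn.ab_eq]
  rfl

theorem k0_N : k0 (normalizer (T : Set Suz)) = 16 := by
  have := finiteSuz
  have h1 : Nat.card (normalizer (T : Set Suz)) = 24576 :=
    le_antisymm ((card_le_of_le fun _ => N_le_B).trans card_B_le)
      (card_Tw.trans (card_le_of_le (sup_le le_normalizer (zpowers_le.2 w_normalizer))))
  have h2 : (inclusion (le_normalizer (H := T))).range = T.subgroupOf _ := inclusion_range _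
  have h3 := k0_index_prime (inclusion (le_normalizer (H := T))) (inclusion_injective _) (h2 ▸ normal_in_normalizer)
    Nat.prime_three (by decide) (by
      have h4 := card_mul_index (T.subgroupOf (normalizer (T : Set Suz)))
      rw [Nat.card_congr (subgroupOfEquivOfLe le_normalizer).toEquiv, card_T, h1] at h4
      rw [h2]
      omega) (a := ⟨w, w_normalizer⟩) (fun h => w_not (T_le (mem_subgroupOf.1 (h2 ▸ h))))
    (α := res T (MulAut.conj w) (gn.stab w_yy)) fun x => rfl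
  rw [← fN_eq_f0 (res_coe _ _ _), gn.fN_eq w_yy, k0_T, show (Finset.univ.filter fun s : Fin 4 → Bool =>
    ∀ i, par s (iw i) = s i).card = 4 by decide +kernel] at h3
  omega

theorem m0 : M0 Suz := by
  have := finiteSuz
  refine M0.of_one T₀ (Eq.trans ?_ k0_N.symm)
  rw [k0_of_degList TAB.Suz.deg]
  decide

theorem cycN : CycN Suz := ⟨T₀, w, w_normalizer, fun _ hg => exists_of_mem_B (N_le_B hg)⟩

/-- the word of the correcting element -/
def gw : List Suz.Gen := h2 ++ (([.d] : List Suz.Gen) ++ (h2 ++ (h1 ++ (([.d] : List Suz.Gen) ++ (h1 ++ ([.d] : List Suz.Gen))))))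

theorem gz_eq : gz = el gw := by
  simp only [gw, el_append]
  rfl

theorem eqw {u v : List Suz.Gen} (h : Lib.PermNet.checkEq 11 (SporadicRecognition.SuzPhi.wd u)
    (SporadicRecognition.SuzPhi.wd v) = true) : el u = el v :=
  SuzThree.Basic.eq_of_reps (SuzThree.Basic.Rep.el _) (SuzThree.Basic.Rep.el _) h

/-- the action of the outer automorphism -/
def ip : Fin 4 → List (Fin 4)
  | 0 => [1, 3, 2, 3, 0, 3, 2, 3, 1]
  | 1 => [3, 0, 3, 1, 3, 0, 3]
  | 2 => [0, 1, 2, 1, 0]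
  | 3 => [1, 3, 1, 2]

set_option Elab.async false in
theorem ph_yy (i : Fin 4) : ∃ c ∈ ⁅T, T⁆, ph (yy i) = ((ip i).map yy).prod * c := by
  refine ⟨1, one_mem _, ?_⟩
  rw [mul_one, yy_word, ph, MulAut.mul_apply, MulAut.conj_apply, yy, rho_el, gz_eq, mul_inv_eq_iff_eq_mul, ← el_append,
    ← el_append]
  refine eqw ?_
  revert i
  (rewrite [Cfsg.Agent.Lib.PermNetFast.checkEq_fast]; decide +kernel)

set_option Elab.async false in
theorem ph_two : ∃ k : ℕ, ph ^ 2 ^ k = 1 := by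
  have h1 : gz * rho gz = (([0, 2, 3, 2, 1, 0, 1, 2, 3, 2] : List (Fin 4)).map yy).prod := by
    rw [yy_word, gz_eq, rho_el, ← el_append]
    exact eqw (by (rewrite [Cfsg.Agent.Lib.PermNetFast.checkEq_fast]; decide +kernel))
  have h2 : ph ^ 2 = MulAut.conj (gz * rho gz) := by
    rw [pow_two, ph, map_mul, conj_map, mul_assoc, mul_assoc, inv_eq_of_mul_eq_one_right rho_sq]
  obtain ⟨k, hk⟩ := twoT ⟨_, h1 ▸ gn.word_mem _⟩
  exact ⟨k + 1, by rw [pow_succ', pow_mul, h2, ← map_pow, show (gz * rho gz) ^ 2 ^ k = 1 from congrArg Subtype.val hk,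
    map_one]⟩

theorem ph_out : ph ∉ (MulAut.conj : Suz →* MulAut Suz).range := fun ⟨k, hk⟩ =>
  H997.OutSuz.rho_outer (gz⁻¹ * k) (by rw [map_mul, hk, ph, map_inv, inv_mul_cancel_left])

theorem pairs : ∀ j < 43, ∃ r ∈ (Sm2.mkRows Sz.rowA Sz.rowB).rel, if j < 31 then r.1 = [(j, 1)] else
    ∃ k < 43, (r.1 = [(j, 1), (k, 1)] ∧ k % 2 = 0 ∧ 31 ≤ k) ∨ (r.1 = [(k, 1), (j, 1)] ∧ j % 2 = 0) := by decide +kernel

/-- the representatives -/
def reps : List ℕ := List.range 31 ++ [31, 33, 35, 37, 39, 41]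

theorem reps_ok : repB Sz.dat (Sm2.mkRows Sz.rowA Sz.rowB) reps = true := by decide +kernel

theorem f0_ph : f0 ph = 8 := by
  have := finiteSuz
  obtain ⟨χ, hE, hR⟩ := Sz.tab
  have hn : (Sm2.mkRows Sz.rowA Sz.rowB).n = 43 := by decide +kernel
  have hr : ∀ k < 43, k % 2 = 0 → 31 ≤ k → k ∉ reps := by decide
  rw [f0_enum hE (q := fun j => decide (j < 31)) fun j hj _ => ?_]
  · decide +kernel
  obtain ⟨r, hm, h⟩ := pairs j (hn ▸ hj)
  rw [decide_eq_true_eq]
  refine ⟨fun hf => by_contra fun h31 => ?_, fun h31 x => ?_⟩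
  · rw [if_neg h31] at h
    have hc : ∀ a b, Sz.td.ty a = Sz.td.ty b → χ j a = χ j b := fun a b e => by
      obtain ⟨σ, rfl, -⟩ := Sz.hom a b e
      obtain ⟨s, rfl | rfl⟩ := out_cases S2074.result ph_out σ
      · exact (Core.isIrr_isClassFunction (hE.irr j hj) _ _).symm
      · exact ((Core.isIrr_isClassFunction (hE.irr j hj) _ _).trans (hf a)).symm
    obtain ⟨k, hk, ⟨h1, h2, h3⟩ | ⟨-, h2⟩⟩ := h
    · refine not_const hE hR reps_ok (hn ▸ hk) (hr k hk h2 h3) fun a b e => ?_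
      have h4 := Sz.pair_sum hR hm (Or.inl h1) a
      rw [e, ← Sz.pair_sum hR hm (Or.inl h1) b, hc a b e] at h4
      exact add_left_cancel h4
    · exact not_const hE hR reps_ok hj (hr j (hn ▸ hj) h2 (not_lt.1 h31)) hc
  · rw [if_pos h31] at h
    rw [hR.row hm h, hR.row hm h, Sz.td_ty, Sz.td_ty, H714.S8.SuzFam.fam_aut]

end SuzRow

open Cfsg.Agent.Schreier.Suz Cfsg.Agent.GAL.Spor in
/-- **the row of `Suz`** -/
theorem suz : SmS Spor.Suz := fun ih => by
  have := SporadicRecognition.SuzOrder.finiteSuz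
  have := two_prime
  have : IsSimpleGroup Spor.Suz := S1694.result.1
  have hZ : center Spor.Suz = ⊥ := S5.center_eq_bot ⟨_, _, Schreier.SuzT.ne_x4_x10⟩
  have hi : (MulAut.conj : Spor.Suz →* MulAut Spor.Suz).range.index = 2 := S2074.result
  have hs := SuzRow.gn.stab SuzRow.ph_yy
  refine sm_of_two' hZ hi T₀ SuzRow.ph_out hs SuzRow.m0 ?_
  rw [fN_norm_eq hZ hi ih (selfN_aut_of_phi hZ hi fun Q => Sz.phi.sylow Q) T₀ (fun h => ?_) SuzRow.ph_out hs SuzRow.ph_two,
    SuzRow.f0_ph]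
  · exact Eq.trans (by decide +kernel) (SuzRow.gn.fN_eq SuzRow.ph_yy).symm
  · have h1 := card_le_of_le (h.ge.trans fun _ => H895.Pron.SuzB.N_le_B)
    have h2 := H895.Pron.SuzB.card_B_le
    rw [card_top, SporadicRecognition.SuzOrder.card_Suz] at h1
    omega

end Cfsg.Agent.MK.S4

private theorem dce_07857dab5e71 : _root_.True := by
  try have : _root_.True := by simp only [_root_.Cfsg.Agent.MK.S4.SuzRow.gw.eq_1]
  try have : _root_.True := by simp only [_root_.Cfsg.Agent.MK.S4.SuzRow.yy.eq_1]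
  exact _root_.True.intro
end

-- part: MK/S4/ZA
section
prune_inst 0x34306d047d62020000180090b30060603400019000600000d0600f000a4bd14a294381010ea00d0a98caaec008050060021001f0420000000a00000000040100182a52009208ad0cb40008003002010000000000000000000000000000041004004010000
set_option linter.all false
open scoped Cfsg.Agent.FastGrp

/-!
# MK, `3.Suz` : the faithful characters from three seeds (helper88)

* `Val`, `lam`, `prj` : the values at the three multiples, the exterior square, the faithful part;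
* `Sc` : a triple cover with the outer automorphism and two generalized characters;
* `Sc.card` : sixteen characters of odd degree.
-/

set_option autoImplicit false
set_option maxRecDepth 100000
set_option Elab.async false

namespace Cfsg.Agent.MK.S4.Z

open Cfsg Finset Cfsg.Agent.TAB.Eng Cfsg.Agent.TAB.Sz Cfsg.Agent.Characters Cfsg.Agent.Characters.Core
open Cfsg.Agent.Characters.Brauer Cfsg.Agent.H447.CTab Cfsg.Agent.KFacts.SuzRho
open Cfsg.Spor (Suz)
open scoped ComplexConjugate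

section ops

variable {X : Type} [Group X] {z y : X} {F H : X → ℂ} {v u : ℤ × ℤ × ℤ}

/-- the values at the three multiples -/
def Val (z : X) (F : X → ℂ) (y : X) (v : ℤ × ℤ × ℤ) : Prop :=
  F y = v.1 ∧ F (z * y) = v.2.1 ∧ F (z * (z * y)) = v.2.2

/-- the exterior square -/
noncomputable def lam (F : X → ℂ) (y : X) : ℂ := (F y * F y - F (y ^ 2)) / 2

/-- the sum over the three multiples -/
noncomputable def av (z : X) (F : X → ℂ) (y : X) : ℂ := F y + F (z * y) + F (z * (z * y))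

/-- the faithful part -/
noncomputable def prj (z : X) (F : X → ℂ) (y : X) : ℂ := F y - av z F y / 3

/-- a central element with trivial cube -/
structure Cu (z : X) : Prop where
  cen : ∀ y, z * y = y * z
  cube : ∀ y, z * (z * (z * y)) = y

theorem Cu.sq (h : Cu z) (y : X) : (z * y) ^ 2 = z * (z * y ^ 2) := by
  rw [(show Commute z y from h.cen y).mul_pow, pow_two z, mul_assoc]

theorem Cu.conj (h : Cu z) (y c : X) : z * (c * y * c⁻¹) = c * (z * y) * c⁻¹ := by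
  rw [← mul_assoc, ← mul_assoc, h.cen c, mul_assoc c]

theorem Cu.av_z (h : Cu z) (F : X → ℂ) (y : X) : av z F (z * y) = av z F y := by
  rw [av, av, h.cube]
  ring

theorem Cu.av_prj (h : Cu z) (F : X → ℂ) (y : X) : av z (prj z F) y = 0 := by
  rw [av, prj, prj, prj]
  simp only [h.av_z]
  rw [av]
  ring

theorem Val.av (h : Val z F y v) : av z F y = sm v := by
  rw [Z.av, h.1, h.2.1, h.2.2, sm, Int.cast_add, Int.cast_add]

theorem Val.lam (c : Cu z) (h : Val z F y v) (h' : Val z F (y ^ 2) u) (o : okL v u) : Val z (lam F) y (lamV v u) := by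
  have e : ∀ a b : ℤ, 2 ∣ a * a - b → ((a : ℂ) * a - b) / 2 = ((a * a - b) / 2 : ℤ) := fun a b h => by
    rw [Int.cast_div_charZero h]
    push_cast
    rfl
  refine ⟨?_, ?_, ?_⟩
  · rw [Z.lam, h.1, h'.1, e _ _ o.1]
    rfl
  · rw [Z.lam, h.2.1, c.sq, h'.2.2, e _ _ o.2.1]
    rfl
  · rw [Z.lam, h.2.2, c.sq, c.sq, c.cube, h'.2.1, e _ _ o.2.2]
    rfl

theorem Val.prj (c : Cu z) (h : Val z F y v) (o : 3 ∣ sm v) : Val z (prj z F) y (prjV v) := by
  have e : ∀ a : ℤ, (a : ℂ) - (sm v : ℤ) / 3 = (a - sm v / 3 : ℤ) := fun a => by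
    rw [Int.cast_sub, Int.cast_div_charZero o]
    push_cast
    rfl
  refine ⟨?_, ?_, ?_⟩
  · rw [Z.prj, h.av, h.1, e]
    rfl
  · rw [Z.prj, c.av_z, h.av, h.2.1, e]
    rfl
  · rw [Z.prj, c.av_z, c.av_z, h.av, h.2.2, e]
    rfl

theorem Val.mul (h : Val z F y v) (h' : Val z H y u) : Val z (fun x => F x * H x) y (mulV v u) :=
  ⟨(congrArg₂ _ h.1 h'.1).trans (Int.cast_mul _ _).symm, (congrArg₂ _ h.2.1 h'.2.1).trans (Int.cast_mul _ _).symm,
    (congrArg₂ _ h.2.2 h'.2.2).trans (Int.cast_mul _ _).symm⟩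

theorem gen_prj [Finite X] (c : Cu z) (h : IsGeneralizedCharacter X F) : IsGeneralizedCharacter X (prj z F) := by
  have := Fintype.ofFinite X
  have := finite_irr (G := X)
  have := Fintype.ofFinite (IrrCharacter X)
  have h0 := gen_classFunction h
  refine isGeneralizedCharacter_of_int (fun g s => by rw [prj, prj, av, av, c.conj, c.conj, h0, h0, h0]) fun χ hχ => ?_
  obtain ⟨d, h1, h2, -⟩ := ODD.Red.exists_central hχ (Subgroup.mem_center_iff.2 fun g => (c.cen g).symm)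
  have h3 : conj d ^ 3 = 1 := by
    rw [← map_pow, h2 3 (by rw [pow_three, ← mul_one (z * z), mul_assoc, c.cube]), map_one]
  have h4 := S7.inner_shift F h1
  have h5 := S7.inner_shift (fun x => F (z * x)) h1
  have h6 : prj z F = F - (3⁻¹ : ℂ) • (F + (fun x => F (z * x)) + fun x => F (z * (z * x))) := funext fun x => by
    rw [prj, av, div_eq_inv_mul]
    rfl
  have h7 := inner_mu h ⟨χ, hχ⟩
  rw [h6, classInner_sub_left, classInner_smul_left, classInner_add_left, classInner_add_left]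
  by_cases h8 : conj d = 1
  · rw [h8, one_mul] at h4 h5
    exact ⟨0, by rw [← h5, ← h4]; ring⟩
  · have h9 : conj d ^ 2 + conj d + 1 = 0 := mul_left_cancel₀ (sub_ne_zero.2 h8) (by linear_combination h3)
    refine ⟨_, Eq.trans ?_ h7⟩
    change _ = classInner F χ
    rw [h4, h5]
    linear_combination (-3⁻¹ * classInner (fun x => F (z * (z * x))) χ) * h9

end ops

/-- a triple cover with the outer automorphism and the two characters -/
structure Sc (X : Type) [Group X] where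
  φ : X →* Suz
  z : X
  δ : X →* X
  P : X → ℂ
  L : X → ℂ
  R : ℕ → X
  surj : Function.Surjective φ
  cu : Cu z
  φz : φ z = 1
  ker : ∀ x, φ x = 1 → x = 1 ∨ x = z ∨ x = z * z
  card : Nat.card φ.ker = 3
  φδ : ∀ x, φ (δ x) = rho (φ x)
  δz : δ z = z * z
  gP : IsGeneralizedCharacter X P
  gL : IsGeneralizedCharacter X L
  δP : ∀ x, P (δ x) = P x
  δL : ∀ x, L (δ x) = L x
  R0 : R 0 = 1
  ty : ∀ t < 37, td.ty (φ (R t)) = t
  vP : ∀ t < 37, Val z P (R t) (mulV (tv t 0) (tv t 0))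
  vL : ∀ t < 37, Val z L (R t) (lamV (tv t 0) (tv t 1))
  vL2 : ∀ t < 37, Val z L (R t ^ 2) (lamV (tv t 1) (tv t 2))

namespace Sc

variable {X : Type} [Group X] (S : Sc X) {F H : X → ℂ}

/-- invariant functions -/
def Inv (F : X → ℂ) : Prop := IsClassFunction X F ∧ ∀ x, F (S.δ x) = F x

theorem δ_z (y : X) : S.δ (S.z * y) = S.z * (S.z * S.δ y) := by rw [map_mul, S.δz, mul_assoc]

theorem δ_zz (y : X) : S.δ (S.z * (S.z * y)) = S.z * S.δ y := by rw [δ_z, δ_z, S.cu.cube]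

theorem av_δ (h : ∀ x, F (S.δ x) = F x) (x : X) : av S.z F (S.δ x) = av S.z F x := by
  rw [av, av, ← δ_z, ← δ_zz, h, h, h]
  ring

variable {S} in
theorem Inv.av (h : S.Inv F) : S.Inv (av S.z F) :=
  ⟨fun g s => by rw [Z.av, Z.av, S.cu.conj, S.cu.conj, h.1, h.1, h.1], S.av_δ h.2⟩

variable {S} in
theorem Inv.mul (h : S.Inv F) (h' : S.Inv H) : S.Inv fun x => F x * H x :=
  ⟨fun g s => congrArg₂ _ (h.1 g s) (h'.1 g s), fun x => congrArg₂ _ (h.2 x) (h'.2 x)⟩

theorem eq_of {x y : X} (h : S.φ x = S.φ y) : x = y ∨ x = S.z * y ∨ x = S.z * (S.z * y) := by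
  rcases S.ker (x * y⁻¹) (by rw [map_mul, map_inv, h, mul_inv_cancel]) with e | e | e
  · exact Or.inl (mul_inv_eq_one.1 e)
  · exact Or.inr (Or.inl (mul_inv_eq_iff_eq_mul.1 e))
  · exact Or.inr (Or.inr ((mul_inv_eq_iff_eq_mul.1 e).trans (mul_assoc _ _ _)))

/-- **every element is conjugate to a multiple of a representative** -/
theorem key (x : X) : ∃ k < 3, ∀ (F : X → ℂ) (v : ℤ × ℤ × ℤ), S.Inv F → Val S.z F (S.R (td.ty (S.φ x))) v →
    F x = g3 v k := by
  obtain ⟨σ, h, -⟩ := hom _ _ (S.ty _ (td.lt (S.φ x)))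
  generalize S.R (td.ty (S.φ x)) = r at h
  obtain ⟨s, e⟩ := T.out_cases S2074.result (β := rho) (fun ⟨k, hk⟩ => H997.OutSuz.rho_outer k hk.symm) σ
  obtain ⟨s, rfl⟩ := S.surj s
  rcases e with rfl | rfl
  · rcases S.eq_of (x := x) (y := s * r * s⁻¹) (by rw [← h, map_mul, map_mul, map_inv]; rfl) with e | e | e
    · exact ⟨0, by omega, fun F v h1 h2 => by rw [e, h1.1, h2.1]; rfl⟩
    · exact ⟨1, by omega, fun F v h1 h2 => by rw [e, S.cu.conj, h1.1, h2.2.1]; rfl⟩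
    · exact ⟨2, by omega, fun F v h1 h2 => by rw [e, S.cu.conj, S.cu.conj, h1.1, h2.2.2]; rfl⟩
  · rcases S.eq_of (x := x) (y := s * S.δ r * s⁻¹) (by rw [← h, map_mul, map_mul, map_inv, S.φδ]; rfl) with e | e | e
    · exact ⟨0, by omega, fun F v h1 h2 => by rw [e, h1.1, h1.2, h2.1]; rfl⟩
    · exact ⟨2, by omega, fun F v h1 h2 => by rw [e, S.cu.conj, h1.1, ← δ_zz, h1.2, h2.2.2]; rfl⟩
    · exact ⟨1, by omega, fun F v h1 h2 => by rw [e, S.cu.conj, S.cu.conj, h1.1, ← δ_z, h1.2, h2.2.1]; rfl⟩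

/-- the inflated rows -/
noncomputable def U (c : List (List (ℤ × ℕ))) (j : ℕ) (x : X) : ℂ := (nth (cU c j) (td.ty (S.φ x)) : ℤ)

/-- the faithful functions -/
noncomputable def FF (j : ℕ) (x : X) : ℂ :=
  prj S.z S.L x * S.U cfa j x + prj S.z S.P x * S.U cfb j x + prj S.z (lam (prj S.z S.L)) x * S.U cfc j x

theorem U_z (c : List (List (ℤ × ℕ))) (j : ℕ) (x : X) : S.U c j (S.z * x) = S.U c j x := by
  rw [U, map_mul, S.φz, one_mul, U]

theorem av_FF (j : ℕ) (x : X) : av S.z (S.FF j) x = 0 := by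
  have h1 := S.cu.av_prj S.L x
  have h2 := S.cu.av_prj S.P x
  have h3 := S.cu.av_prj (lam (prj S.z S.L)) x
  rw [av] at h1 h2 h3
  simp only [av, FF, U_z]
  linear_combination S.U cfa j x * h1 + S.U cfb j x * h2 + S.U cfc j x * h3

theorem FF_δ (j : ℕ) (x : X) : S.FF j (S.δ x) = S.FF j x := by
  have h1 : ∀ {F : X → ℂ}, (∀ x, F (S.δ x) = F x) → ∀ x, prj S.z F (S.δ x) = prj S.z F x := fun h x => by
    rw [prj, prj, S.av_δ h, h]
  have h2 : ∀ c, S.U c j (S.δ x) = S.U c j x := fun c => by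
    rw [U, U, S.φδ, td_ty, td_ty, H714.S8.SuzFam.fam_aut]
  rw [FF, FF, h1 S.δL, h1 S.δP, h2, h2, h2, h1 fun x => by rw [lam, lam, ← map_pow, h1 S.δL, h1 S.δL]]

theorem val_FF {j t : ℕ} (hj : j < 36) (ht : t < 37) : Val S.z (S.FF j) (S.R t) (vF j t) := by
  obtain ⟨⟨-, -, o1⟩, o2, o3, o4, o5⟩ := div_ok t ht
  have ha : Val S.z _ _ (va t) := (S.vL t ht).prj S.cu o2
  have hb : Val S.z _ _ (vb t) := (S.vP t ht).prj S.cu o4
  have hc : Val S.z _ _ (vc t) := (ha.lam S.cu ((S.vL2 t ht).prj S.cu o3) o1).prj S.cu o5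
  have h1 := row_ok j hj
  rw [rowB', frcLZ_eq, frcLZ_eq, frcLZ_eq] at h1
  have h2 := fun k hk => congrArg (Int.cast : ℤ → ℂ)
    (of_decide_eq_true (allL_spec (allL_spec h1 t (List.mem_range.2 ht)) k hk))
  have h3 : ∀ c, S.U c j (S.R t) = (nth (cU c j) t : ℤ) := fun c => by rw [U, S.ty t ht]
  simp only [Int.cast_add, Int.cast_mul] at h2
  refine ⟨?_, ?_, ?_⟩
  · rw [FF, ha.1, hb.1, hc.1, h3, h3, h3]
    exact (h2 0 (by decide)).symm
  · rw [FF, ha.2.1, hb.2.1, hc.2.1, U_z, U_z, U_z, h3, h3, h3]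
    exact (h2 1 (by decide)).symm
  · rw [FF, ha.2.2, hb.2.2, hc.2.2, U_z, U_z, U_z, U_z, U_z, U_z, h3, h3, h3]
    exact (h2 2 (by decide)).symm

variable [Finite X]

theorem gen_FF (j : ℕ) : IsGeneralizedCharacter X (S.FF j) := by
  have := SporadicRecognition.SuzOrder.finiteSuz
  have h1 : ∀ c, IsGeneralizedCharacter X (S.U c j) := fun c => H651.isGeneralizedCharacter_comp_hom S.φ
    (Virt.comb (slp mass rfl hom ops virt_seeds TAB.Sz.ix ops_chk) (ntd c [] j))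
  exact isGeneralizedCharacter_add (isGeneralizedCharacter_add
    (isGeneralizedCharacter_mul (gen_prj S.cu S.gL) (h1 _)) (isGeneralizedCharacter_mul (gen_prj S.cu S.gP) (h1 _)))
    (isGeneralizedCharacter_mul (gen_prj S.cu (gen_ext_two (gen_prj S.cu S.gL))) (h1 _))

theorem inv_FF (j : ℕ) : S.Inv (S.FF j) := ⟨gen_classFunction (S.gen_FF j), S.FF_δ j⟩

/-- the integral functions -/
noncomputable def ff (j : ℕ) (x : X) : ℤ := g3 (vF j (td.ty (S.φ x))) (S.key x).choose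

theorem ff_eq {j : ℕ} (hj : j < 36) (x : X) : (S.ff j x : ℂ) = S.FF j x :=
  ((S.key x).choose_spec.2 _ _ (S.inv_FF j) (S.val_FF hj (td.lt _))).symm

theorem ff_val {j : ℕ} (hj : j < 36) : S.ff j 1 = g3 (vF j 0) 0 ∧ S.ff j S.z = g3 (vF j 0) 1 ∧
    S.ff j (S.z * S.z) = g3 (vF j 0) 2 := by
  have h := S.val_FF hj (t := 0) (by omega)
  rw [S.R0, Val, mul_one, ← S.ff_eq hj, ← S.ff_eq hj, ← S.ff_eq hj, Int.cast_inj, Int.cast_inj, Int.cast_inj] at h
  exact h

omit [Finite X] in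
include S in
theorem card_X : Nat.card X = 3 * dat.N := by
  rw [← S.φ.ker.card_mul_index, S.card, Subgroup.index_ker, MonoidHom.range_eq_top.2 S.surj, Subgroup.card_top, mass.1]

theorem gram [Fintype X] {i j : ℕ} (hi : i < 36) (hj : j < 36) : classInner (fun x => (S.ff i x : ℂ))
    (fun x => (S.ff j x : ℂ)) = ((2 * gam mW (fun _ => 0) i j : ℤ) : ℂ) := by
  have := SporadicRecognition.SuzOrder.finiteSuz
  have := Fintype.ofFinite Suz
  have h1 : ∀ x, av S.z (fun x => S.FF i x * S.FF j x) x = sm (mulV (vF i (td.ty (S.φ x))) (vF j (td.ty (S.φ x)))) :=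
    fun x => by
      obtain ⟨k, -, h⟩ := S.key x
      have h2 := ((S.val_FF hi (td.lt (S.φ x))).mul (S.val_FF hj (td.lt (S.φ x)))).av
      refine (h _ (_, _, _) ((S.inv_FF i).mul (S.inv_FF j)).av ⟨h2, (S.cu.av_z _ _).trans h2,
        (S.cu.av_z _ _).trans ((S.cu.av_z _ _).trans h2)⟩).trans ?_
      rw [g3, ite_self, ite_self]
      rfl
  have h2 := inner_of_ipF mass (f := fun t => sm (mulV (vF i t) (vF j t))) (g := fun _ => 1)
    (z := 6 * gam mW (fun _ => 0) i j) (by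
      rw [← gram_ok i hi j hj, ip, ip, ip, ipL_eq, ipL_eq, ipL_eq, ← Finset.sum_add_distrib, ← Finset.sum_add_distrib]
      exact Finset.sum_congr rfl fun t _ => by rw [← mul_add, ← mul_add, mul_one]; rfl)
  have h3 := (H829.GowDesc.classInner_comp_surj S.φ S.surj _ _).trans h2
  have h4 : ∀ F : X → ℂ, ∑ x, F (S.z * x) = ∑ x, F x := fun F => Equiv.sum_comp (Equiv.mulLeft S.z) F
  simp only [classInner_def, Function.comp_apply, ← h1, Int.cast_one, map_one, mul_one, av,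
    Finset.sum_add_distrib] at h3
  rw [h4 fun x => S.FF i (S.z * x) * S.FF j (S.z * x), h4 fun x => S.FF i x * S.FF j x] at h3
  simp only [classInner_def, map_intCast]
  simp only [S.ff_eq hi, S.ff_eq hj]
  push_cast at h3 ⊢
  linear_combination h3 / 3

/-- **sixteen characters of odd degree** -/
theorem count {ω : ℂ} (hω : ω ^ 2 + ω + 1 = 0) : Nat.card {χ : X → ℂ // OI X χ ∧ χ S.z = ω * χ 1} = 16 := by
  classical
  have := Fintype.ofFinite X
  have := SporadicRecognition.SuzOrder.finiteSuz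
  rw [← cnt_ok]
  refine S7.card_cov (Subgroup.mem_center_iff.2 fun g => (S.cu.cen g).symm)
    (by rw [pow_three, ← mul_one (S.z * S.z), mul_assoc, S.cu.cube]) hω
    ⟨fun _ _ => le_rfl, fun _ _ h => absurd rfl h, fun _ h => absurd h (Nat.not_lt_zero _),
      fun _ h => absurd h (Nat.not_lt_zero _)⟩ (fun j _ => by unfold mW; split_ifs <;> omega) S.ff
    (fun j hj => funext (S.ff_eq hj) ▸ S.gen_FF j) (fun j hj x => ?_) (fun i hi j hj => S.gram hi hj)
    (fun j hj i hi _ h1 h2 _ => Or.inr ?_) _ (g := fun x => if S.φ x = 1 then dat.N else 0)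
    (fun x => by rw [map_mul, S.φz, one_mul]) ?_ fun x hx => ?_
  · have h := S.av_FF j x
    rw [av, ← S.ff_eq hj, ← S.ff_eq hj, ← S.ff_eq hj] at h
    exact_mod_cast h
  · rw [(S.ff_val hj).1, (S.ff_val (hi.trans hj)).1, S.card_X]
    exact sep_ok j hj i hi h1 h2
  · rw [Finset.sum_congr rfl fun j hj => by rw [(S.ff_val (mem_range.1 hj)).1], reg_ok 0 (by omega) 0 (by omega),
      map_one, S.card_X]
    simp only [if_true]
    push_cast
    ring
  · by_cases h : S.φ x = 1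
    · rw [if_pos h]
      rcases S.ker x h with e | rfl | rfl
      · exact absurd e hx
      · rw [Finset.sum_congr rfl fun j hj => by rw [(S.ff_val (mem_range.1 hj)).2.1], reg_ok 0 (by omega) 1 (by omega)]
        rfl
      · rw [Finset.sum_congr rfl fun j hj => by rw [(S.ff_val (mem_range.1 hj)).2.2], reg_ok 0 (by omega) 2 (by omega)]
        rfl
    · rw [if_neg h, neg_zero]
      exact (reg_ok _ (td.lt _) _ (S.key x).choose_spec.1).trans
        (if_neg (mt (TD.ty_eq_zero mass (by decide) rfl (by decide) _).1 h))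

end Sc

end Cfsg.Agent.MK.S4.Z

private theorem dce_957eea99d667 : _root_.True := by
  try have : _root_.True := by simp only [_root_.Cfsg.Agent.MK.S4.Z.Val.eq_1]
  try have : _root_.True := by simp only [_root_.Cfsg.Agent.MK.S4.Z.Sc.FF.eq_1]
  try have : _root_.True := by simp only [_root_.Cfsg.Agent.MK.S4.Z.lam.eq_1]
  try have : _root_.True := by simp only [_root_.Cfsg.Agent.MK.S4.Z.Sc.U.eq_1]
  try have : _root_.True := by simp only [_root_.Cfsg.Agent.MK.S4.Z.g3.eq_1]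
  try have : _root_.True := by simp only [_root_.Cfsg.Agent.MK.S4.Z.av.eq_1]
  try have : _root_.True := by simp only [_root_.Cfsg.Agent.MK.S4.Z.prj.eq_1]
  try have : _root_.True := by simp only [_root_.Cfsg.Agent.MK.S4.Z.rowB'.eq_1]
  try have : _root_.True := by simp only [_root_.Cfsg.Agent.MK.S4.Z.sm.eq_1]
  exact _root_.True.intro
end

-- part: MK/S4/ZM
section
prune_inst 0x102c040962020000000082310060405400019000200001d0600a000202d12a0902a10194b0090a18ca2a00204d0060020000b0421000000a000c000005010018aa5082b308010cb6000e803087090800000000000000000000000000041004004010000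
set_option linter.all false
open scoped Cfsg.Agent.FastGrp

/-!
# MK, the row `3.Suz` (helper88)

* `Rp` : the matrices; `Md` : the sixfold cover; `exists_sc` : the scene on a triple cover; `suz3` : the row.
-/

set_option autoImplicit false
set_option maxRecDepth 100000

namespace Cfsg.Agent.MK.S4

open Cfsg Subgroup Cfsg.Agent.MK.T Cfsg.Agent.MK.S

namespace Z

open Cfsg.Agent.TAB.Eng Cfsg.Agent.TAB.Sz Cfsg.Agent.Characters Cfsg.Agent.Characters.Core
open Cfsg.Agent.Characters.Brauer Cfsg.Agent.H447.CTab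
open Cfsg.Agent.TAB.F22 (relB trB cm rel_of_chk trace_of_chk)
open Cfsg.Agent.KFacts.SuzRho (rho rhoHom rhoHom_of)
open Cfsg.Agent.H123.Cls.SuzDat (gn W W_chk D D_sg D_len comm_tab)
open Cfsg.Agent.SporadicRecognition.SuzOrder (el finiteSuz card_Suz)
open Cfsg.Spor (Suz)
open scoped commutatorElement

/-- the matrices -/
structure Rp (G : Type) [Group G] where
  u : ℕ → G
  T : G → ℂ
  ch : IsCharacter G T
  neg : ∀ y, T (u 8 * y) = -T y
  p12 : ∀ x, u x ^ 12 = 1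
  rel : ∀ w, relB 24 ms sc fs 8 w = true → (w.map u).prod = 1
  tr : ∀ w (t : ℤ), trB 24 ms sc fs 8 w t = true → T (w.map u).prod = t

theorem cm12 {x : ℕ} (h : x < 10) : cm 24 ms sc x ^ 12 = 1 := by
  have h1 := rel_of_chk ok_ms (p12_chk x h)
  rwa [List.map_replicate, List.prod_replicate] at h1

/-- the letters as units -/
noncomputable def un (x : ℕ) : (Matrix (Fin 24) (Fin 24) ℂ)ˣ :=
  if h : x < 10 then Units.ofPowEqOne _ 12 (cm12 h) (by decide) else 1

theorem coe_un {x : ℕ} (h : x < 10) : (un x : Matrix (Fin 24) (Fin 24) ℂ) = cm 24 ms sc x := by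
  rw [un, dif_pos h, Units.val_ofPowEqOne]

theorem coe_word : ∀ w : List ℕ, (∀ x ∈ w, x < 10) →
    (((w.map un).prod : (Matrix (Fin 24) (Fin 24) ℂ)ˣ) : Matrix (Fin 24) (Fin 24) ℂ) = (w.map (cm 24 ms sc)).prod
  | [], _ => rfl
  | x :: w, h => by
    rw [List.map_cons, List.prod_cons, Units.val_mul, coe_un (h x List.mem_cons_self),
      coe_word w fun y hy => h y (List.mem_cons_of_mem _ hy), List.map_cons, List.prod_cons]

theorem cm8 : cm 24 ms sc 8 = -1 := by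
  ext i j
  have h := neg_chk i j
  change ((1 : ℕ) : ℂ)⁻¹ * ((TAB.Use.coef ((m8.map TAB.F22.sgn).getD i []) j : ℤ) : ℂ) = _
  rw [h, Matrix.neg_apply, Matrix.one_apply]
  split_ifs <;> simp

/-- the matrices exist -/
noncomputable def rp : Rp (Matrix (Fin 24) (Fin 24) ℂ)ˣ where
  u := un
  T y := (y : Matrix (Fin 24) (Fin 24) ℂ).trace
  ch := S0148.isCharacter_of_matrix (Units.coeHom (Matrix (Fin 24) (Fin 24) ℂ))
  neg y := by rw [Units.val_mul, coe_un (by decide), cm8, neg_one_mul, Matrix.trace_neg]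
  p12 x := by
    by_cases h : x < 10
    · exact Units.ext (by rw [Units.val_pow_eq_pow_val, coe_un h, cm12 h, Units.val_one])
    · rw [un, dif_neg h, one_pow]
  rel w h := by
    have h1 := h
    rw [relB, Bool.and_eq_true, Bool.and_eq_true] at h1
    exact Units.ext ((coe_word w fun x hx => Nat.blt_eq.mp (allL_spec h1.1.1 x hx)).trans (rel_of_chk ok_ms h))
  tr w t h := by
    have h1 := h
    rw [trB, Bool.and_eq_true, Bool.and_eq_true] at h1
    rw [coe_word w fun x hx => Nat.blt_eq.mp (allL_spec h1.1.1 x hx), trace_of_chk ok_ms h]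

/-- the sixfold cover -/
structure Md (Y : Type) [Group Y] where
  q : Y →* Suz
  j : Y
  δ : Y →* Y
  T : Y → ℂ
  lw : List ℕ → Y
  surj : Function.Surjective q
  cen : ∀ y, j * y = y * j
  ord : orderOf j = 6
  ker : q.ker = zpowers j
  com : j ∈ commutator Y
  qδ : ∀ y, q (δ y) = rho (q y)
  δj : δ j = j⁻¹
  ch : IsCharacter Y T
  Tδ : ∀ y, T (δ y) = T y
  neg : ∀ y, T (j ^ 3 * y) = -T y
  q_lw : ∀ w, q (lw w) = el (w.map gn)
  val : ∀ w k v, (∀ x ∈ w, x < 7) → tr3 (pw w k) v = true → Val (j ^ 2) T (lw w ^ k) v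
  l0 : q (lw [0, 0, 0, 0]) = 1 → lw [0, 0, 0, 0] = 1

theorem prod_pw {M : Type} [Monoid M] (f : ℕ → M) (w : List ℕ) (k : ℕ) : ((pw w k).map f).prod = (w.map f).prod ^ k := by
  rw [pw, List.map_flatten, List.prod_flatten, List.map_replicate, List.map_replicate, List.prod_replicate]

namespace Rp

variable {G : Type} [Group G] (P : Rp G)

/-- the product of a word -/
def ev (w : List ℕ) : G := (w.map P.u).prod

theorem ev_append (v w : List ℕ) : P.ev (v ++ w) = P.ev v * P.ev w := by rw [ev, List.map_append, List.prod_append, ev, ev]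

theorem ev_iw : ∀ w : List ℕ, P.ev (iw w) = (P.ev w)⁻¹
  | [] => inv_one.symm
  | x :: w => by
    have h1 : iw (x :: w) = iw w ++ List.replicate 11 x := by
      rw [iw, List.reverse_cons, List.flatMap_append, List.flatMap_singleton, iw]
    rw [h1, ev_append, ev_iw w, ev, ev, ev, List.map_replicate, List.prod_replicate, List.map_cons, List.prod_cons,
      mul_inv_rev, inv_eq_of_mul_eq_one_right ((pow_succ' _ 11).symm.trans (P.p12 x))]

theorem eq_of {v w : List ℕ} (h : eqB v w = true) : P.ev v = P.ev w := by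
  have h1 : P.ev (v ++ iw w) = 1 := P.rel _ h
  rwa [ev_append, ev_iw, mul_inv_eq_one] at h1

theorem ev2 (a b : ℕ) : P.ev [a, b] = P.u a * P.u b := by simp [ev]

theorem ev7 (k : ℕ) : P.ev (List.replicate k 7) = P.u 7 ^ k := by rw [ev, List.map_replicate, List.prod_replicate]

theorem scal {w : List ℕ} (h : scB w = true) : P.ev w ∈ zpowers (P.u 7) := by
  rw [scB, Bool.or_eq_true, Bool.or_eq_true] at h
  rcases h with h | h | h <;> rw [P.eq_of h]
  exacts [one_mem _, P.ev7 3 ▸ pow_mem (mem_zpowers _) 3, P.ev7 1 ▸ pow_mem (mem_zpowers _) 1]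

theorem ord : orderOf (P.u 7) = 6 := by
  obtain ⟨h1, -, -, -, h2, h3, h4, -⟩ := j_chk
  have h5 : ∀ (k : ℕ) (t : ℤ), trB 24 ms sc fs 8 (List.replicate k 7) t = true → t ≠ 24 → P.u 7 ^ k ≠ 1 :=
    fun k t h h6 h7 => h6 (Int.cast_injective (α := ℂ) (by
      rw [← P.tr _ _ h, ← P.tr _ _ h2]
      exact congrArg P.T ((P.ev7 k).trans h7)))
  refine orderOf_eq_of_pow_and_pow_div_prime (by decide) ((P.ev7 6).symm.trans (P.eq_of h1)) fun p hp hd => ?_
  have h6 := Nat.le_of_dvd (by decide) hd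
  interval_cases p <;> first | exact absurd hp (by decide) | exact absurd hd (by decide) | skip
  exacts [h5 3 _ h4 (by decide), h5 2 _ h3 (by decide)]

/-- the centraliser of the scalar -/
def C : Subgroup G := centralizer {P.u 7}

/-- the scalar -/
def J : P.C := ⟨P.u 7, mem_centralizer_singleton_iff.2 rfl⟩

theorem J_cen (y : P.C) : P.J * y = y * P.J := Subtype.ext (mem_centralizer_singleton_iff.1 y.2).symm

instance nK : (zpowers P.J).Normal := ⟨fun n hn g => by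
  rwa [mem_center_iff.1 (zpowers_le_of_mem (mem_center_iff.2 fun y => (P.J_cen y).symm) hn) g, mul_inv_cancel_right]⟩

/-- the projection -/
def pr : P.C →* P.C ⧸ zpowers P.J := QuotientGroup.mk' _

/-- the generators -/
def v (x : Suz.Gen) : P.C :=
  ⟨P.u (ix x), mem_centralizer_singleton_iff.2 (by rw [← ev2, ← ev2, P.eq_of (cen_chk x)])⟩

theorem coe_v : ∀ w : List ℕ, (∀ x ∈ w, x < 7) → (((w.map fun x => P.v (gn x)).prod : P.C) : G) = P.ev w
  | [], _ => rfl
  | x :: w, h => by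
    have h1 : ∀ x < 7, ix (gn x) = x := by decide
    rw [List.map_cons, List.prod_cons, coe_mul, coe_v w fun y hy => h y (List.mem_cons_of_mem _ hy)]
    change P.u (ix (gn x)) * _ = _
    rw [h1 x (h x List.mem_cons_self)]
    rfl

theorem word_one {w : List ℕ} (hw : ∀ x ∈ w, x < 7) (h : scB w = true) :
    (w.map fun x => P.pr (P.v (gn x))).prod = 1 := by
  obtain ⟨k, hk⟩ := P.scal h
  rw [← P.coe_v w hw] at hk
  have h1 := (QuotientGroup.eq_one_iff (N := zpowers P.J) _).2 ⟨k, Subtype.ext hk⟩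
  rwa [← QuotientGroup.mk'_apply, map_list_prod, List.map_map] at h1

theorem rels : ∀ r ∈ Spor.coxRelators Suz.edges ∪ {r | r ∈ Suz.extra},
    FreeGroup.lift (fun x => P.pr (P.v x)) r = 1 := by
  have cox : ∀ x y, (P.pr (P.v x) * P.pr (P.v y)) ^ Spor.coxLabel Suz.edges x y = 1 := fun x y => by
    have h := P.word_one (by cases x <;> cases y <;> decide) (cox_chk x y)
    have h1 : ∀ x, gn (ix x) = x := fun x => by cases x <;> rfl
    rwa [prod_pw, List.map_cons, List.map_cons, List.map_nil, List.prod_cons, List.prod_cons, List.prod_nil, mul_one,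
      h1, h1] at h
  rintro r (⟨x, -, y, -, rfl⟩ | hr)
  · rw [map_pow, map_mul, FreeGroup.lift_apply_of, FreeGroup.lift_apply_of, cox]
  · have key : ∀ X : P.C ⧸ zpowers P.J, X * P.pr (P.v .a) = 1 → P.pr (P.v .a) * X⁻¹ = 1 := fun X h => by
      rw [inv_eq_of_mul_eq_one_right h, ← pow_one (_ * _)]
      exact cox .a .a
    obtain ⟨x1, x2, x3, x4, x5⟩ := ex_chk
    have hr' : r ∈ Suz.extra := hr
    simp only [Suz.extra, List.mem_cons, List.not_mem_nil, or_false] at hr'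
    rcases hr' with rfl | rfl | rfl | rfl | rfl <;> simp only [map_mul, map_inv, map_pow, FreeGroup.lift_apply_of]
    · simpa only [List.map_append, List.prod_append, prod_pw, List.map_cons, List.map_nil, List.prod_cons,
        List.prod_nil, mul_one, gn] using key _ (by
          simpa only [List.map_append, List.prod_append, prod_pw, List.map_cons, List.map_nil, List.prod_cons,
            List.prod_nil, mul_one, gn] using P.word_one (by decide) x1)
    · exact key _ (by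
        simpa only [List.map_append, List.prod_append, prod_pw, List.map_cons, List.map_nil, List.prod_cons,
          List.prod_nil, mul_one, gn] using P.word_one (by decide) x2)
    · simpa only [prod_pw, List.map_cons, List.map_nil, List.prod_cons, List.prod_nil, mul_one, mul_assoc, gn] using
        P.word_one (by decide) x3
    · simpa only [prod_pw, List.map_cons, List.map_nil, List.prod_cons, List.prod_nil, mul_one, mul_assoc, gn] using
        P.word_one (by decide) x4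
    · simpa only [prod_pw, List.map_append, List.prod_append, List.map_cons, List.map_nil, List.prod_cons,
        List.prod_nil, mul_one, mul_assoc, gn] using P.word_one (by decide) x5

/-- the projective representation -/
def σ : Suz →* P.C ⧸ zpowers P.J := PresentedGroup.toGroup P.rels

theorem σ_of (x : Suz.Gen) : P.σ (PresentedGroup.of x) = P.pr (P.v x) := PresentedGroup.toGroup.of P.rels

theorem tau_J : P.u 9 * P.u 7 * (P.u 9)⁻¹ = (P.u 7)⁻¹ := by
  have h := P.eq_of j_chk.2.2.1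
  simp only [ev, List.map_cons, List.map_nil, List.prod_cons, List.prod_nil, mul_one] at h
  rw [eq_inv_iff_mul_eq_one, mul_assoc, ← inv_inv (P.u 7 : G), ← mul_inv_rev, mul_inv_eq_one, inv_inv,
    eq_inv_mul_iff_mul_eq, h]

/-- the conjugation by the semilinear map -/
def ct : P.C →* P.C := ((MulAut.conj (P.u 9)).toMonoidHom.comp P.C.subtype).codRestrict P.C fun y =>
  mem_centralizer_singleton_iff.2 (by
    have h : Commute (MulAut.conj (P.u 9) y) (MulAut.conj (P.u 9) (P.u 7)) :=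
      Commute.map (mem_centralizer_singleton_iff.1 y.2) _
    rw [MulAut.conj_apply _ (P.u 7), tau_J] at h
    exact Commute.inv_right_iff.1 h)

theorem ct_J : P.ct P.J = P.J⁻¹ := Subtype.ext P.tau_J

/-- the induced map -/
def cq : P.C ⧸ zpowers P.J →* P.C ⧸ zpowers P.J := QuotientGroup.map _ _ P.ct (zpowers_le_of_mem (by
  rw [mem_comap, ct_J]
  exact inv_mem (mem_zpowers _)))

theorem σ_rho (s : Suz) : P.σ (rhoHom s) = P.cq (P.σ s) := by
  refine DFunLike.congr_fun (PresentedGroup.ext (φ := P.σ.comp rhoHom) (ψ := P.cq.comp P.σ) fun x => ?_) s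
  rw [MonoidHom.comp_apply, MonoidHom.comp_apply, rhoHom_of, σ_of, σ_of]
  refine congrArg P.pr (Subtype.ext (eq_mul_inv_of_mul_eq ?_))
  exact (P.ev2 _ _).symm.trans ((P.eq_of (tau_chk x)).symm.trans (P.ev2 _ _))

/-- the cover -/
def Y : Subgroup (P.C × Suz) := (P.pr.comp (MonoidHom.fst _ _)).eqLocus (P.σ.comp (MonoidHom.snd _ _))

/-- the matrix -/
def π : P.Y →* G := P.C.subtype.comp ((MonoidHom.fst _ _).comp P.Y.subtype)

/-- the image -/
def q : P.Y →* Suz := (MonoidHom.snd _ _).comp P.Y.subtype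

/-- the scalar -/
def j : P.Y := ⟨(P.J, 1), ((QuotientGroup.eq_one_iff _).2 (mem_zpowers _)).trans (map_one P.σ).symm⟩

/-- the lift of a word -/
def lw (w : List ℕ) : P.Y :=
  (w.map fun x => (⟨(P.v (gn x), PresentedGroup.of (gn x)), (P.σ_of _).symm⟩ : P.Y)).prod

theorem ext {x y : P.Y} (h1 : P.π x = P.π y) (h2 : P.q x = P.q y) : x = y :=
  Subtype.ext (Prod.ext (Subtype.ext h1) h2)

theorem q_lw (w : List ℕ) : P.q (P.lw w) = el (w.map gn) := by
  rw [lw, map_list_prod, List.map_map, el, List.map_map]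
  rfl

theorem π_lw {w : List ℕ} (h : ∀ x ∈ w, x < 7) : P.π (P.lw w) = P.ev w := by
  rw [← P.coe_v w h, lw, map_list_prod, List.map_map, ← coe_subtype, map_list_prod, List.map_map]
  rfl

theorem ker_q : P.q.ker = zpowers P.j := by
  refine le_antisymm (fun y hy => ?_) (zpowers_le_of_mem rfl)
  have h1 : P.pr y.1.1 = P.σ (P.q y) := y.2
  rw [MonoidHom.mem_ker.1 hy, map_one] at h1
  obtain ⟨k, hk⟩ := (QuotientGroup.eq_one_iff _).1 h1
  refine ⟨k, P.ext ?_ ?_⟩
  · rw [map_zpow]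
    exact congrArg Subtype.val hk
  · rw [map_zpow, MonoidHom.mem_ker.1 hy]
    exact one_zpow k

theorem com_j {a b : List ℕ} {k : ℕ} (ha : ∀ x ∈ a, x < 7) (hb : ∀ x ∈ b, x < 7)
    (h : eqB (a ++ b) (List.replicate k 7 ++ (b ++ a)) = true)
    (h' : el (a.map gn ++ b.map gn) = el (b.map gn ++ a.map gn)) : P.j ^ k ∈ commutator P.Y := by
  have h1 := P.eq_of h
  rw [ev_append, ev_append, ev_append, ev7, ← P.π_lw ha, ← P.π_lw hb, ← mul_inv_eq_iff_eq_mul] at h1
  rw [SuzThree.Basic.el_append, SuzThree.Basic.el_append, ← P.q_lw, ← P.q_lw] at h'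
  rw [← P.ext (x := ⁅P.lw a, P.lw b⁆) (y := P.j ^ k) (by
    rw [map_commutatorElement P.π, commutatorElement_def, mul_assoc, ← mul_inv_rev, h1, map_pow]
    rfl) (by
    rw [map_commutatorElement P.q, commutatorElement_eq_one_iff_mul_comm.2 h', map_pow]
    exact (one_pow k).symm)]
  exact commutator_mem_commutator (mem_top _) (mem_top _)

/-- the lift of the outer automorphism -/
noncomputable def δ : P.Y →* P.Y := ((P.ct.prodMap rhoHom).comp P.Y.subtype).codRestrict P.Y fun y =>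
  (congrArg P.cq (y.2 : P.pr y.1.1 = P.σ y.1.2)).trans (P.σ_rho _).symm

theorem π_j (k : ℕ) : P.π (P.j ^ k) = P.ev (List.replicate k 7) := by
  rw [map_pow, ev7]
  rfl

/-- the cover with its data -/
noncomputable def md : Md P.Y where
  q := P.q
  j := P.j
  δ := P.δ
  T y := P.T (P.π y)
  lw := P.lw
  surj s := by
    obtain ⟨y, hy⟩ := QuotientGroup.mk'_surjective _ (P.σ s)
    exact ⟨⟨(y, s), hy⟩, rfl⟩
  cen y := Subtype.ext (Prod.ext (P.J_cen _) ((one_mul _).trans (mul_one _).symm))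
  ord := by
    rw [← P.ord, orderOf_eq_orderOf_iff]
    refine fun n => ⟨fun h => ?_, fun h => P.ext ?_ ?_⟩
    · rw [← ev7, ← π_j, h, map_one]
    · rw [π_j, ev7, h, map_one]
    · rw [map_pow, map_one]
      exact one_pow n
  ker := P.ker_q
  com := by
    have h1 := P.com_j (k := 3) (by decide) (by decide) com_chk.1 (SuzRow.eqw (by decide +kernel))
    have h2 := P.com_j (k := 4) (by decide) (by decide) com_chk.2 (SuzRow.eqw (by decide +kernel))
    have h3 := mul_mem (inv_mem h1) h2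
    rwa [pow_succ _ 3, inv_mul_cancel_left] at h3
  qδ _ := rfl
  δj := Subtype.ext (Prod.ext P.ct_J ((map_one rhoHom).trans inv_one.symm))
  ch := isCharacter_comp P.π P.ch
  Tδ y := isCharacter_isClassFunction P.ch _ _
  neg y := by rw [map_mul, π_j, ← P.neg, show P.ev (List.replicate 3 7) = P.u 8 from
    (P.eq_of j_chk.2.1).symm.trans (mul_one _)]
  q_lw := P.q_lw
  val w k v hw h := by
    rw [tr3, Bool.and_eq_true, Bool.and_eq_true] at h
    have h1 : P.π (P.lw w ^ k) = P.ev (pw w k) := by rw [map_pow, P.π_lw hw, ev, ev, prod_pw]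
    refine ⟨?_, ?_, ?_⟩ <;> beta_reduce
    · rw [h1]
      exact P.tr _ _ h.1
    · rw [map_mul, h1, π_j, ← ev_append]
      exact P.tr _ _ h.2.1
    · rw [map_mul, map_mul, h1, π_j, ← ev_append, ← ev_append]
      exact P.tr _ _ h.2.2
  l0 h := P.ext ((P.π_lw (by decide)).trans ((P.eq_of j_chk.2.2.2.2.2.2.2).trans (map_one P.π).symm))
    (h.trans (map_one P.q).symm)

end Rp

theorem ty_wd {t : ℕ} (ht : t < 37) : td.ty (el ((wd (sw t)).map gn)) = t := by
  have hi : sw t < 37 := sw_lt ht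
  rw [td_ty, ← sw_sw t, sw_sw (sw t)]
  generalize sw t = i at hi
  have h1 : i < W.length := hi
  have h2 : i < D.length := hi
  have h3 : (D[i]'h2).1 = (W[i]'h1).1 := by
    have h4 : D.map (fun x => x.1) = W.map (fun y => y.1) := rfl
    have h5 := List.getElem_of_eq h4 (i := i) (by rwa [List.length_map])
    rwa [List.getElem_map, List.getElem_map] at h5
  have h4 : (D[i]'h2).2.2 = H714.S8.SuzFam.SL.getD i [] := by
    rw [← H714.S8.SuzFam.SL_eq, List.getD_eq_getElem _ _ (by rwa [List.length_map]), List.getElem_map]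
  refine congrArg sw (H714.S8.SuzFam.fam_of_sg hi ?_)
  rw [wd, List.getD_eq_getElem _ _ (by rwa [List.length_map]), List.getElem_map, List.map_append, List.map_append,
    List.map_append, SuzThree.Basic.el_append, SuzThree.Basic.el_append, SuzThree.Basic.el_append, List.map_reverse,
    List.map_reverse, SuzThree.Basic.el_reverse, SuzThree.Basic.el_reverse, ← h4]
  exact H123.Cls.sig_of_chk (by norm_num) (h3 ▸ comm_tab (W_chk _ (List.getElem_mem h1))) (D_sg _ (List.getElem_mem h2))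
    (D_len _ (List.getElem_mem h2))

theorem gen_desc {X Y : Type} [Group X] [Group Y] [Finite Y] {θ : Y →* X} (hθ : Function.Surjective θ) {F : Y → ℂ}
    {H : X → ℂ} (hF : IsGeneralizedCharacter Y F) (h : ∀ y, H (θ y) = F y) : IsGeneralizedCharacter X H := by
  have := Finite.of_surjective θ hθ
  have := Fintype.ofFinite X
  have := Fintype.ofFinite Y
  have := finite_irr (G := Y)
  have := Fintype.ofFinite (IrrCharacter Y)
  refine isGeneralizedCharacter_of_int (fun x s => ?_) fun χ hχ => ?_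
  · obtain ⟨x, rfl⟩ := hθ x
    obtain ⟨s, rfl⟩ := hθ s
    rw [← map_inv, ← map_mul, ← map_mul, h, h, gen_classFunction hF]
  · rw [← H829.GowDesc.classInner_comp_surj θ hθ, show H ∘ θ = F from funext h]
    exact ⟨_, inner_sum_mu hF (H651.isGeneralizedCharacter_comp_hom θ
      (isGeneralizedCharacter_of_isCharacter (isIrr_isCharacter hχ)))⟩

/-- **the scene on a triple cover** -/
theorem exists_sc {Y : Type} [Group Y] (M : Md Y) {X : Type} [Group X] [Finite X] (φ : X →* Suz)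
    (hφ : Function.Surjective φ) (hk : φ.ker = center X) (h3 : Nat.card (center X) = 3) (hp : commutator X = ⊤) :
    ∃ S : Sc X, S.φ = φ := by
  have := finiteSuz
  have h6 : Nat.card M.q.ker = 6 := by rw [M.ker, Nat.card_zpowers, M.ord]
  have : Finite M.q.ker := Nat.finite_of_card_ne_zero (by omega)
  have : Finite Y := M.q.finite_iff_finite_ker_range.2 ⟨inferInstance, inferInstance⟩
  obtain ⟨θ, hθ, hq⟩ := H95.StemCover.exists_cover'
    (H51.Tools.perfect_of_simple S1694.result.1 (by rw [S1694.result.2]; norm_num)) (A := Multiplicative (ZMod 6))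
    S2048.result M.q ⟨M.surj, M.ker ▸ zpowers_le_of_mem (mem_center_iff.2 fun y => (M.cen y).symm),
      M.ker ▸ zpowers_le_of_mem M.com⟩ (by rw [h6]; simp) hp φ hφ hk.le
  have j6 : M.j ^ 6 = 1 := M.ord ▸ pow_orderOf_eq_one _
  have k1 : ∀ y, φ (θ y) = 1 → ∃ n : ℕ, M.j ^ n = y := fun y hy =>
    mem_powers_iff_mem_zpowers.2 (M.ker ▸ MonoidHom.mem_ker.2 ((hq y).symm.trans hy))
  have k2 : φ (θ M.j) = 1 := (hq _).trans (MonoidHom.mem_ker.1 (M.ker ▸ mem_zpowers _))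
  have k3 : orderOf (θ M.j) = 3 := by
    rw [← h3, ← hk, ← Nat.card_zpowers]
    refine congrArg (fun K : Subgroup X => Nat.card K) (le_antisymm (zpowers_le_of_mem k2) fun x hx => ?_)
    obtain ⟨y, rfl⟩ := hθ x
    obtain ⟨n, rfl⟩ := k1 y hx
    exact map_pow θ _ n ▸ pow_mem (mem_zpowers _) n
  have k4 : θ M.j ^ 3 = 1 := k3 ▸ pow_orderOf_eq_one _
  have k5 : ∀ y, θ y = 1 → ∃ n : ℕ, (M.j ^ 3) ^ n = y := fun y hy => by
    obtain ⟨n, rfl⟩ := k1 y (by rw [hy, map_one])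
    rw [map_pow, ← orderOf_dvd_iff_pow_eq_one, k3] at hy
    obtain ⟨n, rfl⟩ := hy
    exact ⟨n, (pow_mul _ _ _).symm⟩
  have desc : ∀ {F : Y → ℂ}, (∀ y, F (M.j ^ 3 * y) = F y) → ∀ y, F (Function.surjInv hθ (θ y)) = F y := fun h y => by
    obtain ⟨n, hn⟩ := k5 (Function.surjInv hθ (θ y) * y⁻¹) (by
      rw [map_mul, map_inv, Function.surjInv_eq hθ, mul_inv_cancel])
    rw [← eq_mul_inv_iff_mul_eq.1 hn]
    clear hn
    induction n with
    | zero => rw [pow_zero, one_mul]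
    | succ n ih => rw [pow_succ', mul_assoc, h, ih]
  have dP := desc (F := fun y => M.T y * M.T y) fun y => by rw [M.neg, neg_mul_neg]
  have dL := desc (F := lam M.T) fun y => by
    rw [lam, lam, M.neg, neg_mul_neg, ((show Commute M.j y from M.cen y).pow_left 3).mul_pow, ← pow_mul, j6, one_mul]
  let δ : X →* X := θ.liftOfRightInverse _ (Function.rightInverse_surjInv hθ) ⟨θ.comp M.δ, fun y hy => by
    obtain ⟨n, rfl⟩ := k5 y hy
    rw [MonoidHom.mem_ker, map_pow, map_pow, MonoidHom.comp_apply, M.δj, map_inv, inv_pow, k4, inv_one, one_pow]⟩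
  have hδ : ∀ y, δ (θ y) = θ (M.δ y) := fun y => θ.liftOfRightInverse_comp_apply _ _ _ y
  have cu : Cu (M.j ^ 2) := ⟨fun y => ((show Commute M.j y from M.cen y).pow_left 2).eq, fun y => by
    rw [← mul_assoc, ← mul_assoc, ← pow_add, ← pow_add, j6, one_mul]⟩
  have tv' : ∀ {F : Y → ℂ} {y : Y} {v : ℤ × ℤ × ℤ}, (∀ y, F (Function.surjInv hθ (θ y)) = F y) →
      Val (M.j ^ 2) F y v → Val (θ (M.j ^ 2)) (fun x => F (Function.surjInv hθ x)) (θ y) v := fun h h' =>
    ⟨(h _).trans h'.1, by rw [← map_mul]; exact (h _).trans h'.2.1,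
      by rw [← map_mul, ← map_mul]; exact (h _).trans h'.2.2⟩
  have vT : ∀ t < 37, Val (M.j ^ 2) M.T (M.lw (wd (sw t))) (tv t 0) ∧ Val (M.j ^ 2) M.T (M.lw (wd (sw t)) ^ 2) (tv t 1) ∧
      Val (M.j ^ 2) M.T ((M.lw (wd (sw t)) ^ 2) ^ 2) (tv t 2) := fun t ht => by
    have h := tr_chk t ht
    rw [trT, Bool.and_eq_true, Bool.and_eq_true, Bool.and_eq_true] at h
    have h1 : ∀ x ∈ wd (sw t), x < 7 := fun x hx => Nat.blt_eq.mp (allL_spec h.1 x hx)
    refine ⟨pow_one (M.lw _) ▸ M.val _ 1 _ h1 ?_, M.val _ 2 _ h1 h.2.2.1, pow_mul (M.lw _) 2 2 ▸ M.val _ 4 _ h1 h.2.2.2⟩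
    rw [pw, List.replicate_one, List.flatten_singleton]
    exact h.2.1
  have gT := isGeneralizedCharacter_of_isCharacter M.ch
  have z1 : θ (M.j ^ 2) ≠ 1 := by rw [map_pow, Ne, ← orderOf_dvd_iff_pow_eq_one, k3]; decide
  have z2 : φ (θ (M.j ^ 2)) = 1 := by rw [map_pow, map_pow, k2, one_pow]
  have z3 : θ (M.j ^ 2) * θ (M.j ^ 2) = (θ (M.j ^ 2))⁻¹ := by
    rw [eq_inv_iff_mul_eq_one, ← map_mul, ← map_mul, ← pow_add, ← pow_add, j6, map_one]
  refine ⟨{ φ := φ
            z := θ (M.j ^ 2)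
            δ := δ
            P := fun x => M.T (Function.surjInv hθ x) * M.T (Function.surjInv hθ x)
            L := fun x => lam M.T (Function.surjInv hθ x)
            R := fun t => θ (M.lw (wd (sw t)))
            surj := hφ
            cu := ⟨fun x => (mem_center_iff.1 (hk.le z2) x).symm, fun x => by
              rw [← mul_assoc, ← mul_assoc, z3, inv_mul_cancel, one_mul]⟩
            φz := z2
            ker := fun x hx => ?_
            card := hk ▸ h3
            φδ := fun x => ?_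
            δz := by rw [hδ, map_pow, M.δj, z3, inv_pow, map_inv]
            gP := gen_desc hθ (isGeneralizedCharacter_mul gT gT) dP
            gL := gen_desc hθ (gen_ext_two gT) dL
            δP := fun x => ?_
            δL := fun x => ?_
            R0 := ?_
            ty := fun t ht => by rw [hq, M.q_lw, ty_wd ht]
            vP := fun t ht => tv' dP ((vT t ht).1.mul (vT t ht).1)
            vL := fun t ht => tv' dL ((vT t ht).1.lam cu (vT t ht).2.1 (div_ok t ht).1.1)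
            vL2 := fun t ht => map_pow θ _ 2 ▸ tv' dL ((vT t ht).2.1.lam cu (vT t ht).2.2 (div_ok t ht).1.2.1) }, rfl⟩
  · rw [z3]
    exact (card_three (A := φ.ker) (hk ▸ h3) (m := ⟨_, z2⟩) (fun e => z1 (congrArg Subtype.val e)) ⟨x, hx⟩).imp
      (congrArg Subtype.val) (Or.imp (congrArg Subtype.val) (congrArg Subtype.val))
  · obtain ⟨y, rfl⟩ := hθ x
    rw [hδ, hq, hq, M.qδ]
  · obtain ⟨y, rfl⟩ := hθ x
    rw [hδ, dP, dP, M.Tδ]
  · obtain ⟨y, rfl⟩ := hθ x
    rw [hδ, dL, dL, lam, lam, ← map_pow, M.Tδ, M.Tδ]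
  · have h1 : wd (sw 0) = [0, 0, 0, 0] := rfl
    have h2 := (TD.ty_eq_zero mass (by decide) rfl (by decide) _).1 (ty_wd (t := 0) (by decide))
    rw [h1] at h2 ⊢
    rw [M.l0 ((M.q_lw _).trans h2), map_one]

end Z

/-- **the row of `3.Suz`** -/
theorem suz3 : SmC Spor.Suz := fun X _ _ φ hφ hk h3 hp _ => by
  have := SporadicRecognition.SuzOrder.finiteSuz
  obtain ⟨S, rfl⟩ := Z.exists_sc Z.rp.md φ hφ hk h3 hp
  have hz : S.z ∈ center X := hk.le S.φz
  have h4 : ∀ w ∈ center X, w = 1 ∨ w = S.z ∨ w = S.z * S.z := fun w hw => S.ker w (hk.ge hw)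
  have h5 : S.z * (S.z * S.z) = 1 := by simpa using S.cu.cube 1
  have h6 : S.z ≠ 1 := fun h => by
    rw [(eq_bot_iff_forall (center X)).2 fun w hw => by simpa [h] using h4 w hw, card_bot] at h3
    cases h3
  have h7 : S.z * S.z ≠ 1 := fun h => h6 (by rwa [h, mul_one] at h5)
  refine sm_of_kk S.φ hφ hk (by rw [h3]; decide) ?_ SuzRow.cycN SuzRow.m0 fun l m hl hm => ?_
  · have h8 : Function.Injective S.δ := (injective_iff_map_eq_one _).2 fun x hx => by
      rcases S.ker x (KFacts.SuzRho.rho.map_eq_one_iff.1 (by rw [← S.φδ, hx, map_one])) with h | rfl | rfl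
      · exact h
      · exact absurd (S.δz.symm.trans hx) h7
      · rw [map_mul, S.δz, mul_assoc, h5, mul_one] at hx
        exact absurd hx h6
    exact inn_of_aut S.φ hφ hk hp (out_cases S2074.result fun ⟨k, hk⟩ => H997.OutSuz.rho_outer k hk.symm)
      (MulEquiv.ofBijective S.δ (Finite.injective_iff_bijective.1 h8)) S.φδ fun h =>
        h6 (mul_eq_left.1 (S.δz.symm.trans (h _ hz)))
  · have h0 : l 1 = 1 := (hm 1).trans (by rw [map_one, Units.val_one])
    have h8 : ∀ a ∈ center X, ∀ b ∈ center X, l (a * b) = l a * l b := fun a ha b hb =>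
      (hm (⟨a, ha⟩ * ⟨b, hb⟩)).trans (by rw [map_mul, Units.val_mul, ← hm, ← hm])
    have h9 : l S.z ^ 2 + l S.z + 1 = 0 := mul_left_cancel₀ (sub_ne_zero.2 (mt (hl _ hz) h6)) (by
      have h := h8 _ hz _ (mul_mem hz hz)
      rw [h5, h0, h8 _ hz _ hz] at h
      linear_combination -h)
    rw [kk_top, k0_of_degList TAB.Suz.deg]
    refine Eq.trans ?_ ((S.count h9).trans (by decide))
    refine Nat.card_congr (Equiv.subtypeEquivRight fun χ => and_congr_right fun hχ => ⟨fun h => h _ hz, fun h w hw => ?_⟩)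
    obtain ⟨c, hc, -⟩ := ODD.Red.exists_central hχ.1 hz
    obtain rfl : c = l S.z := mul_right_cancel₀ (Characters.Core.isIrr_apply_one_ne_zero hχ.1) (by rw [← hc, mul_one, h])
    rcases h4 w hw with rfl | rfl | rfl
    · rw [h0, one_mul]
    · exact h
    · rw [hc, h, h8 _ hz _ hz, mul_assoc]

end Cfsg.Agent.MK.S4

private theorem dce_4c857165b258 : _root_.True := by
  try have : _root_.True := by simp only [_root_.Cfsg.Agent.H123.Cls.SuzDat.gn.eq_7]
  try have : _root_.True := by simp only [_root_.Cfsg.Agent.MK.S4.Z.tr3.eq_1]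
  try have : _root_.True := by simp only [_root_.Cfsg.Agent.MK.S4.Z.un.eq_1]
  try have : _root_.True := by simp only [_root_.Cfsg.Agent.H123.Cls.SuzDat.gn.eq_4]
  try have : _root_.True := by simp only [_root_.Cfsg.Agent.MK.S4.Z.scB.eq_1]
  try have : _root_.True := by simp only [_root_.Cfsg.Agent.H123.Cls.SuzDat.gn.eq_6]
  try have : _root_.True := by simp only [_root_.Cfsg.Agent.MK.S4.Z.iw.eq_1]
  try have : _root_.True := by simp only [_root_.Cfsg.Agent.H123.Cls.SuzDat.gn.eq_2]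
  try have : _root_.True := by simp only [_root_.Cfsg.Agent.MK.S4.Z.trT.eq_1]
  try have : _root_.True := by simp only [_root_.Cfsg.Agent.MK.S4.Z.wd.eq_1]
  try have : _root_.True := by simp only [_root_.Cfsg.Agent.MK.S4.Z.Rp.lw.eq_1]
  try have : _root_.True := by simp only [_root_.Cfsg.Agent.MK.S4.Z.Rp.ev.eq_1]
  try have : _root_.True := by simp only [_root_.Cfsg.Agent.MK.S4.Z.pw.eq_1]
  try have : _root_.True := by simp only [_root_.Cfsg.Agent.H123.Cls.SuzDat.gn.eq_1]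
  try have : _root_.True := by simp only [_root_.Cfsg.Agent.H123.Cls.SuzDat.gn.eq_5]
  try have : _root_.True := by simp only [_root_.Cfsg.Agent.H123.Cls.SuzDat.gn.eq_3]
  exact _root_.True.intro
end

-- part: MK/U43/H23
section
set_option linter.all false
open scoped Cfsg.Agent.FastGrp

/-!
# MK, the triple covers of `U₄(3)`: the characters which are fixed by an automorphism of type `2₃` (helper11)
-/

set_option autoImplicit false
set_option maxRecDepth 100000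
set_option maxHeartbeats 400000

namespace Cfsg.Agent.MK.U43

open Cfsg Subgroup Cfsg.Agent.MK.T Cfsg.Agent.TwoF.XL.U43 Cfsg.Agent.SporadicStructure PermChain U43Perm

/-- the stabiliser of the points `10` and `88` -/
def st48 : List (List ℕ) :=
  [[], [5, 1, 5, 9, 6, 0, 2], [0, 11, 8, 5, 1, 9], [8, 0, 10, 11, 3, 1], [2, 4, 5, 10, 9, 8, 4], [12, 3, 12, 3, 12, 0],
  [10, 11, 9, 6, 3, 2, 0], [11, 5, 9, 8, 1, 4], [2, 4, 1, 3, 9, 5, 1], [3, 2, 4, 10, 4, 2, 0], [1, 10, 12, 5, 9],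
  [9, 5, 5, 12, 10, 0], [0, 12, 11, 9, 0, 4], [5, 4, 0, 10, 2, 5], [1, 3, 2, 10, 12, 6, 4], [2, 0, 3, 9, 1, 6, 0],
  [7, 3, 5, 5, 7, 4, 0], [9, 0, 0, 11, 8, 5], [9, 3, 0, 2, 12, 1, 1], [7, 6, 1, 8, 0, 8], [5, 1, 10, 5, 0, 6],
  [1, 9, 4, 11, 0, 5], [11, 10, 3, 5, 3, 7, 1], [12, 5, 2, 10, 1], [12, 1, 12, 5, 1, 2], [2, 5, 12, 0, 7, 2],
  [4, 12, 5, 3, 7, 10, 0], [4, 0, 2, 11, 0, 6, 0], [10, 12, 11, 4, 9, 0, 2], [12, 4, 5, 12, 1, 12], [6, 1, 5, 1, 9, 5],
  [4, 0, 8, 2, 8, 0], [3, 8, 9, 0, 8, 0, 0], [12, 4, 11, 12, 8, 5], [7, 4, 1, 1, 12, 11], [3, 4, 5, 9, 11, 6, 0],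
  [10, 2, 11, 12, 3, 12, 1], [10, 0, 6, 1, 11, 5, 0], [5, 12, 5, 3, 11, 5, 0], [2, 5, 0, 5, 11, 0, 0],
  [7, 10, 1, 5, 12, 10], [0, 10, 11, 5, 2, 5, 0], [8, 5, 3, 1, 7, 6, 0], [0, 12, 2, 4, 2, 3, 0], [4, 2, 12, 4, 5, 1],
  [1, 5, 0, 7, 4, 12], [7, 3, 3, 2, 8], [0, 10, 2, 5, 5, 12]]

theorem chkS1 : allBelow (fun i => Nat.beq (ev 13 (st48.getD i []) 10) 10 && Nat.beq (ev 13 (st48.getD i []) 88) 88)
    48 = true := by decide +kernel

theorem chkS2 : dst (fun i => ev 13 (st48.getD i []) 0) 48 0 = true := by decide +kernel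

/-- **the stabiliser of two points** -/
theorem stab48 {s : M} (h1 : (s : Pm) b1 = b1) (h2 : (s : Pm) b2 = b2) : ∃ i < 48, s = Wm (st48.getD i []) := by
  set S1 : Subgroup Pm := M ⊓ MulAction.stabilizer Pm b1 with hS1
  set S2 : Subgroup Pm := S1 ⊓ MulAction.stabilizer Pm b2 with hS2
  have k1 : K1 ≤ S1 := fun k hk => ⟨K1_le hk, K1_fix k hk⟩
  have c0 : 280 * Nat.card S1 ≤ Nat.card M :=
    card_step_mask (w := 9) M b1 S1 inf_le_left (fun g hg => hg.2) [tabA, tabB] (by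
      intro u hu
      simp only [List.mem_cons, List.not_mem_nil, or_false] at hu
      rcases hu with rfl | rfl
      · exact ⟨gen 0, gen_mem 0 (Or.inl rfl), gen_spec 0 (Or.inl rfl)⟩
      · exact ⟨gen 1, gen_mem 1 (Or.inr rfl), gen_spec 1 (Or.inr rfl)⟩) 8 mask0 280 orb0 card0
  have c1 : 243 * Nat.card S2 ≤ Nat.card S1 :=
    card_step_mask (w := 9) S1 b2 S2 inf_le_left (fun g hg => hg.2) [tabT, tabR1, tabR2] (by
      intro u hu
      simp only [List.mem_cons, List.not_mem_nil, or_false] at hu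
      rcases hu with rfl | rfl | rfl
      · exact ⟨t, k1 (Subgroup.subset_closure (by simp)), t_spec⟩
      · exact ⟨r1, k1 (Subgroup.subset_closure (by simp)), r1_spec⟩
      · exact ⟨r2, k1 (Subgroup.subset_closure (by simp)), r2_spec⟩) 5 mask1 243 orb1 card1
  have c3 := card_M
  have k2 : ∀ i : Fin 48, (Wm (st48.getD i []) : Pm) ∈ S2 := fun i => by
    have k := allBelow_spec _ _ chkS1 i i.2
    rw [Bool.and_eq_true, Nat.beq_eq, Nat.beq_eq] at k
    exact ⟨⟨(Wm _).2, Fin.ext ((Wm_spec _ b1).trans k.1)⟩, Fin.ext ((Wm_spec _ b2).trans k.2)⟩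
  have k3 : Function.Injective fun i : Fin 48 => (⟨_, k2 i⟩ : S2) := fun i j e =>
    Fin.ext ((dst_spec _ _ _ chkS2).2 i i.2 j j.2 ((Wm_spec _ b3).symm.trans
      ((congrArg (fun g : S2 => ((g : Pm) b3 : ℕ)) e).trans (Wm_spec _ b3))))
  have k4 := Nat.card_le_card_of_injective _ k3
  obtain ⟨i, e⟩ := ((Nat.bijective_iff_injective_and_card _).2 ⟨k3, le_antisymm k4 (by
    rw [Nat.card_fin]; omega)⟩).2 ⟨s, ⟨s.2, h1⟩, h2⟩
  exact ⟨i, i.2, Subtype.ext (congrArg Subtype.val e).symm⟩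

/-- an outer element of order `8` -/
def gw : List ℕ := [3, 11, 4, 12, 10] ++ [15]

/-- its square -/
def tw : List ℕ := [10, 12, 11, 0, 7, 3]

/-- a transversal -/
def ys : List (List ℕ) := [[], [9, 0, 6, 5], [10, 12, 5, 10, 11], [4, 12, 8, 1, 6]]

theorem chkG : (eqF (gw ++ gw) tw && eqF (gw ++ tw) (tw ++ gw) && eqB (tw ++ tw ++ tw ++ tw) [] && !eqB (tw ++ tw) [] &&
    eqF ([12, 0, 2, 10, 2, 1] ++ gw) (tw ++ (gw ++ [12, 0, 2, 10, 2, 1])) &&
    eqF ([10, 12, 5, 10, 11] ++ gw) (tw ++ tw ++ (gw ++ [10, 12, 5, 10, 11])) &&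
    Nat.beq (ev 13 tw 10) 88 && Nat.beq (ev 13 tw 88) 10) = true := by decide +kernel

theorem chkY : allBelow (fun x => !Nat.beq (ev 13 tw (ev 13 tw x)) x || (Nat.beq (ev 13 tw x) x ||
    ys.any fun y => Nat.beq (ev 13 y 10) x && Nat.beq (ev 13 y 88) (ev 13 tw x))) 280 = true := by decide +kernel

theorem chkC : ys.all (fun y => allBelow (fun i => !Nat.beq (ev 13 (y ++ st48.getD i []) (ev 16 gw 0))
    (ev 16 gw (ev 13 (y ++ st48.getD i []) 0)) || (eqB (y ++ st48.getD i []) [] || (eqB (y ++ st48.getD i []) tw ||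
    (eqB (y ++ st48.getD i []) (tw ++ tw) || eqB (y ++ st48.getD i []) (tw ++ tw ++ tw))))) 48) = true := by
  decide +kernel

theorem rp_rel {q : MulAut M} {g a b : List ℕ} (h : Rp q (W g)) (ha : inn a = true) (hb : inn b = true)
    (e : eqF (a ++ g) (b ++ (g ++ a)) = true) : Wm a = Wm b * q (Wm a) := by
  have k := W_eq e
  rw [W_append, W_append, W_append] at k
  refine Subtype.ext ?_
  rw [Subgroup.coe_mul, h, coe_inn ha, coe_inn hb, ← mul_assoc, ← k, mul_inv_cancel_right]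

/-- **the centraliser** -/
theorem cent_gw {q : MulAut M} (h : Rp q (W gw)) (s : M) (hs : q s = s) : s ∈ zpowers (Wm tw) := by
  have k := chkG
  simp only [Bool.and_eq_true, Nat.beq_eq] at k
  obtain ⟨⟨⟨⟨⟨⟨⟨k1, -⟩, -⟩, -⟩, -⟩, -⟩, k2⟩, k3⟩ := k
  have e1 : W gw * s = s * W gw := by rw [← mul_inv_eq_iff_eq_mul, ← h, hs]
  have e2 : (Wm tw : Pm) * s = s * Wm tw := by
    rw [coe_inn rfl, ← W_eq k1, W_append, mul_assoc, e1, ← mul_assoc, e1, mul_assoc]
  have e3 : ∀ x, (Wm tw : Pm) ((s : Pm) x) = (s : Pm) ((Wm tw : Pm) x) := fun x => Equiv.congr_fun e2 x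
  have e4 : (Wm tw : Pm) b1 = b2 := Fin.ext ((Wm_spec _ b1).trans k2)
  have e5 : (Wm tw : Pm) b2 = b1 := Fin.ext ((Wm_spec _ b2).trans k3)
  have k4 := allBelow_spec _ _ chkY ((s : Pm) b1) ((s : Pm) b1).2
  rw [← Wm_spec, ← Wm_spec, e3, e4, e3, e5, Nat.beq_refl, Bool.not_true, Bool.false_or, Bool.or_eq_true,
    Nat.beq_eq] at k4
  obtain ⟨y, hy, k5⟩ := List.any_eq_true.1 (k4.resolve_left fun e =>
    absurd ((s : Pm).injective (Fin.ext e)) (by decide))
  rw [Bool.and_eq_true, Nat.beq_eq, Nat.beq_eq] at k5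
  obtain ⟨i, hi, e6⟩ := stab48 (s := (Wm y)⁻¹ * s)
    (Equiv.Perm.inv_eq_iff_eq.2 (Fin.ext ((Wm_spec y b1).trans k5.1).symm))
    (Equiv.Perm.inv_eq_iff_eq.2 (Fin.ext ((Wm_spec y b2).trans k5.2).symm))
  rw [inv_mul_eq_iff_eq_mul, ← Wm_append] at e6
  have k6 := allBelow_spec _ _ (List.all_eq_true.1 chkC y hy) i hi
  have e7 : ev 13 (y ++ st48.getD i []) (ev 16 gw 0) = ev 16 gw (ev 13 (y ++ st48.getD i []) 0) := by
    have a1 := W_spec gw b3
    have a2 := Wm_spec (y ++ st48.getD i []) b3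
    have a3 := W_spec gw ((s : Pm) b3)
    have a4 := Wm_spec (y ++ st48.getD i []) (W gw b3)
    rw [← e6] at a2 a4
    rw [a1] at a4
    rw [a2] at a3
    exact a4.symm.trans ((congrArg Fin.val (Equiv.congr_fun e1 b3)).symm.trans a3)
  rw [e7, Nat.beq_refl, Bool.not_true, Bool.false_or] at k6
  simp only [Bool.or_eq_true, eqB_iff] at k6
  rw [← e6, Wm_append (tw ++ tw), Wm_append] at k6
  rcases k6 with rfl | rfl | rfl | rfl
  · exact one_mem _
  · exact mem_zpowers _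
  · exact mul_mem (mem_zpowers _) (mem_zpowers _)
  · exact mul_mem (mul_mem (mem_zpowers _) (mem_zpowers _)) (mem_zpowers _)

/-- **type `2₃`** -/
theorem h23 : H2 15 4 := fun X _ _ φ h α q hq hα hz l m _ hm => by
  obtain ⟨s, hs⟩ := h.surj (Wm [3, 11, 4, 12, 10])
  have hq' : Rp _ (W gw) := rp_conj (s := [3, 11, 4, 12, 10]) (W_single 15 ▸ hq) rfl
  have k := chkG
  simp only [Bool.and_eq_true, Bool.not_eq_true'] at k
  obtain ⟨⟨⟨⟨⟨⟨⟨k1, k2⟩, k3⟩, k4⟩, k5⟩, k6⟩, -⟩, -⟩ := k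
  rw [← fA_conj_mul s]
  refine h.fA_four (q := MulAut.conj (Wm [3, 11, 4, 12, 10]) * q) (t := Wm tw) (fun x => ?_) (fun z hc => ?_)
    (fun s => Subtype.ext ?_) ?_ ?_ (rp_app hq' rfl rfl k2) (cent_gw hq') (rp_rel hq' rfl rfl k5)
    ((rp_rel hq' rfl rfl k6).trans (by rw [Wm_append])) hm
  · rw [MulAut.mul_apply, MulAut.mul_apply, MulAut.conj_apply, MulAut.conj_apply, map_mul, map_mul, map_inv, hs, hα]
  · rw [MulAut.mul_apply, hz z hc, MulAut.conj_apply, mem_center_iff.1 hc, mul_inv_cancel_right]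
  · rw [hq', hq', Subgroup.coe_mul, Subgroup.coe_mul, Subgroup.coe_inv, coe_inn rfl, ← W_eq k1, W_append]
    group
  · have e := Wm_eq k3
    rw [Wm_append, Wm_append, Wm_append] at e
    rw [pow_succ, pow_succ, pow_two]
    exact e
  · have e := Wm_ne k4
    rw [Wm_append] at e
    rw [pow_two]
    exact e

end Cfsg.Agent.MK.U43
end

-- part: MK/U43/Col14
section
prune_inst 0x4300c000962020000180090910060004400019000230000d0000e000203916a0900a70184a00b0a080a2a4000050060021000c9420000000a00020000050000900850002300010ca60009809086010000000000000000000000000000041004004010000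
set_option linter.all false
open scoped Cfsg.Agent.FastGrp

/-!
# MK, the triple covers of `U₄(3)`: the column of an outer element of order eight of type `2₂` (helper11)
-/

set_option autoImplicit false
set_option maxRecDepth 100000
set_option maxHeartbeats 400000

namespace Cfsg.Agent.MK.U43

section abs

open Cfsg Subgroup Finset Cfsg.Agent.Characters.Core Cfsg.Agent.MK.T Cfsg.Agent.MK.A Cfsg.Agent.J3Type.CharTools
open scoped ComplexConjugate

variable {G : Type} [Group G]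

theorem dvd_aux {ι : Type} [DecidableEq ι] (s : Finset ι) (v : ι → ℤ) (h1 : ∑ i ∈ s, v i * v i = 16) (ε : ι → ι)
    (h2 : ∀ i ∈ s, ε i ∈ s) (h3 : ∀ i, v (ε i) = -v i) (h4 : ∀ i, ε (ε i) = i) :
    8 ∣ (s.filter fun i => Odd (v i)).card := by
  have k1 : ∀ x : ℤ, x * x = (if Odd x then 1 else 0) + 4 * (x * x / 4) := fun x => by
    obtain ⟨y, rfl | rfl⟩ := Int.even_or_odd' x
    · rw [if_neg (Int.not_odd_iff_even.2 (even_two_mul y)), show 2 * y * (2 * y) = 4 * (y * y) by ring]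
      omega
    · rw [if_pos (odd_two_mul_add_one y), show (2 * y + 1) * (2 * y + 1) = 4 * (y * y + y) + 1 by ring]
      omega
  have k2 : ∑ i ∈ s, ((v i * v i / 4 : ℤ) : ZMod 2) = 0 :=
    Finset.sum_involution (fun i _ => ε i) (fun i _ => by rw [h3, neg_mul_neg]; exact CharTwo.add_self_eq_zero _)
      (fun i _ h e => h (by
        have k := h3 i
        rw [e] at k
        rw [show v i = 0 by omega]
        rfl)) h2 fun i _ => h4 i
  rw [← Int.cast_sum, ZMod.intCast_zmod_eq_zero_iff_dvd] at k2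
  rw [Finset.sum_congr rfl fun i _ => k1 (v i), Finset.sum_add_distrib, Finset.sum_boole, ← Finset.mul_sum] at h1
  omega

/-- **the number of the characters of odd degree is a multiple of eight** -/
theorem eight_dvd [Finite G] {Z L : Subgroup G} (hZ : Z ≤ center G) (h3 : Nat.card Z = 3) (hL : L.index = 2) (hZL : Z ≤ L)
    (m : Z →* ℂˣ) {u : G} (hu : u ∉ L) (h8 : u ^ 8 = 1) (k3 : IsConj u (u ^ 3)) (k5 : IsConj u (u ^ 5))
    (hC : Nat.card (centralizer ({u} : Set G)) = 16 * Nat.card Z) :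
    8 ∣ Nat.card {χ : G → ℂ // OI G χ ∧ ∀ z : Z, χ z = m z * χ 1} := by
  classical
  have := finite_irr (G := G)
  have := Fintype.ofFinite (IrrCharacter G)
  have := Fintype.ofFinite Z
  have hv : ∀ χ : IrrCharacter G, ∃ v : ℤ, (χ : G → ℂ) u = v := fun χ =>
    int_of_conj (isIrr_isCharacter χ.2) u fun n hn => by
      have h2 : n % 2 = 1 := by
        obtain ⟨j, -, hj⟩ := (Nat.dvd_prime_pow Nat.prime_two (m := 3)).1 (orderOf_dvd_of_pow_eq_one h8)
        rcases j with _ | j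
        · exact absurd (orderOf_eq_one_iff.1 hj ▸ one_mem L) hu
        · rw [hj] at hn
          exact Nat.odd_iff.1 (Nat.coprime_two_right.1 (hn.coprime_dvd_right (dvd_pow_self 2 j.succ_ne_zero)))
      rw [pow_eq_pow_mod n h8]
      rcases (by omega : n % 8 = 1 ∨ n % 8 = 3 ∨ n % 8 = 5 ∨ n % 8 = 7) with h | h | h | h <;> rw [h]
      · rw [pow_one]
      · exact k3
      · exact k5
      · have k := k3.pow 5
        rw [← pow_mul, pow_eq_pow_mod (3 * 5) h8] at k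
        exact k5.trans k
  choose v hv using hv
  have key : ∀ z : Z, IsConj (z * u) u → z = 1 := fun z h => by
    obtain ⟨c, e⟩ := isConj_iff.1 h
    have k : z ^ 3 = 1 := h3 ▸ pow_card_eq_one'
    have k' : (c * (z * u) * c⁻¹) ^ 8 = 1 := e.symm ▸ h8
    rw [conj_pow, mul_inv_eq_one, mul_eq_left, Commute.mul_pow (mem_center_iff.1 (hZ z.2) u).symm, h8, mul_one] at k'
    rw [← one_mul z, ← show z ^ 8 = 1 from Subtype.ext k', ← pow_succ, show 8 + 1 = 3 * 3 from rfl, pow_mul, k, one_pow,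
      show z ^ 8 = 1 from Subtype.ext k']
  have hc : (Nat.card Z : ℂ) ≠ 0 := Nat.cast_ne_zero.2 Nat.card_pos.ne'
  have k1 := rel_orth hZ m u u
  rw [Finset.sum_eq_single (1 : Z) (fun z _ hz => by rw [if_neg fun h => hz (key z h), mul_zero])
    (fun h => absurd (mem_univ _) h), Subgroup.coe_one, one_mul, if_pos (IsConj.refl u), map_one, inv_one, Units.val_one,
    one_mul, hC, Nat.cast_mul, mul_comm _ (Nat.card Z : ℂ), ← Finset.sum_filter] at k1
  let μ : G →* ℂˣ := MonoidHom.mk' (fun g => if g ∈ L then 1 else -1) fun a b => by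
    rw [mul_mem_iff_of_index_two hL]
    by_cases ha : a ∈ L <;> by_cases hb : b ∈ L <;> simp [ha, hb]
  have m1 : ∀ g ∈ L, μ g = 1 := fun g hg => if_pos hg
  have m2 : μ u = -1 := if_neg hu
  have m3 : ∀ g, (μ g : ℂ) * μ g = 1 := fun g => by
    by_cases hg : g ∈ L
    · rw [m1 g hg, Units.val_one, one_mul]
    · rw [show μ g = -1 from if_neg hg, Units.val_neg, Units.val_one, neg_mul_neg, one_mul]
  have k4 := dvd_aux (univ.filter fun χ : IrrCharacter G => ∀ z : Z, (χ : G → ℂ) z = m z * (χ : G → ℂ) 1) v (by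
      have h5 := mul_left_cancel₀ hc k1
      rw [Finset.sum_congr rfl fun χ _ => by rw [hv χ, map_intCast]] at h5
      exact_mod_cast h5) (fun χ => ⟨_, ODD.Red.isIrr_lin_mul μ χ.2⟩)
    (fun χ hχ => Finset.mem_filter.2 ⟨mem_univ _, fun z => by
      show (μ z : ℂ) * _ = _ * ((μ 1 : ℂ) * _)
      rw [m1 _ (hZL z.2), map_one, Units.val_one, one_mul, one_mul]
      exact (Finset.mem_filter.1 hχ).2 z⟩) (fun χ => by
      apply Int.cast_injective (α := ℂ)
      rw [← hv, Int.cast_neg, ← hv]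
      show (μ u : ℂ) * _ = _
      rw [m2, Units.val_neg, Units.val_one, neg_one_mul]) fun χ => Subtype.ext (funext fun g => by
      show (μ g : ℂ) * ((μ g : ℂ) * _) = _
      rw [← mul_assoc, m3, one_mul])
  rw [Finset.filter_filter, ← Fintype.card_subtype, ← Nat.card_eq_fintype_card] at k4
  refine k4.trans (Eq.dvd (Eq.symm ?_))
  exact Nat.card_congr ⟨fun χ => ⟨⟨χ.1, χ.2.1.1⟩, χ.2.2,
      (par (isIrr_isCharacter χ.2.1.1) (j := 3) h8 (hv ⟨χ.1, χ.2.1.1⟩)).1 χ.2.1.2⟩,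
    fun χ => ⟨χ.1.1, ⟨χ.1.2, (par (isIrr_isCharacter χ.1.2) (j := 3) h8 (hv χ.1)).2 χ.2.2⟩, χ.2.1⟩,
    fun _ => rfl, fun _ => rfl⟩

variable {X S : Type} [Group X] [Group S] {φ : X →* S}

/-- **the number of the fixed characters is a multiple of four** -/
theorem Cv.four_dvd [Finite X] (h : Cv φ) {α : MulAut X} {q : MulAut S} (hα : ∀ x, φ (α x) = q (φ x))
    (hz : ∀ z ∈ center X, α z = z) {t u k k' : S} (h1 : ∀ s, q (q s) = t * s * t⁻¹) (h4 : t ^ 4 = 1) (ht : q t = t)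
    (u8 : u ^ 8 = 1) (u4 : u ^ 4 ≠ 1) (hu : q u = u) (hC : ∀ s, q s = s → s ∈ zpowers u) (hk : k = t * q k)
    (hk' : k' = t * t * q k') {l : X → ℂ}
    {m : center X →* ℂˣ} (hm : ∀ z : center X, l z = m z) : 4 ∣ fA l α := by
  have := two_prime
  obtain ⟨u, rfl, u1⟩ : ∃ x, φ x = u ∧ α x = x := by
    obtain ⟨x, rfl⟩ := h.surj u
    have k1 : (x ^ 9) ^ 8 = 1 := by
      rw [← pow_mul, show 9 * 8 = 8 * 3 * 3 from rfl, pow_mul, pow_mul, cen_cube h.card (z := x ^ 8) (h.ker.le (by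
        rw [MonoidHom.mem_ker, map_pow, u8])), one_pow]
    have k2 : φ (x ^ 9) = φ x := by rw [map_pow, pow_succ, u8, one_mul]
    obtain ⟨z, hz', e⟩ := h.cen (x := α (x ^ 9)) (y := x ^ 9) (by rw [hα, k2, hu])
    have k3 := congrArg α k1
    rw [map_pow, map_one, e, Commute.mul_pow (mem_center_iff.1 hz' _).symm, k1, mul_one] at k3
    refine ⟨x ^ 9, k2, ?_⟩
    rw [e, ← one_mul z, ← k3, ← pow_succ, show 8 + 1 = 3 * 3 from rfl, pow_mul z, cen_cube h.card hz', one_pow, one_mul]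
  obtain ⟨t, t4, rfl⟩ := lift_four φ h.surj h.ker h.card h4
  have t1 : α t = t := eq_of_four φ h.ker h.card (by rw [← map_pow, t4, map_one]) t4 (by rw [hα, ht])
  have t2 := eq_one_of_ind φ h.ker h.perf (α := (MulAut.conj t)⁻¹ * (α * α)) fun x => by
    rw [MulAut.mul_apply, MulAut.conj_inv_apply, map_mul, map_mul, MulAut.mul_apply, hα, hα, h1, map_inv]
    group
  obtain ⟨W, _, _, j, a, hj, hi, ha, hβ, ha2⟩ := exists_two (β := α) (t := t)
    (fun x => MulEquiv.congr_fun (inv_mul_eq_one.1 t2).symm x) t1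
  have := normal_of_index_eq_two hi
  have hca : ∀ x, j x * a = a * j x ↔ α x = x := fun x => by
    rw [← hj.eq_iff, hβ, mul_inv_eq_iff_eq_mul, eq_comm]
  have hZ' : (center X).map j ≤ center W := by
    rintro _ ⟨z, hz', rfl⟩
    refine mem_center_iff.2 fun w => ?_
    by_cases e : w ∈ j.range
    · obtain ⟨x, rfl⟩ := e
      rw [← map_mul, ← map_mul, mem_center_iff.1 hz']
    · obtain ⟨x, e'⟩ := (mul_mem_iff_of_index_two hi).2 (iff_of_false e fun e4 => ha (inv_mem_iff.1 e4))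
      rw [← inv_mul_cancel_right w a, ← e', mul_assoc, ← (hca z).2 (hz z hz'), ← mul_assoc, ← mul_assoc, ← map_mul,
        ← map_mul, mem_center_iff.1 hz']
  have h8 : a ^ 8 = 1 := by rw [show 8 = 2 * 4 from rfl, pow_mul, pow_two, ha2, ← map_pow, t4, map_one]
  have hc : ∀ (n : ℕ) (k : S), k = φ t ^ n * q k → IsConj a (a ^ (2 * n + 1)) := fun n k e => by
    obtain ⟨k, rfl⟩ := h.surj k
    have k0 : k * (t ^ n * α k)⁻¹ ∈ center X := by
      rw [← h.ker, MonoidHom.mem_ker, map_mul, map_inv, map_mul, map_pow, hα, ← e, mul_inv_cancel]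
    have k1 : j k * a * (j k)⁻¹ = j (k * (t ^ n * α k)⁻¹) * a ^ (2 * n + 1) := by
      rw [pow_succ, pow_mul, pow_two, ha2, ← mul_assoc, ← map_pow, ← map_mul, ← mem_center_iff.1 k0,
        show t ^ n * (k * (t ^ n * α k)⁻¹) = t ^ n * (k * (α k)⁻¹ * (t ^ n)⁻¹) by group,
        show k * (α k)⁻¹ = k * (t ^ n * α k)⁻¹ * t ^ n by group, ← mem_center_iff.1 k0,
        show t ^ n * (t ^ n * (k * (t ^ n * α k)⁻¹) * (t ^ n)⁻¹) = t ^ n * (t ^ n * (k * (t ^ n * α k)⁻¹)) * (t ^ n)⁻¹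
          by group, mem_center_iff.1 k0, ← mul_assoc (t ^ n), mul_assoc _ (t ^ n), mul_inv_cancel, mul_one,
        mem_center_iff.1 k0, show k * (t ^ n * α k)⁻¹ * t ^ n = k * (α k)⁻¹ by group, map_mul, map_inv, hβ]
      group
    have k2 := congrArg (· ^ 8) k1
    simp only [conj_pow, h8, mul_one, mul_inv_cancel] at k2
    rw [Commute.mul_pow (mem_center_iff.1 (hZ' (mem_map_of_mem j k0)) _).symm, ← pow_mul, mul_comm _ 8, pow_mul, h8,
      one_pow, mul_one, ← map_pow, eq_comm, map_eq_one_iff j hj] at k2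
    have k3 := cen_cube h.card k0
    refine isConj_iff.2 ⟨j k, ?_⟩
    rw [k1, ← pow_one (k * _), ← one_mul (_ ^ 1), ← k2, ← pow_add, show 8 + 1 = 3 * 3 from rfl, pow_mul, k3, one_pow,
      map_one, one_mul]
  let e := equivMapOfInjective (center X) j hj
  have h6 : Nat.card (centralizer ({a} : Set W)) = 16 * Nat.card ((center X).map j) := by
    let F := α.toMonoidHom.eqLocus (MonoidHom.id X)
    let ρ := φ.comp F.subtype
    have k5 : ρ.range = zpowers (φ u) := le_antisymm (by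
      rintro _ ⟨x, rfl⟩
      exact hC _ ((hα x).symm.trans (congrArg φ x.2))) (zpowers_le.2 ⟨⟨u, u1⟩, rfl⟩)
    have k6 : orderOf (φ u) = 2 ^ (2 + 1) := orderOf_eq_prime_pow u4 u8
    have k7 : Nat.card F = 8 * Nat.card (center X) := by
      rw [← ρ.ker.index_mul_card, index_ker, k5, Nat.card_zpowers, k6, ← h.ker]
      exact congrArg (8 * ·) (Nat.card_congr (subgroupOfEquivOfLe (H := φ.ker) (K := F) fun z hz' =>
        hz z (h.ker.le hz')).toEquiv)
    have k8 : (j.range.subgroupOf (centralizer ({a} : Set W))).index = 2 :=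
      index_eq_two_iff.2 ⟨⟨a, mem_centralizer_singleton_iff.2 rfl⟩, fun b => by
        rw [mem_subgroupOf, mem_subgroupOf, Subgroup.coe_mul, mul_mem_iff_of_index_two hi]
        unfold Xor
        (clear * - ha; tauto)⟩
    rw [← (j.range.subgroupOf (centralizer ({a} : Set W))).index_mul_card, k8, ← Nat.card_congr e.toEquiv,
      show 16 = 2 * 8 from rfl, mul_assoc, ← k7]
    refine congrArg (2 * ·) (Nat.card_eq_of_bijective (fun x : F =>
      (⟨⟨j x, mem_centralizer_singleton_iff.2 ((hca x).2 x.2)⟩, x, rfl⟩ : j.range.subgroupOf _)) ⟨fun x y e' => ?_, ?_⟩).symm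
    · exact Subtype.ext (hj (congrArg (fun w : j.range.subgroupOf (centralizer ({a} : Set W)) => (w.1.1 : W)) e'))
    · rintro ⟨⟨w, hw⟩, x, hx⟩
      have hx' : j x = w := hx
      exact ⟨⟨x, (hca x).1 (hx'.symm ▸ mem_centralizer_singleton_iff.1 hw)⟩, Subtype.ext (Subtype.ext hx')⟩
  have h7 := eight_dvd hZ' ((Nat.card_congr e.toEquiv).symm.trans h.card) hi (map_le_range j _)
    (m.comp e.symm.toMonoidHom) ha h8 (hc 1 k (by rwa [pow_one])) (hc 2 k' (by rwa [pow_two])) h6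
  have hp : ∀ χ : W → ℂ, (∀ z : (center X).map j, χ z = (m.comp e.symm.toMonoidHom) z * χ 1) ↔
      ∀ z : center X, χ (j z) = m z * χ 1 :=
    fun χ => ⟨fun h z => (h (e z)).trans (congrArg (fun y => ((m y : ℂˣ) : ℂ) * χ 1) (e.symm_apply_apply z)), fun h z => by
      obtain ⟨z, rfl⟩ := e.surjective z
      exact (h z).trans (congrArg (fun y => ((m y : ℂˣ) : ℂ) * χ 1) (e.symm_apply_apply z)).symm⟩
  rw [card_two_res hi ha (q := fun θ => ∀ z : center X, θ ⟨j z, z, rfl⟩ = m z * θ 1) fun χ θ h => by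
    rw [hp, ← h 1]
    exact forall_congr' fun z => by rw [← h]; rfl] at h7
  refine (Nat.dvd_of_mul_dvd_mul_left two_pos (show 2 * 4 ∣ _ from h7)).trans (Eq.dvd (Eq.symm ?_))
  refine Eq.trans (Nat.card_congr (Equiv.subtypeEquivRight fun θ => and_congr_right fun _ => and_congr_left fun _ =>
    (⟨fun e z => hm z ▸ e z z.2, fun e z hz => (hm ⟨z, hz⟩).symm ▸ e ⟨z, hz⟩⟩ :
      _ ↔ ∀ z : center X, θ z = m z * θ 1))) ?_
  refine card_congr (MonoidHom.ofInjective hj) fun θ _ => and_congr (forall_congr' fun z => ?_)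
    ⟨fun h y => ?_, fun h x => ?_⟩
  · show θ (MonoidHom.ofInjective hj z) = m z * θ (MonoidHom.ofInjective hj 1) ↔ _
    rw [map_one]
    rfl
  · obtain ⟨x, rfl⟩ := (MonoidHom.ofInjective hj).surjective y
    exact (congrArg θ (Subtype.ext (hβ x).symm)).trans (h x)
  · exact (congrArg θ (Subtype.ext (hβ x))).trans (h _)

end abs

open Cfsg Subgroup Cfsg.Agent.MK.T Cfsg.Agent.TwoF.XL.U43 Cfsg.Agent.SporadicStructure PermChain U43Perm

/-- an outer element of order `8` -/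
def gw2 : List ℕ := [5, 12, 3, 4, 3, 5] ++ [14]

/-- its square -/
def tw4 : List ℕ := [9, 3, 0, 2, 12, 1, 1]

/-- a generator of the centraliser -/
def uw : List ℕ := [11, 10, 2, 9, 1]

/-- powers of a word -/
def pwd (l : List ℕ) (n : ℕ) : List ℕ := (List.replicate n l).flatten

theorem Wm_pwd (l : List ℕ) (n : ℕ) : Wm (pwd l n) = Wm l ^ n := by
  induction n with
  | zero => rfl
  | succ n ih => rw [pow_succ', ← ih, ← Wm_append]; rfl

theorem chkG2 : (eqF (gw2 ++ gw2) tw4 && eqF (gw2 ++ tw4) (tw4 ++ gw2) && eqB (pwd tw4 4) [] && eqB (pwd uw 8) [] &&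
    !eqB (pwd uw 4) [] && eqF (gw2 ++ uw) (uw ++ gw2) &&
    eqF ([8, 0, 10, 11, 3, 1] ++ gw2) (tw4 ++ (gw2 ++ [8, 0, 10, 11, 3, 1])) &&
    eqF ([7, 4, 1, 1, 12, 11] ++ gw2) (tw4 ++ tw4 ++ (gw2 ++ [7, 4, 1, 1, 12, 11])) &&
    Nat.beq (ev 16 gw2 10) 10 && Nat.beq (ev 16 gw2 88) 88 &&
    Nat.beq (ev 13 [10, 12, 5, 10, 11] 10) 88 && Nat.beq (ev 13 [10, 12, 5, 10, 11] 88) 10) = true := by decide +kernel

theorem chkY2 : allBelow (fun x => !Nat.beq (ev 16 gw2 x) x || (Nat.beq x 10 || Nat.beq x 88)) 280 = true := by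
  decide +kernel

theorem chkC2 : [[], [10, 12, 5, 10, 11]].all (fun y => allBelow (fun i => !Nat.beq (ev 13 (y ++ st48.getD i []) (ev 16 gw2 0))
    (ev 16 gw2 (ev 13 (y ++ st48.getD i []) 0)) || (List.range 8).any fun n => eqB (y ++ st48.getD i []) (pwd uw n)) 48) =
    true := by decide +kernel

/-- **the centraliser** -/
theorem cent_gw2 {q : MulAut M} (h : Rp q (W gw2)) (s : M) (hs : q s = s) : s ∈ zpowers (Wm uw) := by
  have k := chkG2
  simp only [Bool.and_eq_true, Nat.beq_eq] at k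
  obtain ⟨⟨⟨⟨-, k1⟩, k2⟩, k3⟩, k4⟩ := k
  have e1 : W gw2 * s = s * W gw2 := by rw [← mul_inv_eq_iff_eq_mul, ← h, hs]
  have e2 : ∀ b, W gw2 b = b → (s : Pm) b = b1 ∨ (s : Pm) b = b2 := fun b hb => by
    have k5 := allBelow_spec _ _ chkY2 ((s : Pm) b) ((s : Pm) b).2
    rw [← W_spec, show W gw2 ((s : Pm) b) = (s : Pm) (W gw2 b) from Equiv.congr_fun e1 b, hb, Nat.beq_refl, Bool.not_true,
      Bool.false_or, Bool.or_eq_true, Nat.beq_eq, Nat.beq_eq] at k5
    exact k5.imp Fin.ext Fin.ext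
  have e3 := e2 b1 (Fin.ext ((W_spec _ b1).trans k1))
  have e4 := e2 b2 (Fin.ext ((W_spec _ b2).trans k2))
  have e5 : (s : Pm) b1 ≠ (s : Pm) b2 := fun e => absurd ((s : Pm).injective e) (by decide)
  obtain ⟨y, hy, k5, k6⟩ : ∃ y ∈ [[], [10, 12, 5, 10, 11]], (s : Pm) b1 = (Wm y : Pm) b1 ∧ (s : Pm) b2 = (Wm y : Pm) b2 := by
    rcases e3 with e3 | e3
    · exact ⟨[], List.mem_cons_self, e3, e4.resolve_left fun e => e5 (e3.trans e.symm)⟩
    · exact ⟨_, List.mem_cons_of_mem _ List.mem_cons_self, e3.trans (Fin.ext ((Wm_spec _ b1).trans k3)).symm,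
        (e4.resolve_right fun e => e5 (e3.trans e.symm)).trans (Fin.ext ((Wm_spec _ b2).trans k4)).symm⟩
  obtain ⟨i, hi, e6⟩ := stab48 (s := (Wm y)⁻¹ * s) (Equiv.Perm.inv_eq_iff_eq.2 k5) (Equiv.Perm.inv_eq_iff_eq.2 k6)
  rw [inv_mul_eq_iff_eq_mul, ← Wm_append] at e6
  have k6 := allBelow_spec _ _ (List.all_eq_true.1 chkC2 y hy) i hi
  have e7 : ev 13 (y ++ st48.getD i []) (ev 16 gw2 0) = ev 16 gw2 (ev 13 (y ++ st48.getD i []) 0) := by
    have a1 := W_spec gw2 b3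
    have a2 := Wm_spec (y ++ st48.getD i []) b3
    have a3 := W_spec gw2 ((s : Pm) b3)
    have a4 := Wm_spec (y ++ st48.getD i []) (W gw2 b3)
    rw [← e6] at a2 a4
    rw [a1] at a4
    rw [a2] at a3
    exact a4.symm.trans ((congrArg Fin.val (Equiv.congr_fun e1 b3)).symm.trans a3)
  rw [e7, Nat.beq_refl, Bool.not_true, Bool.false_or] at k6
  obtain ⟨n, -, k7⟩ := List.any_eq_true.1 k6
  rw [e6, Wm_eq k7, Wm_pwd]
  exact pow_mem (mem_zpowers _) n

/-- **type `2₂`**: the number of the fixed characters is `0`, `4` or `8` -/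
theorem col14 {X : Type} [Group X] [Finite X] {φ : X →* M} (h : Cv φ) {α : MulAut X} {q : MulAut M} (hq : Rp q (L 14))
    (hα : ∀ x, φ (α x) = q (φ x)) (hz : ∀ z ∈ center X, α z = z) {l : X → ℂ} {m : center X →* ℂˣ}
    (hm : ∀ z : center X, l z = m z) : 4 ∣ fA l α := by
  obtain ⟨s, hs⟩ := h.surj (Wm [5, 12, 3, 4, 3, 5])
  have hq' : Rp _ (W gw2) := rp_conj (s := [5, 12, 3, 4, 3, 5]) (W_single 14 ▸ hq) rfl
  have k := chkG2
  simp only [Bool.and_eq_true, Bool.not_eq_true'] at k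
  obtain ⟨⟨⟨⟨⟨⟨⟨⟨⟨⟨⟨k1, k2⟩, k3⟩, k4⟩, k5⟩, k6⟩, k7⟩, k8⟩, -⟩, -⟩, -⟩, -⟩ := k
  rw [← fA_conj_mul s]
  refine h.four_dvd (q := MulAut.conj (Wm [5, 12, 3, 4, 3, 5]) * q) (t := Wm tw4) (u := Wm uw) (fun x => ?_)
    (fun z hc => ?_) (fun s => Subtype.ext ?_) ((Wm_pwd _ _).symm.trans (Wm_eq k3)) (rp_app hq' rfl rfl k2)
    ((Wm_pwd _ _).symm.trans (Wm_eq k4)) (fun e => Wm_ne k5 ((Wm_pwd _ _).trans e)) (rp_app hq' rfl rfl k6)
    (cent_gw2 hq') (rp_rel hq' rfl rfl k7) ((rp_rel hq' rfl rfl k8).trans (by rw [Wm_append])) hm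
  · rw [MulAut.mul_apply, MulAut.mul_apply, MulAut.conj_apply, MulAut.conj_apply, map_mul, map_mul, map_inv, hs, hα]
  · rw [MulAut.mul_apply, hz z hc, MulAut.conj_apply, mem_center_iff.1 hc, mul_inv_cancel_right]
  · rw [hq', hq', Subgroup.coe_mul, Subgroup.coe_mul, Subgroup.coe_inv, coe_inn rfl, ← W_eq k1, W_append]
    group

end Cfsg.Agent.MK.U43
end

-- part: MK/U43/Asm
section
prune_inst 0x4010000
set_option linter.all false
open scoped Cfsg.Agent.FastGrp

/-!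
# MK, the triple covers of `U₄(3)`: the assembly (helper11)
-/

set_option autoImplicit false
set_option maxRecDepth 100000
set_option maxHeartbeats 400000

namespace Cfsg.Agent.MK.U43

open Cfsg Subgroup Cfsg.Agent.MK.T Cfsg.Agent.MK.A Cfsg.Agent.TwoF.XL.U43 Cfsg.Agent.SporadicStructure.PermChain
  Cfsg.Agent.HN.PC

section abs

variable {X S : Type} [Group X] [Group S] [Finite X] {φ : X →* S} (h : Cv φ)
include h

/-- **the preimage of a `2`-group** -/
theorem Cv.fB_loc {T : Subgroup S} (hT : IsPGroup 2 T) {γ : MulAut X} {q : MulAut S} (hγ : ∀ x, φ (γ x) = q (φ x))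
    (hz : ∀ z ∈ center X, γ z = z) {l : X → ℂ} {m : center X →* ℂˣ} (hm : ∀ z : center X, l z = m z) :
    fB (T.comap φ) l γ = fN T q := by
  have := two_prime
  have : Finite S := Finite.of_surjective φ h.surj
  let ρ := φ.subgroupComap T
  have hρ : Function.Surjective ρ := φ.subgroupComap_surjective_of_surjective T h.surj
  have hk : ∀ n : T.comap φ, ρ n = 1 ↔ (n : X) ∈ center X := fun n => by
    rw [← h.ker, MonoidHom.mem_ker, Subtype.ext_iff]
    rfl
  obtain ⟨k, hc⟩ := hT.exists_card_eq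
  let Z := (center X).subgroupOf (T.comap φ)
  have hi : Z.index = 2 ^ k := by
    rw [show Z = ρ.ker from Subgroup.ext fun n => (hk n).symm, index_ker, MonoidHom.range_eq_top.2 hρ, card_top, hc]
  have key : ∀ (n : T.comap φ) (j : ℕ) (g : T.comap φ), g⁻¹ * n ^ j * g ∈ Z → g⁻¹ * n ^ j * g = n ^ j := fun n j g hg =>
    calc _ = g * (g⁻¹ * n ^ j * g) * g⁻¹ := by rw [mem_center_iff.1 (sub_cen _ hg) g, mul_inv_cancel_right]
      _ = _ := by group
  obtain ⟨ν, h1⟩ : ∃ ν : T.comap φ →* ℂˣ, ∀ n : T.comap φ, ∃ e : (n : X) ^ Z.index ∈ center X, ν n = m ⟨_, e⟩ :=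
    ⟨MonoidHom.transfer (H := Z) (m.comp ((T.comap φ).subtype.subgroupComap _)), fun n =>
      ⟨MonoidHom.transfer_eq_pow_aux n (key n), MonoidHom.transfer_eq_pow _ n (key n)⟩⟩
  obtain ⟨μ, h2, h3⟩ : ∃ μ : T.comap φ →* ℂˣ, (∀ z : T.comap φ, (z : X) ∈ center X → l z = μ z) ∧
      ∀ y y' : T.comap φ, (y' : X) = γ y → μ y' = μ y := by
    refine ⟨ν ^ Z.index, fun z hz' => ?_, fun y y' e => ?_⟩
    · obtain ⟨e, h2⟩ := h1 z
      rw [MonoidHom.pow_apply, h2, ← map_pow, hm ⟨z, hz'⟩]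
      refine congrArg (fun u => ((m u : ℂˣ) : ℂ)) (Subtype.ext ?_)
      show (z : X) = ((z : X) ^ Z.index) ^ Z.index
      rw [← pow_mul, pow_eq_pow_mod _ (cen_cube h.card hz'), hi, ← mul_pow, Nat.pow_mod, show 2 * 2 % 3 = 1 from rfl,
        one_pow]
      exact (pow_one _).symm
    · obtain ⟨e1, h2⟩ := h1 y
      obtain ⟨e2, h3⟩ := h1 y'
      rw [MonoidHom.pow_apply, MonoidHom.pow_apply, h2, h3]
      exact congrArg (fun u => m u ^ Z.index) (Subtype.ext (show (y' : X) ^ _ = _ by rw [e, ← map_pow, hz _ e1]))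
  refine (Nat.card_eq_of_bijective (fun θ : {ψ : T → ℂ // OI T ψ ∧ ∀ y y' : T, (y' : S) = q y → ψ y' = ψ y} =>
    (⟨fun n => μ n * θ.1 (ρ n), oi_lin_mul μ (oi_comp ρ hρ θ.2.1), fun z hz' => ?_, fun y y' e => ?_⟩ :
      {ψ : T.comap φ → ℂ // OI _ ψ ∧ Ov _ (center X) l ψ ∧ ∀ y y' : T.comap φ, (y' : X) = γ y → ψ y' = ψ y}))
    ⟨fun a b e => ?_, ?_⟩).symm
  · beta_reduce
    rw [(hk z).2 hz', h2 z hz', map_one, map_one, Units.val_one, one_mul]
  · beta_reduce
    rw [h3 y y' e, θ.2.2 (ρ y) (ρ y') ((congrArg φ e).trans (hγ y))]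
  · refine Subtype.ext (funext fun t => ?_)
    obtain ⟨n, rfl⟩ := hρ t
    exact mul_left_cancel₀ (μ n).ne_zero (congrFun (congrArg Subtype.val e) n)
  · rintro ⟨ψ, hψ, ho, hf⟩
    have h4 := oi_lin_mul μ⁻¹ hψ
    obtain ⟨η, hη, he⟩ := ODD.Red.exists_quot ρ hρ h4.1 fun z hz' => by
      rw [ho z ((hk z).1 hz'), h2 z ((hk z).1 hz')]
      simp
    refine ⟨⟨η, ⟨hη, ?_⟩, fun y y' e => ?_⟩, Subtype.ext (funext fun n => ?_)⟩
    · rw [← deg_comp ρ η, show η ∘ ρ = _ from funext he]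
      exact h4.2
    · obtain ⟨y, rfl⟩ := hρ y
      have e1 : γ y ∈ T.comap φ := show φ (γ y) ∈ T from ((hγ y).trans e.symm).symm ▸ y'.2
      rw [show y' = ρ ⟨_, e1⟩ from Subtype.ext (e.trans (hγ y).symm), he, he, hf y ⟨_, e1⟩ rfl, MonoidHom.inv_apply,
        MonoidHom.inv_apply, h3 y ⟨_, e1⟩ rfl]
    · show (μ n : ℂ) * η (ρ n) = ψ n
      rw [he]
      simp

/-- **self-normalising Sylow subgroups** -/
theorem Cv.sm (hN : QTNorm.SelfN S) (T : Sylow 2 S) {q : MulAut S}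
    (hT : ∀ s, q s ∈ (T : Subgroup S) ↔ s ∈ (T : Subgroup S))
    (hA : ∀ α : MulAut X, (∀ z ∈ center X, α z = z) →
      ∃ s, (∀ x, φ (α x) = MulAut.conj s (φ x)) ∨ ∀ x, φ (α x) = MulAut.conj s (q (φ x)))
    (h1 : ∀ (l : X → ℂ) (m : center X →* ℂˣ), Fa (center X) l → (∀ z : center X, l z = m z) →
      kk ⊤ (center X) l = ab (T : Subgroup S))
    (h2 : ∀ γ : MulAut X, (∀ x, φ (γ x) = q (φ x)) → (∀ z ∈ center X, γ z = z) →
      ∀ (l : X → ℂ) (m : center X →* ℂˣ), Fa (center X) l → (∀ z : center X, l z = m z) →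
        fA l γ = fN (T : Subgroup S) q) : Sm X := by
  have := two_prime
  have : Finite S := Finite.of_surjective φ h.surj
  obtain ⟨Q, rfl⟩ := Sylow.mapSurjective_surjective h.surj 2 T
  have hn : normalizer ((Q : Subgroup X) : Set X) = (Q.mapSurjective h.surj : Subgroup S).comap φ := by
    rw [← le_antisymm (hN _) le_normalizer, Sylow.coe_mapSurjective, ← map_normalizer φ h.surj,
      comap_map_eq_self (h.ker.le.trans (center_le_normalizer _))]
  have k0 : ∀ l, Fa (center X) l → kk ⊤ (center X) l = kk (normalizer ((Q : Subgroup X) : Set X)) (center X) l :=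
    fun l hl => kk_eq_of_hom le_rfl le_top (center_le_normalizer _) fun m hm => by
      rw [h1 l m hl hm, hn, ← fB_one, h.fB_loc (Sylow.isPGroup' _) (q := 1) (fun _ => rfl) (fun _ _ => rfl) hm, fN_one,
        k0_two (Sylow.isPGroup' _)]
  have k1 : ∀ α : MulAut X, (∀ z ∈ center X, α z = z) → ∃ x, α = MulAut.conj x ∨ ∃ γ : MulAut X,
      ((∀ z ∈ center X, γ z = z) ∧ ∀ y, φ (γ y) = q (φ y)) ∧ α = MulAut.conj x * γ := fun α hα => by
    obtain ⟨s, hs⟩ := hA α hα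
    obtain ⟨x, rfl⟩ := h.surj s
    have k2 : ∀ y, φ (((MulAut.conj x)⁻¹ * α) y) = (MulAut.conj (φ x))⁻¹ (φ (α y)) := fun y => by
      rw [MulAut.mul_apply, MulAut.conj_inv_apply, MulAut.conj_inv_apply, map_mul, map_mul, map_inv]
    refine ⟨x, hs.imp (fun e => (inv_mul_eq_one.1 (eq_one_of_ind φ h.ker h.perf fun y => ?_)).symm) fun e =>
      ⟨(MulAut.conj x)⁻¹ * α, ⟨fun z hz => ?_, fun y => ?_⟩, (mul_inv_cancel_left _ _).symm⟩⟩
    · rw [k2, e, MulAut.inv_apply_self]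
    · rw [MulAut.mul_apply, hα z hz, MulAut.conj_inv_apply, mul_assoc, ← mem_center_iff.1 hz x, inv_mul_cancel_left]
    · rw [k2, e, MulAut.inv_apply_self]
  by_cases hγ : ∃ γ : MulAut X, (∀ z ∈ center X, γ z = z) ∧ ∀ y, φ (γ y) = q (φ y)
  swap
  · exact sm_of_inn (fun α hα => (k1 α hα).imp fun x e => e.resolve_right fun ⟨γ, e1, _⟩ => hγ ⟨γ, e1⟩) Q k0
  obtain ⟨γ, hz, hγ⟩ := hγ
  have k3 : ∀ x, γ x ∈ (Q : Subgroup X) ↔ x ∈ (Q : Subgroup X) := stab_of_le fun x hx =>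
    (((Q.isPGroup'.map γ.toMonoidHom).inf_normalizer_sylow Q).le ⟨mem_map_of_mem _ hx,
      hn.ge (show φ (γ x) ∈ _ from (hγ x).symm ▸ (hT _).2 (mem_map_of_mem φ hx))⟩).2
  have k4 : ∀ α : MulAut X, (∀ z ∈ center X, α z = z) → ∃ x, α = MulAut.conj x ∨ α = MulAut.conj x * γ := fun α hα =>
    (k1 α hα).imp fun x e => e.imp id fun ⟨δ, e1, e2⟩ => by
      rw [e2, mul_inv_eq_one.1 (eq_one_of_ind φ h.ker h.perf (α := δ * γ⁻¹) fun y => by
        rw [MulAut.mul_apply, e1.2, ← hγ, MulAut.apply_inv_self])]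
  refine sm_of_pair γ k4 Q k3 k0 fun l hl => ?_
  rw [fA_top]
  exact fB_eq_of_hom le_top (center_le_normalizer _) fun m hm => by
    rw [← fA_top, h2 γ hγ hz l m hl hm, hn, h.fB_loc (Sylow.isPGroup' _) hγ hz hm]

end abs

theorem exists_rp {g : Pm} (hg : g ∈ Pc sP 10) : ∃ q : MulAut M, Rp q g :=
  ⟨M.normalizerMonoidHom ⟨g, P_le hg⟩, fun _ => rfl⟩

/-- **the outer automorphisms** -/
theorem out_top (q : MulAut M) : ∃ (s : M) (t : ℕ), t < 8 ∧ Rp q (s * W (top t)) := by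
  let f : Pc sP 10 →* MulAut M := M.normalizerMonoidHom.comp (Subgroup.inclusion P_le)
  have hf : ∀ g, Rp (f g) g := fun g s => rfl
  have hi : Function.Injective f := fun a b e => Subtype.ext ((hf a).unique (e ▸ hf b))
  have hz : center M = ⊥ := eq_bot_iff.2 fun z hz => Subtype.ext (cent_M fun s hs =>
    congrArg Subtype.val (mem_center_iff.1 hz ⟨s, hs⟩).symm)
  have : (MulAut.conj : M →* MulAut M).range.Normal := ⟨by
    rintro _ ⟨x, rfl⟩ g
    exact ⟨g x, conj_map g x⟩⟩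
  have k1 := f.range.index_mul_card
  rw [← Nat.card_congr (MonoidHom.ofInjective hi).toEquiv, card_P, TwoF.XL.U43.card_aut] at k1
  have k2 := (MulAut.conj : M →* MulAut M).range.index_mul_card
  rw [← Nat.card_congr (MonoidHom.ofInjective (conj_inj hz)).toEquiv, card_M, TwoF.XL.U43.card_aut] at k2
  have k3 := index_dvd_of_le (le_sup_left : (MulAut.conj : M →* MulAut M).range ≤ _ ⊔ f.range)
  have k4 := index_dvd_of_le (le_sup_right : f.range ≤ (MulAut.conj : M →* MulAut M).range ⊔ _)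
  rw [show (MulAut.conj : M →* MulAut M).range.index = 8 from
    Nat.eq_of_mul_eq_mul_right (by norm_num) (k2.trans (by norm_num))] at k3
  rw [show f.range.index = 25515 by omega] at k4
  have k5 := index_eq_one.1 (Nat.eq_one_of_dvd_coprimes (by decide +kernel : Nat.Coprime 8 25515) k3 k4)
  obtain ⟨_, ⟨s, rfl⟩, _, ⟨g, rfl⟩, rfl⟩ := mem_sup_of_normal_left.1 (k5 ▸ mem_top q)
  obtain ⟨e, he, h⟩ := exists_wd le_rfl g.2
  refine ⟨s * Wm (wd 7 e), e / 128, by omega, ?_⟩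
  rw [Subgroup.coe_mul, mul_assoc, ← el_eq, el, ← h]
  exact (Rp.conj s).mul (hf g)

section mod

variable {X : Type} [Group X]

/-- the word `l` lifts to an automorphism which fixes the centre -/
def Fp (φ : X →* M) (l : List ℕ) : Prop :=
  ∃ (α : MulAut X) (q : MulAut M), Rp q (W l) ∧ (∀ x, φ (α x) = q (φ x)) ∧ ∀ z ∈ center X, α z = z

theorem Fp.mul {φ : X →* M} {a b c : List ℕ} (ha : Fp φ a) (hb : Fp φ b) (e : eqF (a ++ b) c = true) : Fp φ c := by
  obtain ⟨α, q, h1, h2, h3⟩ := ha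
  obtain ⟨β, r, h4, h5, h6⟩ := hb
  refine ⟨α * β, q * r, ?_, fun x => ?_, fun z hz => ?_⟩
  · rw [← W_eq e, W_append]
    exact h1.mul h4
  · rw [MulAut.mul_apply, MulAut.mul_apply, h2, h5]
  · rw [MulAut.mul_apply, h6 z hz, h3 z hz]

theorem Fp.conj {φ : X →* M} {a c d : List ℕ} {δ : MulAut M} (hδ : Rp δ (W d)) (ha : Fp φ a)
    (e : eqF (d ++ a) (c ++ d) = true) : Fp (δ.toMonoidHom.comp φ) c := by
  obtain ⟨α, q, h1, h2, h3⟩ := ha
  refine ⟨α, δ * q * δ⁻¹, fun s => ?_, fun x => ?_, h3⟩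
  · obtain ⟨s, rfl⟩ := δ.surjective s
    have k := W_eq e
    rw [W_append, W_append] at k
    rw [MulAut.mul_apply, MulAut.inv_apply_self, (hδ.mul h1) s, k, hδ]
    group
  · show δ (φ (α x)) = (δ * q * δ⁻¹) (δ (φ x))
    rw [MulAut.mul_apply, MulAut.inv_apply_self, MulAut.mul_apply, h2]

theorem Cv.aut {φ : X →* M} (h : Cv φ) (δ : MulAut M) : Cv (δ.toMonoidHom.comp φ) :=
  ⟨δ.surjective.comp h.surj, by
    rw [← h.ker]
    ext x
    simp, h.card, h.perf⟩

theorem chkT : allBelow (fun a => Nat.ble a 1 || allBelow (fun t => Nat.beq t 0 || (Nat.beq t a ||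
    [1, 6, 7].any fun c => Nat.beq t c || (Nat.beq a c || eqF (top a ++ top t) (top c)))) 8) 8 = true := by decide +kernel

theorem chkU : (eqF (top 6 ++ top 6) [13] && eqF (top 7 ++ top 7) [13] && eqF ([15] ++ top 3) (top 2 ++ [15]) &&
    eqF ([14] ++ top 5) (top 4 ++ [14])) = true := by decide +kernel

variable [Finite X] {φ : X →* M} (h : Cv φ)
include h

theorem Cv.not_fp {c : ℕ} (hc : c ∈ [1, 6, 7]) : ¬ Fp φ (top c) := fun e => by
  have k := chkU
  simp only [Bool.and_eq_true] at k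
  have k1 : ¬ Fp φ [13] := fun ⟨α, q, h1, h2, h3⟩ => not_fix13 h (W_single 13 ▸ h1) h2 h3
  simp only [List.mem_cons, List.not_mem_nil, or_false] at hc
  rcases hc with rfl | rfl | rfl
  · exact k1 e
  · exact k1 (e.mul e k.1.1.1)
  · exact k1 (e.mul e k.1.1.2)

theorem Cv.uniq {a t : ℕ} (h1 : 1 < a) (h8 : a < 8) (ha : Fp φ (top a)) (ht : t < 8) (e : Fp φ (top t)) :
    t = 0 ∨ t = a := by
  have k := allBelow_spec _ _ chkT a h8
  rw [Bool.or_eq_true, Nat.ble_eq] at k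
  have k1 := allBelow_spec _ _ (k.resolve_left (by omega)) t ht
  simp only [Bool.or_eq_true, Nat.beq_eq, List.any_eq_true] at k1
  refine k1.imp id fun k1 => k1.resolve_right ?_
  rintro ⟨c, hc, rfl | rfl | k2⟩
  · exact h.not_fp hc e
  · exact h.not_fp hc ha
  · exact h.not_fp hc (ha.mul e k2)

omit [Finite X] in
theorem Cv.out {a : ℕ} (ha : ∀ t < 8, Fp φ (top t) → t = 0 ∨ t = a) {q : MulAut M} (hq : Rp q (W (top a)))
    (α : MulAut X) (hα : ∀ z ∈ center X, α z = z) :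
    ∃ s, (∀ x, φ (α x) = MulAut.conj s (φ x)) ∨ ∀ x, φ (α x) = MulAut.conj s (q (φ x)) := by
  obtain ⟨r, hr⟩ := exists_ind φ h.surj h.ker α
  obtain ⟨s, t, ht, h1⟩ := out_top r
  obtain ⟨x, rfl⟩ := h.surj s
  have h2 : Rp (MulAut.conj (φ x)⁻¹ * r) (W (top t)) := by
    have := (Rp.conj (φ x)⁻¹).mul h1
    rwa [Subgroup.coe_inv, inv_mul_cancel_left] at this
  have h3 : ∀ y, φ (α y) = MulAut.conj (φ x) ((MulAut.conj (φ x)⁻¹ * r) (φ y)) := fun y => by
    rw [← MulAut.mul_apply, map_inv, mul_inv_cancel_left, hr]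
  refine ⟨φ x, (ha t ht ⟨MulAut.conj x⁻¹ * α, _, h2, fun y => ?_, fun z hz => ?_⟩).imp ?_ ?_⟩
  · rw [MulAut.mul_apply, MulAut.mul_apply, MulAut.conj_apply, MulAut.conj_apply, map_mul, map_mul, map_inv, map_inv, hr,
      map_inv]
  · rw [MulAut.mul_apply, hα z hz, MulAut.conj_apply, mem_center_iff.1 hz, mul_inv_cancel_right]
  · rintro rfl y
    rw [h3, h2.ext Rp.one, MulAut.one_apply]
  · rintro rfl y
    rw [h3, h2.ext hq]

theorem Cv.sm2 (h1 : H1) (h2 : H2 14 8) (ha : ∀ t < 8, Fp φ (top t) → t = 0 ∨ t = 2) : Sm X := by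
  obtain ⟨hN, T, h8, hT⟩ := locM
  obtain ⟨q, hq⟩ : ∃ q, Rp q (L 14) := exists_rp ((mem_Pc (s := sP) (by norm_num : 8 < 10) :))
  obtain ⟨k1, k2⟩ := (hT q).1 hq
  exact h.sm hN T k1 (h.out ha ((W_single 14).symm ▸ hq)) (fun l m hl hm => h8 ▸ h1 X φ h l m hl hm)
    fun γ hγ hz l m hl hm => k2 ▸ h2 X φ h γ q hq hγ hz l m hl hm

theorem Cv.sm4 (h1 : H1) (ha : ∀ t < 8, Fp φ (top t) → t = 0 ∨ t = 4) : Sm X := by
  obtain ⟨hN, T, h8, hT⟩ := locM
  obtain ⟨q, hq⟩ : ∃ q, Rp q (L 15) := exists_rp ((mem_Pc (s := sP) (by norm_num : 9 < 10) :))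
  obtain ⟨k1, k2⟩ := (hT q).2 hq
  exact h.sm hN T k1 (h.out ha ((W_single 15).symm ▸ hq)) (fun l m hl hm => h8 ▸ h1 X φ h l m hl hm)
    fun γ hγ hz l m hl hm => k2 ▸ h23 X φ h γ q hq hγ hz l m hl hm

theorem Cv.sm_mod (h1 : H1) (h2 : H2 14 8) : Sm X := by
  have k := chkU
  simp only [Bool.and_eq_true] at k
  by_cases f3 : Fp φ (top 3)
  · obtain ⟨δ, hδ⟩ : ∃ q, Rp q (L 15) := exists_rp ((mem_Pc (s := sP) (by norm_num : 9 < 10) :))
    exact (h.aut δ).sm2 h1 h2 fun t => (h.aut δ).uniq (by norm_num) (by norm_num)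
      (f3.conj ((W_single 15).symm ▸ hδ) k.1.2)
  by_cases f4 : Fp φ (top 4)
  · exact h.sm4 h1 fun t => h.uniq (by norm_num) (by norm_num) f4
  by_cases f5 : Fp φ (top 5)
  · obtain ⟨δ, hδ⟩ : ∃ q, Rp q (L 14) := exists_rp ((mem_Pc (s := sP) (by norm_num : 8 < 10) :))
    exact (h.aut δ).sm4 h1 fun t => (h.aut δ).uniq (by norm_num) (by norm_num)
      (f5.conj ((W_single 14).symm ▸ hδ) k.2)
  refine h.sm2 h1 h2 fun t ht e => ?_
  interval_cases t
  · exact Or.inl rfl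
  · exact absurd e (h.not_fp (by decide))
  · exact Or.inr rfl
  · exact absurd e f3
  · exact absurd e f4
  · exact absurd e f5
  · exact absurd e (h.not_fp (by decide))
  · exact absurd e (h.not_fp (by decide))

end mod

/-- **the triple covers of `U₄(3)`** from the two counts -/
theorem smC_of (h1 : H1) (h2 : H2 14 8) (F : Type) [Field F] [Fintype F] (hF : Fintype.card F = 9) :
    S.SmC (PSU 4 F 3) := by
  obtain ⟨e⟩ := iso (F := F) hF
  exact S.SmC.congr e fun X _ _ φ k1 k2 k3 k4 _ => Cv.sm_mod ⟨k1, k2, k3, k4⟩ h1 h2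

end Cfsg.Agent.MK.U43
end

-- part: MK/Two/Sp4
section
prune_inst 0x24302c040862020000180090b30020405400010200600000d0600e000246914a2004a101dca00d12981aac5020080060020001e0423800002a000800000400001828120091088108a20008003087110000000000000000000000000000041004004010000
set_option linter.all false
open scoped Cfsg.Agent.FastGrp

/-!
# MK, characteristic two: the bijection (helper58)

* `Cx.Wt.ext` : the extension property for a standard pair; `Cx.Rx`, `Cx.exists_cf`; **`spBox`**.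
-/

set_option autoImplicit false
set_option maxHeartbeats 400000

namespace Cfsg.Agent.MK.Two

open Cfsg Subgroup Cfsg.Agent.Characters Cfsg.Agent.Characters.Core Cfsg.Agent.ODD.Red
open scoped ComplexConjugate

namespace Cx

variable {X K V : Type} [Group X] [Group K] [Group V] [Finite X] [Finite K] [Finite V] {ι : X →* K} {B : Subgroup K}
  {Φ : Subgroup (MulAut K)} {R : (K → ℂ) → (B → ℂ) → Prop} {Λ : Subgroup (MulAut X)} {κ : In Λ →* B}
  {j : V →* In Λ} {f : V → ℂ} {C : Cx ι B Φ R Λ κ j f} {χ χ' : K → ℂ} {ψ ψ' : B → ℂ} {θ θ' : X → ℂ}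
  {η η' : In Λ → ℂ}

theorem Wt.ext (hA : AbBox) (hE : ExtBox) (w : C.Wt χ ψ θ η) : ExtF Λ (St Λ θ) θ η := by
  obtain ⟨ξ, x1, x2, x3, x4⟩ := (hA ι C.aX.inj C.aX.nrm C.aX.ab χ θ w.oχ.1 w.iθ w.mθ (C.aX.Stb θ) fun _ => Iff.rfl).1
  obtain ⟨ζ, z1, z2, z3, z4⟩ := (hA κ C.aM.inj C.aM.nrm C.aM.ab ψ η w.oψ.1 w.iη w.mη (C.aM.Stb η) fun _ => Iff.rfl).1
  obtain ⟨ρ, hρ⟩ := C.exists_ρ
  obtain ⟨τ, hτ⟩ := C.exists_τ
  obtain ⟨σ, hσ⟩ := C.φV
  obtain ⟨n, _, c, l, hl⟩ := C.lin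
  have := C.aX.nrm
  let P : Subgroup Φ := (St Λ θ).comap (Λ.subtype.comp ρ)
  have hP : ∀ p : P, ∃ β : K →* ℂˣ, (∀ x, β (ι x) = 1) ∧
      ((∀ g ∈ C.aX.Stb θ, p.1.1 g ∈ C.aX.Stb θ) ∧ ∀ g g' : C.aX.Stb θ, (g' : K) = p.1.1 g → ξ g' = β g * ξ g) ∧
      (∀ g ∈ C.aM.Stb η, τ p g ∈ C.aM.Stb η) ∧ ∀ g g' : C.aM.Stb η, (g' : B) = τ p g → ζ g' = β (g : B) * ζ g := fun p => by
    have w' := w.aut (hρ p) (hτ p)
    rw [show (fun x => θ ((ρ p).1 x)) = θ from funext p.2.2] at w'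
    obtain ⟨β, h1, h2⟩ := C.aX.tw w.oχ.1 w'.oχ.1 w.iθ w.uθ w'.uθ
    exact ⟨β, h1, C.aX.hat x1 x2 x3 x4 (hρ p) p.2.2 h1 (congrFun h2), C.aM.hat z1 z2 z3 z4 (α := rs Λ (ρ p))
      (fun y => Subtype.ext (by rw [hτ, C.hκ, C.hκ, ← hρ]; rfl)) (congrFun (pr_un ⟨_, _, w'⟩ ⟨_, _, w⟩))
      (β := β.comp B.subtype) (fun y => (congrArg β (C.hκ y)).trans (h1 _))
      (congrFun (w.link w'.oχ w'.oψ w'.r h1 h2))⟩
  let E : Subgroup (C.aX.Stb θ × C.aM.Stb η) :=
    ((QuotientGroup.mk' ι.range).comp ((C.aX.Stb θ).subtype.comp (MonoidHom.fst _ _))).eqLocus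
      ((QuotientGroup.mk' ι.range).comp (B.subtype.comp ((C.aM.Stb η).subtype.comp (MonoidHom.snd _ _))))
  have hE0 : ∀ e, e ∈ E ↔ (e.1 : K)⁻¹ * (e.2 : B) ∈ ι.range := fun e => QuotientGroup.eq
  let i : E →* K × K := ((C.aX.Stb θ).subtype.prodMap (B.subtype.comp (C.aM.Stb η).subtype)).comp E.subtype
  have hi : Function.Injective i := fun a b e => Subtype.ext (Prod.ext (Subtype.ext (congrArg Prod.fst e))
    (Subtype.ext (Subtype.ext (congrArg Prod.snd e))))
  obtain ⟨a, ha⟩ := exists_act (prodA (Φ.subtype.comp P.subtype) (Φ.subtype.comp P.subtype)) hi fun p e => by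
    obtain ⟨β, -, h1, h2⟩ := hP p
    obtain ⟨x, hx⟩ := (hE0 _).1 e.2
    refine ⟨⟨(⟨_, h1.1 _ e.1.1.2⟩, ⟨_, h2.1 _ e.1.2.2⟩), (hE0 _).2 ?_⟩, Prod.ext rfl (hτ _ _)⟩
    have h3 := C.φX _ p.1.2 x
    rwa [hx, map_mul, map_inv, ← hτ p.1 e.1.2] at h3
  have a1 : ∀ p e, (i (a p e)).1 = p.1.1 (i e).1 := fun p e => congrArg Prod.fst (ha p e)
  have a2 : ∀ p e, (i (a p e)).2 = p.1.1 (i e).2 := fun p e => congrArg Prod.snd (ha p e)
  let j0 : X × In Λ →* E := ((ι.codRestrict _ (C.aX.le_Stb w.iθ)).prodMap (κ.codRestrict _ (C.aM.le_Stb w.iη))).codRestrict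
    E fun v => (hE0 _).2 (mul_mem (inv_mem ⟨v.1, rfl⟩) ⟨v.2, (C.hκ _).symm⟩)
  have j1 : ∀ x y, (i (j0 (x, y))).1 = ι x := fun _ _ => rfl
  have j2 : ∀ x y, (i (j0 (x, y))).2 = ι y := fun _ y => C.hκ y
  let Ψ : E → ℂ := fun e => ξ e.1.1 * conj (ζ e.1.2)
  have hΨ : ∀ x y, Ψ (j0 (x, y)) = θ x * conj (η y) := fun x y =>
    congrArg₂ (fun a b => a * conj b) (x2 x _ rfl) (z2 y _ rfl)
  obtain ⟨Ξ, y1, y2⟩ := hE a (prodA (σ.comp P.subtype) (σ.comp P.subtype))
    (j0.comp (((In Λ).subtype.comp j).prodMap j))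
    (fun u v e => Prod.ext (C.jinj (Subtype.ext (C.aX.inj (congrArg (fun e => (i e).1) e))))
      (C.jinj (Subtype.ext (C.aX.inj ((j2 _ _).symm.trans ((congrArg (fun e => (i e).2) e).trans (j2 _ _)))))))
    (fun p v => hi (Prod.ext ((hσ p v.1).1.trans (a1 p (j0 (j v.1, j v.2))).symm)
      ((j2 _ _).trans ((hσ p v.2).1.trans ((congrArg _ (j2 _ _).symm).trans (a2 p (j0 (j v.1, j v.2))).symm))))) Ψ
    (MK.E.isIrr_of_comp j0 (isCharacter_comp E.subtype (S0188.isCharacter_outer (isIrr_isCharacter x1)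
      (isCharacter_conj (isIrr_isCharacter z1))))
      (funext (fun v : X × In Λ => hΨ v.1 v.2) ▸ S0188.isIrr_outer w.iθ (isIrr_conj w.iη) :))
    (fun p e => by
      obtain ⟨β, h0, h1, h2⟩ := hP p
      obtain ⟨x, hx⟩ := (hE0 _).1 e.2
      have h3 : β (e.1.2 : B) = β e.1.1 := by rw [← mul_one (β e.1.1), ← h0 x, hx, ← map_mul, mul_inv_cancel_left]
      change ξ _ * conj (ζ _) = ξ _ * conj (ζ _)
      simp only [h1.2 e.1.1 (a p e).1.1 (a1 p e), h2.2 e.1.2 (a p e).1.2 (Subtype.ext ((a2 p e).trans (hτ _ _).symm)), h3, map_mul]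
      linear_combination ξ e.1.1 * conj (ζ e.1.2) * lin_conj β e.1.1)
    (fun k : n × n => c k.1 * c k.2) (fun k => (l k.1).comp (MonoidHom.fst _ _) * (l k.2)⁻¹.comp (MonoidHom.snd _ _))
    (fun v => f v.1 * conj (f v.2)) (fun v => by
      rw [hl, hl, map_sum, Finset.sum_mul_sum, Fintype.sum_prod_type]
      refine Finset.sum_congr rfl fun k _ => Finset.sum_congr rfl fun k' _ => ?_
      simp only [eq_inv_of_mul_eq_one_right (lin_conj (l k') v.2), mul_mul_mul_comm, _root_.map_mul, _root_.map_intCast, _root_.Int.cast_mul, _root_.MonoidHom.inv_comp, _root_.MonoidHom.mul_apply, _root_.MonoidHom.coe_comp, _root_.MonoidHom.coe_fst, _root_.Function.comp_apply, _root_.MonoidHom.inv_apply, _root_.MonoidHom.coe_snd, _root_.Units.val_mul, _root_.Units.val_inv_eq_inv_val])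
    (fun p v => congrArg₂ (fun a b => a * conj b) (hσ p v.1).2 (hσ p v.2).2) (by
      refine (congrArg _ ((congrArg (ip · _) (funext fun v => hΨ _ _)).trans
        (ip_outer (θ ∘ (In Λ).subtype.comp j) f (η ∘ j) f))).trans ?_
      rw [map_mul, Complex.normSq_conj, ((pr_cnt (C := C)).1 θ w.iθ w.aθ).1,
        (C.uM ψ η η w.oψ w.iη w.iη w.uη w.uη w.aη w.aη).2, mul_one])
  have := MK.E.finite_sd (φ := a)
  refine extF_of (SemidirectProduct.inl.comp j0) y1 (fun x y => (y2 _).trans (hΨ x y))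
    (fun g α => (i g.left).1 = (i g.left).2 ∧ ∀ x, ι (α x) = (i g.left).1 * g.right.1.1 (ι x) * (i g.left).1⁻¹)
    (fun g g' α α' h h' => ⟨?_, fun x => ?_⟩) (fun g g' α h h' => ?_) (fun g α h x y y' e => ?_)
    (fun y => ⟨(j2 _ _).symm, fun x => by simp only [j1, _root_.MulAut.conj_apply, _root_.map_mul, _root_.map_inv, _root_.MonoidHom.coe_comp, _root_.Function.comp_apply, _root_.SemidirectProduct.left_inl, _root_.SemidirectProduct.right_inl, _root_.OneMemClass.coe_one, _root_.MulAut.one_apply]⟩) fun α hα => ?_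
  · simp only [SemidirectProduct.mul_left, map_mul, Prod.fst_mul, Prod.snd_mul, a1, a2, h.1, h'.1]
  · simp_rw [SemidirectProduct.mul_left, map_mul, Prod.fst_mul, a1, MulAut.mul_apply, h.2, h'.2]
    simp only [mul_assoc, _root_.map_mul, _root_.map_inv, _root_.SemidirectProduct.mul_right, _root_.Subgroup.coe_mul, _root_.MulAut.mul_apply, _root_.mul_inv_rev]
  · have h1 : (i g'.left).1⁻¹ * (i g.left).1 ∈ B := by
      rw [h.1, h'.1]
      exact mul_mem (inv_mem g'.left.1.2.1.2) g.left.1.2.1.2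
    have h2 : ∀ x, g'.right.1.1 (g.right.1.1⁻¹ (ι x)) =
        (i g'.left).1⁻¹ * (i g.left).1 * ι x * ((i g'.left).1⁻¹ * (i g.left).1)⁻¹ := fun x => by
      obtain ⟨x', hx⟩ := C.φX _ (inv_mem g.right.1.2) x
      have h3 := (h.2 x').symm.trans (h'.2 x')
      rw [hx, MulAut.apply_inv_self] at h3
      (rewrite [← mul_left_inj (i g'.left).1⁻¹, ← mul_right_inj (i g'.left).1]; (conv => enter [@2]; rw [← mul_assoc]); simp only [← h3])
      group
    have h3 := C.fa (g'.right.1.1 * g.right.1.1⁻¹) (mul_mem g'.right.1.2 (inv_mem g.right.1.2)) _ h1 h2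
    have h4 : g'.right = g.right := Subtype.ext (Subtype.ext (mul_inv_eq_one.1 h3))
    have h5 := C.cX _ h1 fun x => by
      have h5 := h2 x
      rw [h4, MulAut.apply_inv_self] at h5
      exact (eq_mul_inv_iff_mul_eq.1 h5).symm
    have h6 : g * g'⁻¹ = SemidirectProduct.inl (g.left * g'.left⁻¹) := by ext1 <;> simp only [h4, _root_.SemidirectProduct.mul_left, _root_.SemidirectProduct.inv_left, _root_.map_inv, _root_.MulAut.inv_apply, _root_.MulEquiv.apply_symm_apply, _root_.map_mul, _root_.SemidirectProduct.left_inl, _root_.SemidirectProduct.right_inl, _root_.map_one, _root_.inv_one, _root_.MulAut.one_apply, _root_.SemidirectProduct.mul_right, _root_.SemidirectProduct.inv_right, _root_.mul_inv_cancel, _root_.mul_one]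
    have h7 : (i (g.left * g'.left⁻¹)).1 ∈ center K := by
      rwa [map_mul, map_inv, Prod.fst_mul, Prod.fst_inv, ← mul_inv_cancel_left (i g'.left).1 (i g.left).1,
        mem_center_iff.1 h5, mul_inv_cancel_right]
    have h8 : (i (g.left * g'.left⁻¹)).2 = (i (g.left * g'.left⁻¹)).1 := by
      simp only [map_mul, map_inv, Prod.fst_mul, Prod.fst_inv, Prod.snd_mul, Prod.snd_inv, h.1, h'.1]
    rw [h6, ← map_one (SemidirectProduct.inl (φ := a)), y2, y2]
    generalize g.left * g'.left⁻¹ = z at h7 h8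
    have h9 : χ (i z).1 = χ (i z).1 / χ 1 * χ 1 := (div_mul_cancel₀ _ w.oχ.one_ne).symm
    have h10 : ψ z.1.2 = χ (i z).1 / χ 1 * ψ 1 := by
      rw [div_mul_eq_mul_div, eq_div_iff w.oχ.one_ne, ← C.cz χ ψ w.oχ w.oψ w.r z.1.2 (h8 ▸ h7 :), ← h8]
      rfl
    change ξ _ * conj (ζ _) = ξ 1 * conj (ζ 1)
    rw [cen_of_und (C.aX.Stb θ).subtype_injective w.oχ.1 x1 x3 (z := z.1.1) h7 h9,
      cen_of_und (C.aM.Stb η).subtype_injective w.oψ.1 z1 z3 (z := z.1.2)
        (mem_center_iff.2 fun b => Subtype.ext (mem_center_iff.1 (h8 ▸ h7 :) b)) h10, map_mul]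
    linear_combination ξ 1 * conj (ζ 1) * MK.E.mul_conj_central w.oχ.1 h7 h9
  · refine SemidirectProduct.ext (hi (Prod.ext ?_ ?_)) (by simp only [_root_.MonoidHom.coe_comp, _root_.Function.comp_apply, _root_.SemidirectProduct.mul_right, _root_.SemidirectProduct.right_inl, _root_.mul_one, _root_.one_mul])
    · simp [a1, j1, h.2]
    · simp only [a2, j2, e, h.2, h.1, _root_.MonoidHom.coe_comp, _root_.Function.comp_apply, _root_.SemidirectProduct.mul_left, _root_.SemidirectProduct.left_inl, _root_.map_mul, _root_.Prod.snd_mul, _root_.SemidirectProduct.right_inl, _root_.map_one, _root_.MulAut.one_apply, _root_.inv_mul_cancel_right]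
  · obtain ⟨b, φ, δ, h1, h2, -⟩ := C.split hρ ⟨α, hα.1⟩
    obtain rfl : α = δ.1 * (ρ φ).1 := congrArg Subtype.val h1
    have h3 := Pr.aut ⟨_, _, w⟩ (hρ φ⁻¹)
    rw [show (fun x => θ ((ρ φ⁻¹).1 x)) = fun x => θ (δ.1 x) from funext fun x => by
      simpa only [_root_.map_inv, _root_.InvMemClass.coe_inv, _root_.MulAut.inv_apply, _root_.MulAut.mul_apply, _root_.MulEquiv.apply_symm_apply] using (hα.2 ((ρ φ⁻¹).1 x)).symm] at h3
    have h4 := congrFun (w.fix h2 h3)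
    have h5 := (C.aX.mem_Stb h2).2 h4
    exact ⟨⟨⟨(⟨b, h5⟩, ⟨b, (w.stab hA b).1 h5⟩), rfl⟩, ⟨φ, (ρ φ).2, fun x => (h4 _).symm.trans (hα.2 x)⟩⟩, rfl,
      fun x => (h2 _).trans (congrArg (b * · * (b : K)⁻¹) (hρ φ x))⟩

variable (C) in
/-- conjugate to a standard pair -/
def Rx (θ : X → ℂ) (η : In Λ → ℂ) : Prop := ∃ α : Λ, C.Pr (fun x => θ (α.1 x)) fun y => η (rs Λ α y)

theorem rx_iff (hA : AbBox) (h : C.Rx θ η) (h' : C.Rx θ' η') : θ = θ' ↔ η = η' := by
  obtain ⟨α, h⟩ := h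
  obtain ⟨α', h'⟩ := h'
  rw [← comp_inj α.1, ← comp_inj (rs Λ α)]
  exact key hA h (α⁻¹ * α') (by simpa only [_root_.Subgroup.coe_mul, _root_.InvMemClass.coe_inv, _root_.MulAut.mul_apply, _root_.MulAut.inv_apply, _root_.MulEquiv.apply_symm_apply, _root_.map_mul, _root_.map_inv] using h')

theorem Rx.odd (h : C.Rx θ η) : OI X θ ∧ OI (In Λ) η := by
  obtain ⟨α, χ, ψ, w⟩ := h
  exact ⟨by simpa using oi_aut α.1⁻¹ (C.aX.down w.oχ w.iθ w.uθ),
    by simpa using oi_aut (rs Λ α)⁻¹ (C.aM.down w.oψ w.iη w.uη)⟩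

theorem Rx.aut (h : C.Rx θ η) (γ : Λ) : C.Rx (fun x => θ (γ.1 x)) fun y => η (rs Λ γ y) :=
  let ⟨α, h⟩ := h
  ⟨γ⁻¹ * α, by simpa only [_root_.Subgroup.coe_mul, _root_.InvMemClass.coe_inv, _root_.MulAut.mul_apply, _root_.MulAut.inv_apply, _root_.MulEquiv.apply_symm_apply, _root_.map_mul, _root_.map_inv] using h⟩

theorem rx_ex (h : OI X θ) : ∃ η, C.Rx θ η := by
  obtain ⟨χ, h1, h2⟩ := C.aX.up h
  obtain ⟨θ', h3, h4, h5⟩ := C.exists_std h1
  obtain ⟨-, η, h6⟩ := (pr_cnt (C := C)).1 θ' h3 h5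
  obtain ⟨k, hk⟩ := C.aX.cj h1.1 h.1 h3 h2 h4
  obtain ⟨x, b, hb, rfl⟩ := C.spl k
  obtain ⟨δ, h7, -⟩ := C.exists_b ⟨b, hb⟩
  refine ⟨fun y => η (rs Λ δ⁻¹ y), δ, ?_⟩
  rw [show θ' = fun s => θ (δ.1 s) from funext fun s => (hk s (x * δ.1 s * x⁻¹) (by simp only [h7, mul_assoc, _root_.map_mul, _root_.map_inv, _root_.mul_inv_rev])).trans
    (isIrr_isClassFunction h.1 _ x)] at h6
  simpa using h6

theorem rx_ex' (h : OI (In Λ) η) : ∃ θ, C.Rx θ η := by
  obtain ⟨ψ, h1, h2⟩ := C.aM.up h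
  obtain ⟨η', h3, h4, h5⟩ := exists_und j (isCharacter_comp κ (isIrr_isCharacter h1.1)) (f := f) fun e =>
    zero_ne_one (map_zero Complex.normSq ▸ e ▸ C.nB ψ h1 :)
  obtain ⟨θ, h6⟩ := C.pr_ex h3 h5
  obtain ⟨b, hb⟩ := C.aM.cj h1.1 h.1 h3 h2 h4
  obtain ⟨δ, -, h7⟩ := C.exists_b b
  refine ⟨fun x => θ (δ.1⁻¹ x), δ, ?_⟩
  rw [show η' = fun s => η (rs Λ δ s) from funext fun s => hb s _ (h7 s)] at h6
  simpa using h6

theorem Rx.cen (h : C.Rx θ η) (z : In Λ) (hz : (z : X) ∈ center X) : θ z * η 1 = η z * θ 1 := by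
  obtain ⟨α, χ, ψ, w⟩ := h
  obtain ⟨z, rfl⟩ := (rs Λ α).surjective z
  have h1 : (z : X) ∈ center X := mem_center_iff.2 fun g => α.1.injective (by
    rw [map_mul, map_mul]
    exact mem_center_iff.1 hz _)
  have h2 := C.zX _ h1
  have h3 : χ (ι z) = χ (ι z) / χ 1 * χ 1 := (div_mul_cancel₀ _ w.oχ.one_ne).symm
  have h4 : ψ (κ z) = χ (ι z) / χ 1 * ψ 1 := by
    rw [div_mul_eq_mul_div, eq_div_iff w.oχ.one_ne, ← C.cz χ ψ w.oχ w.oψ w.r _ (C.hκ z ▸ h2 :), C.hκ]
  have h5 := cen_of_und C.aX.inj w.oχ.1 w.iθ w.uθ h2 h3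
  have h6 := cen_of_und C.aM.inj w.oψ.1 w.iη w.uη
    (mem_center_iff.2 fun b => Subtype.ext (mem_center_iff.1 (C.hκ z ▸ h2 :) b)) h4
  simp only [map_one] at h5 h6
  rw [rs_coe, h5, h6]
  ring

theorem Rx.ext (hA : AbBox) (hE : ExtBox) (h : C.Rx θ η) : ExtF Λ (St Λ θ) θ η := by
  obtain ⟨α, χ, ψ, w⟩ := h
  simpa using (w.ext hA hE).conj (S := St Λ θ) α⁻¹ fun γ hγ =>
    ⟨mul_mem (mul_mem α⁻¹.2 hγ.1) (inv_mem α⁻¹.2), fun x => by simpa only [_root_.InvMemClass.coe_inv, _root_.inv_inv, _root_.MulAut.mul_apply, _root_.MulAut.inv_apply, _root_.MulEquiv.apply_symm_apply] using hγ.2 (α.1 x)⟩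

theorem exists_cf (C : Cx ι B Φ R Λ κ j f) (hA : AbBox) (hE : ExtBox) : ∃ Ω, CF Λ Ω := by
  choose! Ω hΩ using fun θ => rx_ex (C := C) (θ := θ)
  refine ⟨Ω, ⟨fun θ h => (hΩ θ h).odd.2, fun θ h θ' h' e => (rx_iff hA (hΩ θ h) (hΩ θ' h')).2 e, fun η h => ?_⟩,
    fun θ h => (hΩ θ h).cen, fun θ h α =>
      congrFun ((rx_iff hA (hΩ _ (oi_aut α.1 h)) ((hΩ θ h).aut α)).1 rfl), fun θ h => (hΩ θ h).ext hA hE⟩
  obtain ⟨θ, h1⟩ := rx_ex' (C := C) h
  exact ⟨θ, h1.odd.1, (rx_iff hA (hΩ θ h1.odd.1) h1).1 rfl⟩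

end Cx

/-- **the bijection** -/
theorem spBox (hB : BorBox) (hT : TiBox) (hA : AbBox) (hE : ExtBox) (hJ : AdjBox) : SpBox := by
  intro X K I _ _ _ _ ι U T B D Φ R F Λ hΛ
  have : Finite X := Finite.of_injective _ F.inj
  obtain ⟨lam, hl⟩ := F.bo.lam
  obtain ⟨Φ', F', h1, h2⟩ := hJ F lam hl
  obtain ⟨κ, j, C⟩ := exists_cx hB hT F' (h1 Λ hΛ) hl h2
  exact C.exists_cf hA hE

end Cfsg.Agent.MK.Two
end

-- part: MK/P/W
section
prune_inst 0x142065044c00020008180082310060e07500019200234001d1240e000a0f916b29002701d4f00b1a19de2af0604fc060021000f9421000002a000e004001012088ab70e2a318190cb6000f80b887190c00000000000000000000000000041004004010000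
set_option linter.all false
open scoped Cfsg.Agent.FastGrp

/-!
# MK-P: wreath products (helper75)

* `Ext2 i p` : an extension of `B` by a `2`-group `T`; `res_oi`, `lin`, `lin_inj`;
* `w1`, `w2`, `w3`.
-/

set_option autoImplicit false
set_option linter.unusedSectionVars false

namespace Cfsg.Agent.MK.P

open Cfsg Subgroup Equiv Cfsg.Agent.MK.T Cfsg.Agent.Characters.Core Cfsg.Agent.ODD.Red

/-! ### extensions by `2`-groups -/

section ext

variable {B G T : Type} [Group B] [Group G] [Group T]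

/-- an exact sequence with a `2`-group as the quotient -/
structure Ext2 (i : B →* G) (p : G →* T) : Prop where
  inj : Function.Injective i
  surj : Function.Surjective p
  ker : p.ker = i.range
  two : IsPGroup 2 T

namespace Ext2

variable {i : B →* G} {p : G →* T} (h : Ext2 i p) [Finite G]

include h

theorem p_i (b : B) : p (i b) = 1 := by
  have h1 : i b ∈ p.ker := h.ker ▸ ⟨b, rfl⟩
  exact h1

theorem res_oi {ψ : G → ℂ} (hψ : OI G ψ) : OI B fun b => ψ (i b) := by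
  have := Finite.of_injective _ h.inj
  have := Finite.of_surjective _ h.surj
  have := two_prime
  obtain ⟨θ, hθ, ho⟩ := H672.exists_under (f := i) hψ.1
  obtain ⟨k, hk⟩ := IsPGroup.iff_card.1 h.two
  have h1 := H672.comp_eq_of_pindex i h.inj (h.ker ▸ MonoidHom.normal_ker p) Nat.prime_two (k := k)
    (by rw [← h.ker, index_ker, MonoidHom.range_eq_top.2 h.surj, card_top, hk]) hψ.1 hψ.2.not_two_dvd_nat hθ ho
  refine ⟨(show (fun b => ψ (i b)) = θ from h1) ▸ hθ, ?_⟩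
  rw [charDegree_congr (χ := fun b => ψ (i b)) (ψ := ψ) (congrArg ψ (map_one i))]
  exact hψ.2

theorem res_ker {χ : G → ℂ} (hχ : IsIrrCharacter B fun b => χ (i b)) : IsIrrCharacter p.ker fun n : p.ker => χ n := by
  let e : p.ker ≃* B := (MulEquiv.subgroupCongr h.ker).trans (MonoidHom.ofInjective h.inj).symm
  have h1 := isIrr_comp' e.toMonoidHom e.surjective hχ
  refine (funext fun n => ?_ : (fun n => χ (i (e.toMonoidHom n))) = fun n : p.ker => χ n) ▸ h1
  exact congrArg χ (MonoidHom.apply_ofInjective_symm h.inj _)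

theorem lin {χ ψ : G → ℂ} (hχ : OI G χ) (hψ : IsIrrCharacter G ψ) (e : ∀ b, ψ (i b) = χ (i b)) :
    ∃ l : T →* ℂˣ, ∀ g, ψ g = l (p g) * χ g := by
  obtain ⟨l, h1, h2⟩ := exists_lin p.ker hχ.1 (h.res_ker (h.res_oi hχ).1) hψ fun n => by
    obtain ⟨b, hb⟩ := h.ker.le n.2
    rw [← hb, e]
  refine ⟨p.liftOfSurjective h.surj ⟨l, h1⟩, fun g => ?_⟩
  rw [h2, MonoidHom.liftOfSurjective, MonoidHom.liftOfRightInverse_comp_apply]

theorem lin_inj {χ : G → ℂ} (hχ : OI G χ) {l l' : T →* ℂˣ} (e : ∀ g, l (p g) * χ g = l' (p g) * χ g) : l = l' := by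
  refine MonoidHom.ext fun t => Units.ext ?_
  obtain ⟨g, rfl⟩ := h.surj t
  refine gall_inj p.ker hχ.1 (h.res_ker (h.res_oi hχ).1) (η := fun g => l (p g)) (η' := fun g => l' (p g))
    (fun n g => ?_) (fun n g => ?_) (fun g => ?_) g
  · rw [map_mul, show p n = 1 from n.2, one_mul]
  · rw [map_mul, show p n = 1 from n.2, one_mul]
  · rw [mul_comm, e, mul_comm]

omit h in
theorem oi_lin {χ : G → ℂ} (hχ : OI G χ) (l : G →* ℂˣ) : OI G fun g => l g * χ g :=
  ⟨isIrr_lin_mul l hχ.1, by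
    rw [charDegree_congr (ψ := χ) (by rw [map_one, Units.val_one, one_mul])]
    exact hχ.2⟩

/-- an automorphism of odd order which acts trivially on `T` and fixes the restriction -/
theorem fix (δ : MulAut G) {k : ℕ} (hk : Odd k) (h1 : δ ^ k = 1) (hp : ∀ g, p (δ g) = p g) {ψ : G → ℂ} (hψ : OI G ψ)
    (hb : ∀ b, ψ (δ (i b)) = ψ (i b)) (g : G) : ψ (δ g) = ψ g := by
  obtain ⟨l, hl⟩ := h.lin hψ (oi_equiv δ hψ).1 hb
  have h2 : ∀ (n : ℕ) g, ψ ((δ ^ n) g) = (l ^ n) (p g) * ψ g := fun n => by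
    induction n with
    | zero => intro g; simp
    | succ n ih =>
      intro g
      rw [pow_succ, MulAut.mul_apply, ih, hp, hl, MonoidHom.pow_apply, MonoidHom.pow_apply, pow_succ, Units.val_mul,
        mul_assoc]
  have h3 : l ^ k = 1 := h.lin_inj hψ fun g => by
    rw [← h2, h1]
    simp
  obtain ⟨m, hm⟩ := h.two (p g)
  have h4 : l (p g) = 1 := by
    have a1 : l (p g) ^ k = 1 := by rw [← MonoidHom.pow_apply, h3]; rfl
    have a2 : l (p g) ^ 2 ^ m = 1 := by rw [← map_pow, hm, map_one]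
    have a3 := pow_gcd_eq_one.2 ⟨a1, a2⟩
    rwa [Nat.Coprime.gcd_eq_one (Nat.Coprime.pow_right m (Nat.coprime_two_right.2 hk)), pow_one] at a3
  rw [hl, h4, Units.val_one, one_mul]

end Ext2

end ext

/-! ### wreath products -/

section wr

variable {A ι : Type} [Group A] (T : Subgroup (Perm ι))

/-- the base group -/
def ib : (ι → A) →* WT A T := SemidirectProduct.inl.codRestrict _ fun _ => T.one_mem

/-- the top group -/
def pr : WT A T →* T := (SemidirectProduct.rightHom.comp (WT A T).subtype).codRestrict _ fun w => w.2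

/-- the section -/
def sc : T →* WT A T := (SemidirectProduct.inr.comp T.subtype).codRestrict _ fun t => t.2

variable {T}

theorem ext2 (h : IsPGroup 2 T) : Ext2 (ib T : (ι → A) →* _) (pr T) :=
  ⟨fun _ _ e => SemidirectProduct.inl_injective (congrArg Subtype.val e), fun t => ⟨sc T t, rfl⟩,
    le_antisymm (fun w hw => ⟨w.1.left, Subtype.ext (SemidirectProduct.ext rfl (congrArg Subtype.val hw).symm)⟩)
      (by rintro _ ⟨b, rfl⟩; rfl), h⟩

theorem sc_conj (t : T) (b : ι → A) : sc T t * ib T b * (sc T t)⁻¹ = ib T fun i => b (t.1⁻¹ i) :=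
  Subtype.ext (by
    change SemidirectProduct.inr t.1 * SemidirectProduct.inl b * (SemidirectProduct.inr t.1 : Wr A ι)⁻¹ = _
    rw [← map_inv, ← SemidirectProduct.inl_aut]
    rfl)

variable [Finite A] [Fintype ι]

theorem oi_pi {θ : ι → A → ℂ} (h : ∀ i, IsIrrCharacter A (θ i)) :
    OI (ι → A) (fun b => ∏ i, θ i (b i)) ↔ ∀ i, OI A (θ i) := by
  have h1 : charDegree (fun b : ι → A => ∏ i, θ i (b i)) = ∏ i, charDegree (θ i) :=
    charDegree_of (by
      rw [Nat.cast_prod]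
      exact Finset.prod_congr rfl fun i _ => apply_one (isIrr_isCharacter (h i)))
  rw [OI, h1]
  exact ⟨fun a i => ⟨h i, a.2.of_dvd_nat (Finset.dvd_prod_of_mem _ (Finset.mem_univ i))⟩,
    fun a => ⟨H793.PC.isIrr_pi h, Finset.prod_induction _ Odd (fun _ _ => Odd.mul) odd_one fun i _ => (a i).2⟩⟩

theorem exists_res (h : IsPGroup 2 T) {ψ : WT A T → ℂ} (hψ : OI (WT A T) ψ) :
    ∃ θ : ι → {χ : A → ℂ // OI A χ}, Iv T θ ∧ ∀ b, ψ (ib T b) = ∏ i, (θ i).1 (b i) := by
  classical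
  have := finite_Wr (A := A) (ι := ι)
  have h1 := (ext2 h).res_oi hψ
  obtain ⟨θ, h2, h3⟩ := H624.MGroup.exists_pi _ h1.1
  have h4 := (oi_pi h2).1 (funext h3 ▸ h1)
  refine ⟨fun i => ⟨θ i, h4 i⟩, fun t ht i => Subtype.ext ?_, h3⟩
  refine congrFun (H663.GmnStep.pi_unique (f := fun i => θ (t i)) (g := θ) (fun i => h2 _) h2 fun b => ?_) i
  rw [← h3, ← isIrr_isClassFunction hψ.1 (ib T b) (sc T ⟨t, ht⟩), sc_conj, h3]
  exact Fintype.prod_equiv t _ _ fun i => by simp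

theorem exists_ext (h : IsPGroup 2 T) {θ : ι → {χ : A → ℂ // OI A χ}} (hθ : Iv T θ) :
    ∃ χ : WT A T → ℂ, OI (WT A T) χ ∧ ∀ b, χ (ib T b) = ∏ i, (θ i).1 (b i) := by
  have := two_prime
  have h1 := (oi_pi fun i => (θ i).2.1).2 fun i => (θ i).2
  obtain ⟨d, hd, h2⟩ := E.oi_deg h1
  obtain ⟨k, hk⟩ := IsPGroup.iff_card.1 h
  obtain ⟨Θ, h3, h4⟩ := E.exS_coprime (φ := (mulAutArrow : Perm ι →* MulAut (ι → A)).comp T.subtype) h1.1
    (fun t b => (Fintype.prod_equiv t.1 _ _ fun i => by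
      rw [hθ t t.2]
      change _ = (θ i).1 (b (t.1⁻¹ (t.1 i)))
      simp).symm) h2 (by rw [hk]; exact (Nat.coprime_two_left.2 hd).pow_left k)
  let f : WT A T →* (ι → A) ⋊[(mulAutArrow : Perm ι →* MulAut (ι → A)).comp T.subtype] T :=
    MonoidHom.mk' (fun w => ⟨w.1.left, pr T w⟩) fun _ _ => rfl
  have h5 : ∀ b, Θ (f (ib T b)) = ∏ i, (θ i).1 (b i) := h4
  refine ⟨fun w => Θ (f w), ⟨E.isIrr_of_comp (ib T) (isCharacter_comp' f h3) (funext h5 ▸ h1.1), ?_⟩, h5⟩
  rw [charDegree_of (n := d) (by rw [← map_one (ib T), h5, ← h2])]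
  exact hd

theorem ov_iff {z : A} {ψ : WT A T → ℂ} (hψ : IsCharacter _ ψ) :
    Ov (WT A T) (zpowers (dz ι z)) 1 ψ ↔ ψ (ib T fun _ => z) = ψ 1 := by
  have := finite_Wr (A := A) (ι := ι)
  refine ⟨fun h => (h _ (mem_zpowers _)).trans (one_mul _), fun h w hw => ?_⟩
  obtain ⟨n, hn⟩ := mem_powers_iff_mem_zpowers.2 hw
  have h1 : w = (ib T fun _ => z) ^ n := Subtype.ext hn.symm
  rw [h1, Pi.one_apply, one_mul]
  clear h1 hn
  induction n with
  | zero => rw [pow_zero]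
  | succ n ih => rw [pow_succ', apply_mul_of_ker hψ h, ih]

end wr

theorem w1 : W1 := by
  classical
  intro A ι _ _ _ z T n hz ih hn
  have := finite_Wr (A := A) (ι := ι)
  have := two_prime
  obtain ⟨P, -, h1, h2, h3⟩ := H.exists_syl (H := WT A (T : Subgroup (Perm ι))) bot_le IsPGroup.of_bot
  have h0 : WT A (⊤ : Subgroup (Perm ι)) = ⊤ := comap_top _
  have hs := SemidirectProduct.rightHom_surjective (N := ι → A) (G := Perm ι) (φ := mulAutArrow)
  have h4 : Odd (T : Subgroup (Perm ι)).index := Nat.odd_iff.2 (Nat.two_dvd_ne_zero.1 T.not_dvd_index)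
  have h5 : Odd P.index := by
    rw [← relIndex_mul_index h1, WT, index_comap_of_surjective _ hs]
    exact h3.mul h4
  have h6 : P.map SemidirectProduct.rightHom = T := by
    refine le_antisymm (map_le_iff_le_comap.2 h1) (H.eq_of_odd (K := ⊤) ?_ (map_le_iff_le_comap.2 h1) le_top T.2)
    rw [relIndex_top_right]
    exact h5.of_dvd_nat (index_map_dvd _ hs)
  rw [kw, kw, h0]
  refine ih.sub (P := P) (zpowers_le.2 (one_mem (T : Subgroup (Perm ι)))) le_top
    (fun x hx k _ => mem_center_iff.1 (zpowers_le.2 (dz_mem hz) hx) k) (by rwa [relIndex_top_right]) le_top h2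
    (by rwa [relIndex_top_right]) (fun w hw => H94.Syl2Sym.sym_selfNorm T ?_) _
  rw [← h6]
  exact le_normalizer_map _ (mem_map_of_mem _ hw.2)

theorem w2 : W2 := by
  classical
  intro A ι _ _ _ z T hT
  have := finite_Wr (A := A) (ι := ι)
  have h := ext2 (A := A) hT
  rw [ab_eq_card, ← Nat.card_prod]
  choose χ h1 h2 using fun θ : {θ : ι → {χ : A → ℂ // OI A χ} // Iv T θ ∧ ∏ i, (θ i).1 z = ∏ i, (θ i).1 1} =>
    exists_ext hT θ.2.1
  have h3 : ∀ θ (l : T →* ℂˣ) b, l (pr T (ib T b)) * χ θ (ib T b) = ∏ i, (θ.1 i).1 (b i) := fun θ l b => by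
    rw [h.p_i, map_one, Units.val_one, one_mul, h2]
  refine (Nat.card_eq_of_bijective (fun u => (⟨fun g => u.2 (pr T g) * χ u.1 g, Ext2.oi_lin (h1 u.1) (u.2.comp (pr T)),
    (ov_iff (isIrr_isCharacter (Ext2.oi_lin (h1 u.1) (u.2.comp (pr T))).1)).2 ?_⟩ :
      {ψ : WT A T → ℂ // OI _ ψ ∧ Ov (WT A T) (zpowers (dz ι z)) 1 ψ})) ⟨?_, ?_⟩).symm
  · rw [← map_one (ib T)]
    exact (h3 _ _ _).trans (u.1.2.2.trans (h3 _ _ 1).symm)
  · rintro ⟨θ, l⟩ ⟨θ', l'⟩ e
    have e1 := congrFun (congrArg Subtype.val e)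
    obtain rfl : θ = θ' := by
      have e2 := H663.GmnStep.pi_unique (f := fun i => (θ.1 i).1) (g := fun i => (θ'.1 i).1) (fun i => (θ.1 i).2.1)
        (fun i => (θ'.1 i).2.1) fun b => (h3 θ l b).symm.trans ((e1 _).trans (h3 θ' l' b))
      exact Subtype.ext (funext fun i => Subtype.ext (congrFun e2 i))
    exact Prod.ext rfl (h.lin_inj (h1 θ) e1)
  · rintro ⟨ψ, hψ, ho⟩
    obtain ⟨θ, a1, a2⟩ := exists_res hT hψ
    have a3 : ∏ i, (θ i).1 z = ∏ i, (θ i).1 1 := by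
      rw [← a2 fun _ => z, (ov_iff (isIrr_isCharacter hψ.1)).1 ho, ← map_one (ib T), a2]
      rfl
    obtain ⟨l, hl⟩ := h.lin (h1 ⟨θ, a1, a3⟩) hψ.1 fun b => (a2 b).trans (h2 ⟨θ, a1, a3⟩ b).symm
    exact ⟨(⟨θ, a1, a3⟩, l), Subtype.ext (funext fun g => (hl g).symm)⟩

/-- the action of automorphisms of `A` -/
def actW (A : Type) [Group A] {ι : Type} (T : Subgroup (Perm ι)) : MulAut A →* MulAut (WT A T) where
  toFun δ :=
    { toFun := fun w => ⟨mapW ι δ.toMonoidHom w, w.2⟩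
      invFun := fun w => ⟨mapW ι δ.symm.toMonoidHom w, w.2⟩
      left_inv := fun _ => Subtype.ext (SemidirectProduct.ext (funext fun _ => δ.symm_apply_apply _) rfl)
      right_inv := fun _ => Subtype.ext (SemidirectProduct.ext (funext fun _ => δ.apply_symm_apply _) rfl)
      map_mul' := fun _ _ => Subtype.ext (map_mul _ _ _) }
  map_one' := rfl
  map_mul' _ _ := rfl

theorem w3 : W3 := by
  intro A ι _ _ _ T δ k hT hk h1 h2 ψ hψ y y' e
  have := finite_Wr (A := A) (ι := ι)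
  obtain ⟨θ, -, a2⟩ := exists_res hT hψ
  rw [show y' = actW A T δ y from Subtype.ext e]
  refine (ext2 hT).fix (actW A T δ) hk (by rw [← map_pow, h1, map_one]) (fun _ => rfl) hψ (fun b => ?_) y
  rw [show actW A T δ (ib T b) = ib T fun i => δ (b i) from rfl, a2, a2]
  exact Finset.prod_congr rfl fun i _ => h2 _ (θ i).2 _

end Cfsg.Agent.MK.P

private theorem dce_da17667f1b48 : _root_.True := by
  try have : _root_.True := by simp only [_root_.Cfsg.Agent.MK.P.kw.eq_1]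
  try have : _root_.True := by simp only [_root_.Cfsg.Agent.MK.P.WT.eq_1]
  exact _root_.True.intro
end

-- part: MK/P/Main
section
prune_inst 0x343025050462000000000002b000608011000090000000018044020002408002090001008090000810c0aa000005006002000030420000000a0004000005000018801202b0088000000006000080010000000000000000000000000000000000004010000
set_option linter.all false
open scoped Cfsg.Agent.FastGrp

/-!
# MK-P: the case P from the global side (helper75)

* `s4` : the characters of odd degree of `SL₂(q)`, `q ≡ 3 mod 4`;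
* `alt` : the alternative for groups of automorphisms of `PSp_{2n}(q)`;
* `caseP_of`.
-/

set_option autoImplicit false
set_option linter.unusedSectionVars false

namespace Cfsg.Agent.MK.P

open Cfsg Subgroup Equiv Cfsg.Agent.MK.T Cfsg.Agent.Characters.Core Cfsg.Agent.ODD.Red
open Cfsg.Agent.ClassicalGeometry.SympBasic Cfsg.Agent.ClassicalGeometry.SympAutSemi
  Cfsg.Agent.ClassicalGeometry.SympGamma Cfsg.Agent.H670.SL2 Cfsg.Agent.ODD.PS.C3 Cfsg.Agent.TitsThree.SpIdent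

section field

variable {F : Type} [Field F] [Fintype F]

theorem isSquare_mul {a b : F} (h : IsSquare a ↔ IsSquare b) : IsSquare (a * b) := by
  classical
  by_cases ha : IsSquare a
  · exact ha.mul (h.1 ha)
  · have hb : ¬ IsSquare b := fun hb => ha (h.2 hb)
    refine (quadraticChar_one_iff_isSquare (mul_ne_zero (fun e => ha (by simp only [e, _root_.IsSquare.zero])) fun e => hb (by simp only [e, _root_.IsSquare.zero]))).1 ?_
    rw [map_mul, quadraticChar_neg_one_iff_not_isSquare.2 ha, quadraticChar_neg_one_iff_not_isSquare.2 hb]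
    norm_num

theorem odd_aut (h : Fintype.card F % 4 = 3) : Odd (Nat.card (F ≃+* F)) := by
  obtain ⟨p, hp⟩ := CharP.exists F
  obtain ⟨n, h1, h2⟩ := FiniteField.card F p
  have := Fact.mk h1
  rw [Lib.FieldAutCard.card_ringAut n.pos h2, ← Nat.not_even_iff_odd]
  rintro ⟨m, hm⟩
  rw [h2, hm, pow_add, Nat.mul_mod] at h
  have h3 : p ^ m % 4 < 4 := Nat.mod_lt _ (by norm_num)
  generalize p ^ m % 4 = r at h h3
  interval_cases r <;> simp at h

end field

theorem s4 : S4 := by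
  classical
  intro F _ _ hq
  have ho : Odd (Fintype.card F) := Nat.odd_iff.2 (by omega)
  refine ⟨?_, fun χ hχ => ⟨?_, fun σ => congrFun (ODD.PS.S2.eq_of_x ho hχ.1 (oi_equiv (f2 F σ) hχ).1 hχ.2 fun s => ?_)⟩⟩
  · obtain ⟨nu, hnu⟩ := exists_not_square ho
    obtain ⟨m, hm⟩ : ∃ m, Fintype.card F = 2 * (2 * m + 1) + 1 := ⟨Fintype.card F / 4, by omega⟩
    have := finite_irr (G := S2 F)
    have : Fintype (IrrCharacter (S2 F)) := Fintype.ofFinite _
    obtain ⟨-, c2, -, -, c5, -, c7, c8⟩ := counts hnu hm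
    have h1 := sum_tys hnu fun p => if Odd (p.1 + (2 * m + 1) * (p.2.1 + p.2.2)) then 1 else 0
    rw [c2, c5, c7, c8, if_neg (by rw [Nat.odd_iff]; simp only; omega), if_pos (by simp),
      if_neg (by rw [Nat.odd_iff]; simp only; omega), if_neg (by rw [Nat.odd_iff]; simp only; omega),
      if_pos (by rw [Nat.odd_iff]; simp only; omega), if_neg (by rw [Nat.odd_iff]; simp only; omega),
      if_pos (by rw [Nat.odd_iff]; simp only; omega), if_pos (by rw [Nat.odd_iff]; simp only; omega)] at h1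
    simp only [← ODD.PS.S2.deg_ty hnu _ hm] at h1
    rw [← Finset.card_filter, ← Fintype.card_subtype, ← Nat.card_eq_fintype_card] at h1
    refine (Nat.card_congr ?_).trans (h1.trans (by norm_num))
    exact ⟨fun χ => ⟨⟨χ.1, χ.2.1⟩, χ.2.2⟩, fun χ => ⟨χ.1.1, χ.1.2, χ.2⟩, fun _ => rfl, fun _ => rfl⟩
  · obtain ⟨c, h1, h2, h3⟩ := exists_central hχ.1 (ng_mem (F := F))
    obtain ⟨a, b, hab⟩ := H158.PronM2.exists_sq_add_sq (-1 : F)
    let j : S2 F := ⟨!![a, b; b, -a], by rw [Matrix.det_fin_two_of]; linear_combination -hab⟩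
    have h4 : wel * j = ng F * (j * wel) := by
      refine ext4 ?_ ?_ ?_ ?_ <;> simp only [mul00, mul01, mul10, mul11, tor00, tor01, tor10, tor11] <;>
        simp [j, e00, e01, e10, e11, wel]
    have h5 := congrArg (dH χ) h4
    rw [map_mul, map_mul, map_mul, mul_comm (dH χ j), eq_comm, mul_eq_right] at h5
    obtain ⟨m, hm⟩ := hχ.2
    rw [h5, hm, pow_succ, pow_mul, h2 2 (by rw [pow_two, ng_mul_ng]), one_pow, one_mul, Units.val_one] at h3
    rw [← mul_one (ng F), h1, ← h3, one_mul]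
  · have h1 : f2 F σ (x s) = x (σ s) := ext4 (map_one σ) rfl (map_zero σ) (map_one σ)
    by_cases h0 : s = 0
    · rw [h1, h0, map_zero]
    · obtain ⟨t, ht⟩ := isSquare_mul (a := σ s) (b := s) ⟨fun h => by simpa only [_root_.RingEquiv.symm_apply_apply] using h.map σ.symm, fun h => h.map σ⟩
      have h2 : t ≠ 0 := fun e => by simp [e, h0] at ht
      have h3 := tor_mul_x (Units.mk0 (t / s) (div_ne_zero h2 h0)) s
      rw [show ((Units.mk0 (t / s) (div_ne_zero h2 h0) : Fˣ) : F) ^ 2 * s = σ s by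
        rw [Units.val_mk0, div_pow, pow_two t, ← ht]; field_simp] at h3
      rw [h1, ← mul_inv_eq_iff_eq_mul.2 h3]
      exact isIrr_isClassFunction hχ.1 _ _

section alt

variable {F : Type} [Field F] {k : ℕ}

end alt

section case

/-- the Frattini argument -/
theorem mem_of_fix {X : Type} [Group X] [Finite X] (Q : Sylow 2 X) {K : Subgroup X}
    (hN : normalizer ((Q : Subgroup X) : Set X) ≤ K) {β : MulAut X} (hβ : ∀ y ∈ K, β y ∈ K) {z : X}
    (h : ∀ y ∈ (Q : Subgroup X), z * β y * z⁻¹ ∈ (Q : Subgroup X)) : z ∈ K := by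
  have := two_prime
  have h1 : (Q : Subgroup X) ≤ K := le_normalizer.trans hN
  have h2 : ((β • Q : Sylow 2 X) : Subgroup X) ≤ K := by
    rintro _ ⟨y, hy, rfl⟩
    exact hβ y (h1 hy)
  obtain ⟨c, hc⟩ := MulAction.exists_smul_eq K (Q.subtype h1) ((β • Q).subtype h2)
  rw [Sylow.smul_subtype] at hc
  have h3 := Sylow.subtype_injective hc
  refine (mul_mem_cancel_right c.2).1 (hN (mem_normalizer_fintype fun y hy => ?_))
  obtain ⟨y', h4, h5⟩ : c * y * (c : X)⁻¹ ∈ ((β • Q : Sylow 2 X) : Subgroup X) := h3 ▸ ⟨y, hy, rfl⟩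
  have h6 := h y' h4
  rwa [show β y' = c * y * (c : X)⁻¹ from h5, show z * (c * y * (c : X)⁻¹) * z⁻¹ = z * c * y * (z * c)⁻¹ by group] at h6

variable {F : Type} [Field F] {k : ℕ}

theorem jP_not_surj (hk : 2 ≤ k) : ¬ Function.Surjective (jP k : Wr (S2 F) (Fin k) →* PSp k F) := by
  intro h
  let i0 : Fin k := ⟨0, by omega⟩
  let i1 : Fin k := ⟨1, by omega⟩
  have h01 : i0 ≠ i1 := fun e => by simp [i0, i1] at e
  obtain ⟨g, hg⟩ := toSp_surjective (transv (f k F i0 + e k F i1) 1)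
  obtain ⟨w, hw⟩ := h (toPSp g)
  obtain ⟨c, hc, h1⟩ := exists_smul_of_toPSp_eq_one (g := g⁻¹ * jI k w) (by
    rw [map_mul, map_inv, ← jP_apply, hw, inv_mul_cancel])
  have h0 : c ≠ 0 := fun e => by rw [e] at hc; simp at hc
  have h2 : jv w (e k F i0) = c • g.1 (e k F i0) := by
    rw [← map_smul, ← h1]
    exact (g.1.apply_symm_apply _).symm
  rw [← toSp_mulVec, hg, ← rho_apply, rho_transv, sympForm_add_right, ef, ee, jv_e] at h2
  have h3 := congrFun h2 (.inr i0)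
  have h4 := congrFun h2 (.inr i1)
  by_cases h5 : w.right i0 = i0
  · simp [e, f, h5, h01.symm] at h4
    exact h0 h4.symm
  · simp [e, f, Ne.symm h5, h01] at h3
    exact h0 h3.symm

theorem kw_eq [Fintype F] (hq : Fintype.card F % 4 = 3) {T : Subgroup (Perm (Fin k))} (hT : IsPGroup 2 T) :
    kw (ng F) T = c4 T := by
  obtain ⟨h1, h2⟩ := s4 F hq
  have := finite_oi' (G := S2 F)
  let ε := Finite.equivFinOfCardEq h1
  rw [w2 _ _ _ T hT, c4]
  refine congrArg (· * _) (Nat.card_congr ((Equiv.arrowCongr (Equiv.refl _) ε).subtypeEquiv fun θ => ?_))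
  exact ⟨fun h t ht i => congrArg ε (h.1 t ht i), fun h => ⟨fun t ht i => ε.injective (h t ht i),
    Finset.prod_congr rfl fun i _ => (h2 _ (θ i).2).1⟩⟩

end case

/-- **the case P** -/
theorem caseP_of (h : Steps) (hG : GS) : CaseP := by
  intro F _ _ k hq hk X _ _ e Γ s hΓ
  have := two_prime
  have := finite_Wr (A := S2 F) (ι := Fin k)
  have hZ : center X = ⊥ := by
    have := S0270.result (F := F) k hk fun _ => by omega
    have := e.isSimpleGroup
    refine (Subgroup.Normal.eq_bot_or_eq_top inferInstance).resolve_right fun h1 => ?_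
    exact SignalizersComponents.Components.quasisimple_not_isSolvable s.qs
      (Group.isSolvable_of_comm fun a b => mem_center_iff.1 (h1.ge (mem_top b)) a)
  obtain ⟨h1, h2⟩ := hG F k hq hk
  obtain ⟨T, hT⟩ := h1 (s.ih.mono (by
    rw [← Nat.card_congr e.toEquiv, ← index_bot, ← hZ]
    exact E.index_center_le s.inn))
  obtain ⟨Q₀, hQ₀⟩ := nq F k T (Nat.odd_iff.2 (by omega))
  let j : Wr (S2 F) (Fin k) →* X := e.symm.toMonoidHom.comp (jP k)
  let K := (WT (S2 F) (T : Subgroup (Perm (Fin k)))).map j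
  let Q : Sylow 2 X := Q₀.mapSurjective (f := e.symm.toMonoidHom) e.symm.surjective
  have hN : normalizer ((Q : Subgroup X) : Set X) ≤ K := by
    rw [show (Q : Subgroup X) = _ from Sylow.coe_mapSurjective _ _,
      ← map_normalizer_eq_of_bijective _ (f := e.symm.toMonoidHom) e.symm.bijective]
    exact (map_mono hQ₀).trans (map_map _ _ _).le
  let φ : (F ≃+* F) →* MulAut X := (MulAut.congr e.symm).toMonoidHom.comp (fld k F)
  have h3 : ∀ σ w, φ σ (j w) = j (mapW (Fin k) (f2 F σ).toMonoidHom w) := fun σ w =>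
    congrArg e.symm ((congrArg (fld k F σ) (e.apply_symm_apply _)).trans (fld_jP σ w))
  have h4 : ∀ σ, ∀ y ∈ K, φ σ y ∈ K := by
    rintro σ _ ⟨w, hw, rfl⟩
    exact ⟨mapW _ _ w, hw, (h3 σ w).symm⟩
  have h5 : ∀ α ∈ Γ, ∃ (z : X) (σ : F ≃+* F), α = MulAut.conj z * φ σ := fun α hα => by
    obtain ⟨z, σ, a⟩ := hΓ α hα
    refine ⟨e.symm z, σ, MulEquiv.ext fun y => e.injective ?_⟩
    rw [a, MulAut.mul_apply, MulAut.conj_apply, map_mul, map_mul, map_inv, e.apply_symm_apply]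
    exact congrArg (z * · * z⁻¹) (e.apply_symm_apply _).symm
  have h6 : In (Nm Γ K) = K := by
    rw [E.in_nm s.inn]
    refine le_antisymm (fun z hz => (inv_mem_iff.1 (mem_of_fix Q hN (β := MulAut.conj z)
      (fun y hy => (mem_normalizer_iff.1 hz y).1 hy) fun y hy => ?_))) le_normalizer
    simpa [mul_assoc] using hy
  have h7 : ∀ z σ, MulAut.conj z * φ σ ∈ Γ → φ σ ∈ Nm Γ K := fun z σ a =>
    ⟨(mul_mem_cancel_left (s.inn z)).1 a, stab_of_le (h4 σ)⟩
  refine ⟨Nm Γ K, Q, fun α hα => hα.1, fun a => jP_not_surj (F := F) hk fun y => ?_, fun α hα => ?_,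
    h.cyc X Γ _ s ⟨fun α hα => hα.1, fun α hα => ?_⟩ ?_ fun l _ α hα _ => ?_⟩
  · obtain ⟨w, -, hw⟩ := h6.le (show e.symm y ∈ In (Nm Γ K) from a.ge (s.inn _))
    exact ⟨w, e.symm.injective hw⟩
  · obtain ⟨z, σ, rfl⟩ := h5 α hα.1
    exact mul_mem (h6.ge (mem_of_fix Q hN (h4 σ) fun y hy => (hα.2 y).2 hy)) (h7 z σ hα.1)
  · obtain ⟨z, σ, rfl⟩ := h5 α hα
    exact ⟨z, _, h7 z σ hα, rfl⟩
  · have := Nat.finite_of_card_ne_zero (odd_aut hq).pos.ne'
    obtain ⟨σ₀, a⟩ := (LieRecognition.FieldSemilinear.isCyclic_ringAut F).exists_monoid_generator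
    refine E.cyc_sub (γ := φ σ₀) fun α hα => ?_
    obtain ⟨z, σ, rfl⟩ := h5 α hα
    obtain ⟨n, rfl⟩ := a σ
    exact ⟨n, z, by rw [map_pow]⟩
  · obtain ⟨z, σ, rfl⟩ := h5 α hα.1
    have a1 : z ∈ K := h6.le ((mul_mem_cancel_right (h7 z σ hα.1)).1 hα)
    rw [h6]
    refine fA_eq_fB hZ ?_ l
    have a2 := j.subgroupMap_surjective (WT (S2 F) (T : Subgroup (Perm (Fin k))))
    rw [fN_conj_mul a1, f0_conj_mul, f0_congr e (β := fld k F σ) fun y => e.apply_symm_apply _, f0_eq_of_all (h2 σ), hT,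
      ← kw_eq hq T.2, kw, ← kk_map (Z' := ⊥) (l := 1) (l' := 1) j (fun w _ => ?_) fun _ _ _ => rfl, kk_bot _ rfl]
    · refine (k0_eq_of fun ψ hψ y y' a => ?_).symm
      obtain ⟨w, rfl⟩ := a2 y
      rw [show y' = j.subgroupMap _ (actW _ _ (f2 F σ) w) from Subtype.ext (a.trans (h3 σ w))]
      exact w3 _ _ _ (f2 F σ) _ T.2 (odd_aut hq) (by rw [← map_pow, pow_card_eq_one', map_one])
        (fun χ hχ => ((s4 F hq).2 χ hχ).2 σ) _ (oi_comp _ a2 hψ) _ _ rfl
    · rw [mem_bot, ← jP_eq_one]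
      exact e.symm.map_eq_one_iff

end Cfsg.Agent.MK.P

private theorem dce_e8602e233b2a : _root_.True := by
  try have : _root_.True := by simp only [_root_.Cfsg.Agent.H670.SL2.wel.eq_1]
  try have : _root_.True := by simp only [_root_.Cfsg.Agent.MK.P.c4.eq_1]
  exact _root_.True.intro
end

-- part: MK/GO/Witt
section
prune_inst 0x4010000
set_option linter.all false
open scoped Cfsg.Agent.FastGrp

/-!
# MK, orthogonal rows: the frame in a Witt model (helper19)

`GQ` (the root groups), `gq_comm`, `f1_of`, `hord_of`; `gd_C`, `gd_D`.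
-/

set_option autoImplicit false
set_option linter.unusedSectionVars false

namespace Cfsg.Agent.MK.GO

open CoxeterSystem Cfsg.Agent.ChevalleyStructure.CoxeterGeom Cfsg.Agent.Tits.Roots Cfsg.Agent.Nodes.Reps
  Cfsg.Agent.Nodes.BNOf Cfsg.Agent.Nodes.Bruhat Cfsg.Agent.Nodes Cfsg.Agent.MK.G Cfsg.Agent.ODD.QB
  Cfsg.Agent.H383.Cube Cfsg.Agent.Nodes.NormalForm
open Cfsg.Agent.TitsThree.Siegel Cfsg.Agent.TitsThree.WittFrame Cfsg.Agent.TitsThree.WittWeyl
open Cfsg.Agent.Nodes.WittRoot (XG ZG PG PG_self PG_ne XG_swap)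
open Cfsg.Agent.Nodes.TypeC (wt ng wt_ng)

section witt

variable {F : Type} [Field F] {V : Type} [AddCommGroup V] [Module F V] {H : HForm F V} {r : ℕ} (Fr : Frame H (Fin r))

theorem card_ZG (a : Fin r × Bool) : Nat.card (ZG Fr a) = Nat.card Fr.Adm := by
  symm
  refine Nat.card_congr (Equiv.ofBijective (fun t : Fr.Adm => (⟨Fr.Z a t, t, rfl⟩ : ZG Fr a)) ⟨?_, ?_⟩)
  · intro q q' e0
    have e : Fr.Z a q = Fr.Z a q' := congrArg Subtype.val e0
    have e1 := Z_apply_neg Fr a q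
    rw [e, Z_apply_neg Fr a q', add_assoc, add_assoc] at e1
    have e2 := add_left_cancel e1
    have e3 := congrArg (fun v => H.h (Fr.b (neg a)) v) e2
    simp only [H.add_right, H.smul_right, Fr.hb_neg_self, Fr.h0 _ _ (Fr.ok_mem q.ok), Fr.h0 _ _ (Fr.ok_mem q'.ok),
      mul_zero, zero_add] at e3
    have h0 := Fr.η_ne a
    have e5 : q'.c * Fr.η a = q.c * Fr.η a := H.σ.injective (mul_right_cancel₀ h0 e3)
    rw [e5] at e2
    exact Frame.Adm.ext (smul_right_injective _ h0 (add_right_cancel e2)).symm (mul_right_cancel₀ h0 e5).symm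
  · rintro ⟨_, t, rfl⟩
    exact ⟨t, rfl⟩

/-- a sign -/
def sv (s : Bool) (x : Fin r × Bool) : Fin r × Bool := if s then x else ng x

theorem sv_fst (s : Bool) (x : Fin r × Bool) : (sv s x).1 = x.1 := by cases s <;> rfl

/-- the root groups of the frame -/
def GV (s : Bool) (i : Fin r) : Subgroup (V ≃ₗ[F] V) := PG Fr (sv s (i, true)) (sv s (f2 i))

theorem GV_X (s : Bool) {i : Fin r} (hi : pn i ≠ i) : GV Fr s i = XG Fr (sv s (i, true)) (sv s (f2 i)) :=
  PG_ne Fr (by rw [sv_fst, sv_fst]; exact hi.symm)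

theorem GV_Z (s : Bool) {i : Fin r} (hi : pn i = i) : GV Fr s i = ZG Fr (sv s (i, true)) := by
  rw [GV, f2_self hi, PG_self]

variable (hσ : ∀ x, H.σ x = x) (hε : H.ε = 1)

include hσ hε

theorem comm_same {a b : Fin r × Bool} (h : a.1 ≠ b.1) : ∀ u ∈ XG Fr a b, ∀ v ∈ XG Fr a (ng b), Commute u v := by
  rintro _ ⟨s, rfl⟩ _ ⟨t, rfl⟩
  have h1 := Fr.X_mul_X_same h s t
  rwa [show Frame.Adm.tr (H.σ s * t * (Fr.η (neg b))⁻¹) = (1 : Fr.Adm) from
    Frame.Adm.ext rfl (by rw [Frame.Adm.tr_c, hε, hσ (_ * _), inv_one, one_mul, sub_self]; rfl), Fr.Z_one, one_mul] at h1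

theorem gv_comm {s t : Bool} {i j : Fin r} (h : i ≠ j ∨ s = t) : ∀ u ∈ GV Fr s i, ∀ v ∈ GV Fr t j, Commute u v := by
  have h0 : ∀ {s t : Bool} {x y : Fin r × Bool}, x.1 ≠ y.1 → sv s x ≠ neg (sv t y) := fun {s t x y} h1 h2 =>
    h1 ((sv_fst s x).symm.trans ((congrArg Prod.fst h2).trans (sv_fst t y)))
  have hZ : ∀ {s t : Bool} {i j : Fin r}, pn i = i → pn j ≠ j → ∀ u ∈ GV Fr s i, ∀ v ∈ GV Fr t j, Commute u v := by
    intro s t i j hi hj
    rw [GV_Z Fr s hi, GV_X Fr t hj]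
    rintro _ ⟨q, rfl⟩ _ ⟨x, rfl⟩
    have h1 : j ≠ i := fun h => hj (h ▸ hi)
    exact Fr.commute_ZX (h0 h1) (h0 fun h => h1 (by rw [← pn_pn j, show pn j = i from h, hi])) _ _
  by_cases hij : i = j
  · subst hij
    obtain rfl := h.resolve_left fun h => h rfl
    by_cases hi : pn i = i
    · rw [GV_Z Fr s hi]
      rintro _ ⟨q, rfl⟩ _ ⟨x, rfl⟩
      rw [Commute, SemiconjBy, ← Fr.Z_mul, ← Fr.Z_mul]
      congr 1
      exact Frame.Adm.ext (add_comm _ _) (by
        rw [Frame.Adm.mul_c, Frame.Adm.mul_c, H.swap q.w, hσ, hε, one_mul, add_comm])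
    · rw [GV_X Fr s hi]
      rintro _ ⟨q, rfl⟩ _ ⟨x, rfl⟩
      rw [Commute, SemiconjBy, ← Fr.X_add, ← Fr.X_add, add_comm]
  by_cases hi : pn i = i
  · exact hZ hi fun hj => hij (pn_uniq hi hj)
  by_cases hj : pn j = j
  · exact fun u hu v hv => (hZ hj hi v hv u hu).symm
  rw [GV_X Fr s hi, GV_X Fr t hj]
  by_cases h1 : pn i = j
  · subst h1
    have h2 : (sv s (i, true)).1 ≠ (sv s (f2 i)).1 := by rw [sv_fst, sv_fst]; exact Ne.symm hi
    have h3 : (sv t (pn i, true) = ng (sv s (f2 i)) ∧ sv t (f2 (pn i)) = sv s (i, true)) ∨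
        (sv t (pn i, true) = sv s (f2 i) ∧ sv t (f2 (pn i)) = ng (sv s (i, true))) := by
      have h4 := pn_par hi
      by_cases h5 : (i : ℕ) % 2 = 0 <;> cases s <;> cases t <;> simp [sv, f2, ng, pn_pn, h4, h5]
    rcases h3 with ⟨h3, h4⟩ | ⟨h3, h4⟩
    · rw [h3, h4, XG_swap Fr (a := ng _) h2.symm]
      exact comm_same Fr hσ hε h2
    · rw [h3, h4, XG_swap Fr h2]
      exact comm_same Fr hσ hε h2.symm
  · rintro _ ⟨q, rfl⟩ _ ⟨x, rfl⟩
    exact Fr.commute_XX (h0 (Ne.symm hij)) (h0 (Ne.symm h1)) (h0 fun h => h1 (by rw [← show pn j = i from h, pn_pn]))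
      (h0 fun h => hij (by rw [← pn_pn i, ← show pn j = pn i from h, pn_pn])) _ _

end witt

theorem comm_sup {G : Type} [Group G] {A B C : Subgroup G} (h1 : ∀ a ∈ A, ∀ c ∈ C, Commute a c)
    (h2 : ∀ a ∈ B, ∀ c ∈ C, Commute a c) : ∀ c ∈ C, ∀ a ∈ A ⊔ B, Commute c a := fun c hc _ ha =>
  (Subgroup.mem_centralizer_singleton_iff.1 ((sup_le (fun a ha => Subgroup.mem_centralizer_singleton_iff.2 (h1 a ha c hc))
    (fun a ha => Subgroup.mem_centralizer_singleton_iff.2 (h2 a ha c hc)) : A ⊔ B ≤ Subgroup.centralizer {c}) ha)).symm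

section gen

variable {I W Y ι : Type} [Fintype I] [DecidableEq I] [Group W] [Finite W] [Group Y] [Finite Y] [Fintype ι]
  {M : CoxeterMatrix I} {cs : CoxeterSystem M W} {A : I → I → ℤ} {h : IsCartan M A} {p : ℕ} {T : Subgroup Y}
  {n : I → Y} {X : (I → ℤ) → Subgroup Y} {β : ι → I → ℤ} (R : RGD cs h p T n X)

theorem f1_of (hp : p.Prime) (hp2 : p ≠ 2) (hG : GG cs h T X = ⊤) (hr : ∀ a, IsRoot cs h (β a))
    {G : Bool → ι → Subgroup Y} (h1 : ∀ a, X (β a) = G true a) (h2 : ∀ a, X (-β a) = G false a)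
    (hc : ∀ s t a b, a ≠ b ∨ s = t → ∀ u ∈ G s a, ∀ v ∈ G t b, Commute u v) : F1 R β := by
  refine f1_of_LC hp hp2 hG hr (fun a b hab => ?_) fun a => by rw [h1]; exact hc _ _ a a (Or.inr rfl)
  rw [ClosedExc.Frame.LC, FreeTorus.LL, FreeTorus.LL, h1, h1, h2, h2]
  exact comm_sup (comm_sup (hc _ _ _ _ (Or.inl hab)) (hc _ _ _ _ (Or.inl hab)))
    (comm_sup (hc _ _ _ _ (Or.inl hab)) (hc _ _ _ _ (Or.inl hab)))

include R in
theorem hord_of [Fintype W] (hp : p.Prime) (hp2 : p ≠ 2) (hG : GG cs h T X = ⊤) {k P : ℕ}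
    (H : Ed ((∑ w : W, Nat.card ↥(RGD.Sup X (NW cs h w))) * 2 ^ k) (Nat.card W * P)) (j : ℕ) (hj : 2 ^ j ∣ Nat.card Y) :
    2 ^ (j + k) ∣ Nat.card T * Nat.card W * P := by
  rw [card_eq R hG, H35.Poin.card_B' R] at hj
  refine Ed.pow_dvd (((Ed.of_odd (odd_U R hp hp2) 1).mul ((Ed.rfl' (Nat.card T)).mul H)).congr rfl (by ring)) ?_
  rw [pow_add]
  exact (mul_dvd_mul hj dvd_rfl).trans (dvd_of_eq (by ring))

end gen

theorem card_ne (r : ℕ) : Fintype.card {i : Fin r // pn i ≠ i} = 2 * (r / 2) := by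
  rw [Fintype.card_subtype_compl, Fintype.card_fin]
  obtain ⟨k, rfl | rfl⟩ := Nat.even_or_odd' r
  · rw [Fintype.card_eq_zero_iff.2 ⟨fun i => by have := pn_eq_iff.1 i.2; omega⟩]
    omega
  · rw [(Fintype.card_eq_one_iff (α := {x : Fin (2 * k + 1) // pn x = x})).2
      ⟨⟨Fin.last _, pn_eq_iff.2 (by simp)⟩, fun i => Subtype.ext (pn_uniq i.2 (pn_eq_iff.2 (by simp)))⟩]
    omega

theorem prod_pn (r x y : ℕ) : ∏ i : Fin r, (if pn i = i then y else x) = x ^ (2 * (r / 2)) * y ^ (r % 2) := by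
  have h1 := card_ne r
  have h2 := Finset.card_filter_add_card_filter_not (s := Finset.univ) fun i : Fin r => pn i = i
  rw [Fintype.card_subtype] at h1
  rw [h1, Finset.card_univ, Fintype.card_fin] at h2
  rw [Finset.prod_ite, Finset.prod_const, Finset.prod_const, h1, mul_comm]
  congr 2
  omega

variable {W Y : Type} [Group W] [Finite W] [Group Y] [Finite Y] [IsSimpleGroup Y] {p : ℕ} {T : Subgroup Y}
  {F : Type} [Field F] [Finite F] {V : Type} [AddCommGroup V] [Module F V] {H : HForm F V} {G0 : Subgroup (V ≃ₗ[F] V)}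
  {φ : G0 →* Y}

theorem comm_map {K L : Subgroup (V ≃ₗ[F] V)} (h : ∀ u ∈ K, ∀ v ∈ L, Commute u v) :
    ∀ u ∈ (K.subgroupOf G0).map φ, ∀ v ∈ (L.subgroupOf G0).map φ, Commute u v := by
  rintro _ ⟨u, hu, rfl⟩ _ ⟨v, hv, rfl⟩
  exact Commute.map (Subtype.ext (h _ hu _ hv).eq) φ

variable (hp : p.Prime) (hp2 : p ≠ 2) (hF : Odd (Nat.card F)) (hσ : ∀ x, H.σ x = x) (hε : H.ε = 1)
  (hs : ∀ Q : Sylow 2 Y, Subgroup.normalizer ((Q : Subgroup Y) : Set Y) ≤ Q)

include hp hp2 hF hσ hε hs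

section C

open Cfsg.Agent.Nodes.TypeC Cfsg.Agent.Nodes.WittRoot

/-- **types `B_r`, `²D_{r+1}`** -/
theorem gd_C {r : ℕ} (hr : 3 ≤ r) {Fr : Frame H (Fin r)} {cs : CoxeterSystem (CoxeterMatrix.B r) W} {n : Fin r → Y}
    (R : RGD cs (isCartan r) p T n fun x => ((rg Fr x).subgroupOf G0).map φ)
    (hG : GG cs (isCartan r) T (fun x => ((rg Fr x).subgroupOf G0).map φ) = ⊤)
    (hX : ∀ x, IsRoot cs (isCartan r) x → Nat.card (((rg Fr x).subgroupOf G0).map φ) = Nat.card (rg Fr x))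
    {e : ℕ} (he : Nat.card Fr.Adm = Nat.card F ^ e) : ∃ β : Fin r → Fin r → ℤ, GD R β ∧ Au R β ⊤ := by
  have : Fintype W := Fintype.ofFinite W
  obtain ⟨β, hβ⟩ := exists_C cs
  have h1 : ∀ i, rg Fr (β i) = GV Fr true i := fun i => rg_eq Fr (ok_fr i) (hβ i).2
  have h2 : ∀ i, rg Fr (-β i) = GV Fr false i := fun i =>
    rg_eq Fr (ok_fr i).ng (by rw [ee_neg, (hβ i).2, fr, neg_add, ← wt_ng, ← wt_ng]; rfl)
  have hc := fun s t a b h => comm_map (φ := φ) (gv_comm Fr hσ hε (s := s) (t := t) (i := a) (j := b) h)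
  have F1 := f1_of R hp hp2 hG (fun i => (hβ i).1) (fun i => by simp only [h1]) (fun i => by simp only [h2]) hc
  have hW := weyl_C F1 fun i => (hβ i).2
  refine ⟨β, F1.gd hW (syl_of_self (F1.odd_MM hW (hord_of R hp hp2 hG ?_)) hs)
    (F1.ne_of_two (a := ⟨0, by omega⟩) (b := ⟨1, by omega⟩) (by simp)),
    au_of_rigid F1.root fun σ => H461.CoxB.perm_eq_one hr⟩
  rw [H461.CoxB.sum_B cs (Nat.card F) (Nat.card F ^ e) _ (card_one R) fun w i hl => ?_, Nat.card_eq_fintype_card (α := W),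
    H461.CoxB.card_W cs, Fintype.card_fin]
  · refine (ed_B hF e r).congr rfl ?_
    rw [← prod_pn]
    refine congrArg _ (Finset.prod_congr rfl fun i _ => ?_)
    rw [zc_eq (by simp only [h1]; exact hc _ _ i i (Or.inr rfl)), hX _ (hβ i).1, h1]
    split_ifs with hi
    · rw [GV_Z Fr _ hi, card_ZG, he]
    · rw [GV_X Fr _ hi, CardWitt.card_XG Fr (by rw [sv_fst, sv_fst]; exact Ne.symm hi)]
  · rw [card_step R w i hl, hX _ (isRoot_sr _ _ i), WittRGD.rg_sr, nx]
    split_ifs with hi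
    · have h3 : ((i, true) : Fin r × Bool).1 ≠ ((⟨i + 1, hi⟩, false) : Fin r × Bool).1 := by simp [Fin.ext_iff]
      rw [PG_ne Fr h3, CardWitt.card_XG Fr h3]
    · rw [PG_self, card_ZG, he]

end C

section D

open Cfsg.Agent.Nodes.TypeD Cfsg.Agent.Nodes.WittRGDD

/-- **type `D_{r+2}`** -/
theorem gd_D {r : ℕ} {Fr : Frame H (Fin (r + 2))} {cs : CoxeterSystem (M r) W} {n : Fin (r + 2) → Y}
    (R : RGD cs (isCartan r) p T n fun x => ((rg Fr x).subgroupOf G0).map φ)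
    (hG : GG cs (isCartan r) T (fun x => ((rg Fr x).subgroupOf G0).map φ) = ⊤)
    (hX : ∀ x, IsRoot cs (isCartan r) x → Nat.card (((rg Fr x).subgroupOf G0).map φ) = Nat.card (rg Fr x)) :
    ∃ β : {i : Fin (r + 2) // pn i ≠ i} → Fin (r + 2) → ℤ, GD R β ∧ Au R β ⊤ := by
  have : Fintype W := Fintype.ofFinite W
  obtain ⟨β, hβ⟩ := exists_D cs
  have h1 : ∀ i, rg Fr (β i) = GV Fr true i.1 := fun i => by
    rw [GV_X Fr _ i.2]
    exact rg_eq Fr i.2.symm (hβ i).2
  have h2 : ∀ i, rg Fr (-β i) = GV Fr false i.1 := fun i => by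
    rw [GV_X Fr _ i.2]
    exact rg_eq Fr i.2.symm (by rw [ee_neg, (hβ i).2, fr, neg_add, ← wt_ng, ← wt_ng]; rfl)
  have hc := fun s t (a b : {i : Fin (r + 2) // pn i ≠ i}) (h : a ≠ b ∨ s = t) =>
    comm_map (φ := φ) (gv_comm Fr hσ hε (s := s) (t := t) (h.imp_left Subtype.coe_ne_coe.2))
  have F1 := f1_of R hp hp2 hG (fun i => (hβ i).1) (fun i => by simp only [h1]) (fun i => by simp only [h2]) hc
  have hA := all_D (cs := cs) fun i => (hβ i).2
  have hW := F1.weyl_of_all hA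
  have h3 : ∀ x, IsRoot cs (isCartan r) x → Nat.card (((rg Fr x).subgroupOf G0).map φ) = Nat.card F := fun x hx => by
    obtain ⟨a, b, h, e⟩ := exists_of_isRoot cs hx
    rw [hX x hx, rg_eq Fr h e, CardWitt.card_XG Fr h]
  refine ⟨β, F1.gd hW (syl_of_self (F1.odd_MM hW (hord_of R hp hp2 hG ?_)) hs)
    (F1.ne_of_two (a := ⟨0, by simp [pn_eq_iff]⟩) (b := ⟨1, by simp [pn_eq_iff]⟩) (by simp)), F1.au_of_all hA⟩
  have h4 := H475.CoxD.sum_D cs 1
  simp only [one_pow, Finset.sum_const, smul_eq_mul, mul_one, Finset.card_univ] at h4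
  rw [Finset.sum_congr rfl fun w _ => card_eq_pow R (fun i => h3 _ (isRoot_sr _ _ i)) w, H475.CoxD.sum_D,
    Nat.card_eq_fintype_card (α := W), h4, Finset.prod_congr rfl fun i _ => by
      rw [zc_eq (by simp only [h1]; exact hc _ _ i i (Or.inr rfl)), h3 _ (hβ i).1],
    Finset.prod_const, Finset.card_univ, card_ne]
  exact ed_D hF (r + 1)

end D

end Cfsg.Agent.MK.GO

private theorem dce_245b4234935d : _root_.True := by
  try have : _root_.True := by simp only [_root_.Cfsg.Agent.MK.GO.GV.eq_1]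
  try have : _root_.True := by simp only [_root_.Cfsg.Agent.Nodes.FreeTorus.LL.eq_1]
  try have : _root_.True := by simp only [_root_.Cfsg.Agent.ClosedExc.Frame.LC.eq_1]
  try have : _root_.True := by simp only [_root_.Cfsg.Agent.MK.GO.sv.eq_1]
  exact _root_.True.intro
end

-- part: MK/GO/Rows
section
set_option linter.all false
open scoped Cfsg.Agent.FastGrp

/-!
# MK: the rows `podd plus minus`, `q` odd, from the generic theorem (helper19)

`row_podd` (the triple cover of `Ω₇(3)` is a hypothesis), `row_plus`, `row_minus`.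
-/

set_option autoImplicit false
set_option linter.unusedSectionVars false

namespace Cfsg.Agent.MK.GO

open Cfsg Cfsg.Agent.Nodes Cfsg.Agent.Nodes.BNOf Cfsg.Agent.H69.OQ Cfsg.Agent.Nodes.WittAll Cfsg.Agent.MK.G
  Cfsg.Agent.ODD Cfsg.Agent.ODD.PW Cfsg.Agent.ODD.Cv
open Cfsg.Agent.TitsThree Cfsg.Agent.TitsThree.Siegel Cfsg.Agent.TitsThree.WittFrame Cfsg.Agent.TitsThree.FrameCN
open Cfsg.Agent.Nodes.WittRoot (Amb)

attribute [local instance] finB finD

/-- self-normalising Sylow `2`-subgroups -/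
def SN (K : Type) [Group K] : Prop := ∀ Q : Sylow 2 K, Subgroup.normalizer ((Q : Subgroup K) : Set K) ≤ Q

theorem ce_iso {X S : Type} [Group X] [Finite X] [Group S] [Finite S] (e : X ≃* S) (p : ℕ) : CE p e.toMonoidHom := by
  have h : e.toMonoidHom.ker = ⊥ := (MonoidHom.ker_eq_bot_iff _).2 e.injective
  exact ⟨e.surjective, h ▸ bot_le, by rw [h, Subgroup.card_bot]; exact Nat.coprime_one_left p,
    by rw [h, Subgroup.card_bot]; exact odd_one⟩

theorem gd_model (hm : MainC) {F : Type} [Field F] [Fintype F] {V : Type} [AddCommGroup V] [Module F V] [Finite V]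
    {H : HForm F V} {n : ℕ} {Fr : Frame H (Fin (n + 2))} {K : Type} [Group K] [Finite K] (M : Model Fr K)
    (hA : Amb Fr M.I) (hn : 3 ≤ n + 2) (hF : Odd (Fintype.card F)) (hσ : ∀ x, H.σ x = x) (hε : H.ε = 1) {p : ℕ}
    [Fact p.Prime] [CharP F p] (hp2 : p ≠ 2) {p0 : Fr.Adm} (hp0 : p0.c ≠ 0) (o : PW.Out (PW.rgdC M hA p hp0)) {e : ℕ}
    (he : Nat.card Fr.Adm = Nat.card F ^ e) (hs : SN K)
    {X : Type} [Group X] [Finite X] [IsSimpleGroup X] (f : X ≃* K) {Γ : Subgroup (MulAut X)} (s : Sit X Γ) :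
    Gd X Γ := by
  have := f.symm.isSimpleGroup
  have : Finite (V ≃ₗ[F] V) := Finite.of_injective (fun g : V ≃ₗ[F] V => (g : V → V)) DFunLike.coe_injective
  obtain ⟨_, _, _, C⟩ := o.cor
  obtain ⟨β, D, hAu⟩ := gd_C Fact.out hp2 (by rwa [Nat.card_eq_fintype_card]) hσ hε hs hn (PW.rgdC M hA p hp0) (topC M)
    (fun x hx => (CardSup.card_map_X (RGDLib.rgd_restrict (WittAll.rgdC (AmbT.of_amb hA p) hp0 _) M.I
      (fun x _ => hA.rg_le x) fun i => WittRGD.nn_mem hA p0 i) M.φ (WittModel.ker_le_center M hA) hx).trans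
        (Nat.card_congr (Subgroup.subgroupOfEquivOfLe (hA.rg_le x)).toEquiv)) he
  exact hm _ β D hAu C.comm (nofix_orth M _ hA hn (two_ne_of_odd hF) hσ hε) X _ (ce_iso f p) Γ s

open Cfsg.Agent.Nodes.WittU Cfsg.Agent.Nodes.WittInst Cfsg.Agent.TitsThree.SiegelGen Cfsg.Agent.TitsThree.WBridge
open Cfsg.Agent.LieClassical Cfsg.Agent.LieClassical.OrthCore Cfsg.Agent.LieClassical.OrthTrans
open Cfsg.Agent.LieClassical.OrthSimple Cfsg.Agent.LieClassical.OrthFinite Cfsg.Agent.LieClassical.OrthForms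
open Cfsg.Agent.TitsThree.KSideO Cfsg.Agent.TitsThree.StdData

theorem card_adm {κ : Type} [Fintype κ] [DecidableEq κ] {F : Type} [Field F] {Q : QuadraticForm F (κ → F)} {m : ℕ}
    (W : WFrame (PO Q) m) : Nat.card (toFrame W).Adm = Nat.card W.V0 :=
  Nat.card_congr ⟨fun q => ⟨q.w, q.ok.1⟩, fun w => ⟨w, -Q w, w.2, rfl⟩, fun q => Frame.Adm.ext rfl q.ok.2.symm,
    fun _ => rfl⟩

variable {F : Type} [Field F] [Fintype F]

theorem adm_odd (m : ℕ) : Nat.card (toFrame (wodd m F)).Adm = Nat.card F ^ 1 := by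
  rw [card_adm, show Nat.card F ^ 1 = Nat.card (Unit → F) by simp]
  exact Nat.card_congr ⟨fun w => w.1 ∘ Sum.inl, fun u => ⟨Sum.elim u 0, fun _ => rfl⟩,
    fun w => Subtype.ext (funext fun j => by cases j; exacts [rfl, (w.2 _).symm]), fun _ => rfl⟩

theorem adm_minus (m : ℕ) {a b : F} (hab : ∀ z₁ z₂ : F, z₁ ^ 2 + a * z₁ * z₂ + b * z₂ ^ 2 = 0 → z₁ = 0 ∧ z₂ = 0) :
    Nat.card (toFrame (wminus m F a b hab)).Adm = Nat.card F ^ 2 := by
  rw [card_adm, show Nat.card F ^ 2 = Nat.card (Fin 2 → F) by simp]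
  exact Nat.card_congr ⟨fun w => w.1 ∘ Sum.inr, fun u => ⟨Sum.elim 0 u, fun _ => rfl⟩,
    fun w => Subtype.ext (funext fun j => by cases j; exacts [(w.2 _).symm, rfl]), fun _ => rfl⟩

variable (hm : MainC)

include hm

theorem gd_podd {X : Type} [Group X] [Finite X] [IsSimpleGroup X] (h : IsPOmegaOdd X) {Γ : Subgroup (MulAut X)}
    (s : Sit X Γ) : Gd X Γ := by
  obtain ⟨F, _, _, m, h3, hF, he⟩ := h
  have hs := H803.RowOmega.self_odd hF m h3
  obtain ⟨n, rfl⟩ : ∃ n, m = n + 2 := ⟨m - 2, by omega⟩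
  obtain ⟨p, _, _, hp2, h2⟩ := exists_char F hF
  replace he : Nonempty (X ≃* POmega F (quadFormOdd (n + 2) F)) ∧ SN (POmega F (quadFormOdd (n + 2) F)) := ⟨he, hs⟩
  rw [← coe_oddForm] at he
  obtain ⟨⟨e⟩, hs⟩ := he
  have := Finite.of_equiv _ e.toEquiv
  exact gd_model hm (model (wodd (n + 2) F) (good_odd n h2) ⟨_, hp_odd _⟩) (amb_O_of_two _ h2) h3 hF (fun _ => rfl) rfl
    hp2 (hp_odd _) (out_podd n p h2) (adm_odd _) hs e s

/-- **`PΩ_{2m+1}(q)`** -/
theorem row_podd (hs : StepSm)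
    (h3 : ∀ (F : Type) [Field F] [Fintype F], Fintype.card F = 3 → S.SmC (POmega F (quadFormOdd 3 F))) :
    Row fun S _ => IsPOmegaOdd S := by
  intro X _ _ c Γ s
  rcases podd_cases c with ⟨_, h⟩ | c'
  · exact gd_podd hm h s
  obtain ⟨F, _, _, hF, ⟨e⟩⟩ := c'.fam
  have h1 : Nat.card (Subgroup.center X) ∣ 3 :=
    (Nat.coprime_two_right.2 c.odd).dvd_of_dvd_mul_left (card_center_dvd c ((mb_o73 hF).congr e))
  rcases (Nat.dvd_prime Nat.prime_three).1 h1 with h2 | h2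
  · have hZ := Subgroup.card_eq_one.1 h2
    have := simple_of c hZ
    exact gd_podd hm (iso_podd _ _ (eqv hZ) c.fam) s
  · exact S.gd_of_card hs s e h2 (h3 F hF)

/-- **`PΩ⁻_{2m}(q)`** -/
theorem row_minus : Row MinusO := by
  intro X _ _ c Γ s
  obtain ⟨_, F, _, _, m, a, b, hF, h4, hab, he⟩ := plain_minus X c
  have hs := H803.RowOmega.self_minus hF m h4 a b hab
  obtain ⟨n, rfl⟩ : ∃ n, m = n + 2 + 1 := ⟨m - 3, by omega⟩
  obtain ⟨p, _, _, hp2, h2⟩ := exists_char F hF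
  replace he : Nonempty (X ≃* POmega F (quadFormMinus (n + 2) F a b)) ∧ SN (POmega F (quadFormMinus (n + 2) F a b)) :=
    ⟨he, hs⟩
  rw [← coe_minusForm] at he
  obtain ⟨⟨e⟩, hs⟩ := he
  have := Finite.of_equiv _ e.toEquiv
  exact gd_model hm (model (wminus (n + 2) F a b hab) (good_minus hab n) ⟨_, hp_minus hab _⟩) (amb_O_of_two _ h2)
    (by omega) hF (fun _ => rfl) rfl hp2 (hp_minus hab _) (out_minus hab hF n p) (adm_minus _ hab) hs e s

/-- **`PΩ⁺_{2m}(q)`** -/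
theorem row_plus : Row PlusO := by
  intro X _ _ c Γ s
  obtain ⟨_, F, _, _, m, hF, h4, he⟩ := plain_plus X c
  have hs := H803.RowOmega.self_plus hF m h4
  obtain ⟨n, rfl⟩ : ∃ n, m = n + 3 := ⟨m - 3, by omega⟩
  obtain ⟨p, _, _, hp2, h2⟩ := exists_char F hF
  replace he : Nonempty (X ≃* POmega F (quadFormPlus (n + 3) F)) ∧ SN (POmega F (quadFormPlus (n + 3) F)) := ⟨he, hs⟩
  rw [← coe_plusForm] at he
  obtain ⟨⟨e⟩, hs⟩ := he
  have := Finite.of_equiv _ e.toEquiv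
  have := e.symm.isSimpleGroup
  have : Finite ((Fin (n + 3) ⊕ Fin (n + 3) → F) ≃ₗ[F] (Fin (n + 3) ⊕ Fin (n + 3) → F)) :=
    Finite.of_injective (fun g => (g : _ → _)) DFunLike.coe_injective
  obtain ⟨_, _, _, C⟩ := (out_plus (F := F) n p).cor
  obtain ⟨β, D, hAu⟩ := gd_D Fact.out hp2 (by rwa [Nat.card_eq_fintype_card]) (fun _ => rfl) rfl hs (rgd_plus n p)
    (top_plus n) fun x hx => (CardSup.card_map_X (RGDLib.rgd_restrict (rgdD (amb_plus _) (adm_plus _) (p := p) _) _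
      (fun x _ => rgD_le (wplus (n + 3) F) (amb_plus _) x) fun i => WittRGDD.nn_mem (amb_plus _) i) _
        (ker_toPOmega _) hx).trans
      (Nat.card_congr (Subgroup.subgroupOfEquivOfLe (rgD_le (wplus (n + 3) F) (amb_plus _) x)).toEquiv)
  exact hm _ β D hAu C.comm (nofix_plus n p h2) X _ (ce_iso e p) Γ s

end Cfsg.Agent.MK.GO
end

-- part: MK/Sp2/BMf
section
prune_inst 0x14302d045d62020000180092b30060603400009200630001f1640f02034e9168a943a7015c300d1a989aa640080d0060021001f0420000000a00000000050120982852829308a10cb60009803087180c00000000000000000000000000041004000000000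
set_option linter.all false
open scoped Cfsg.Agent.FastGrp

/-!
# MK, `Sp_{2n}(2)`: the multiplicities in `Γ + Gc` (helper43)

`Ex` : two characters of `U` extend to the parabolic subgroup of the long node;  `mf : MF cs h X a b ψ η`.
-/

set_option autoImplicit false
set_option maxHeartbeats 400000
set_option linter.unusedSectionVars false

open scoped ComplexConjugate

namespace Cfsg.Agent.MK.Sp2.B

open CoxeterSystem Cfsg Cfsg.Agent.ChevalleyStructure.CoxeterGeom Cfsg.Agent.Tits.Roots Cfsg.Agent.Tits.Core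
  Cfsg.Agent.Nodes.Reps Cfsg.Agent.Nodes.BNOf Cfsg.Agent.Nodes.StabComb Cfsg.Agent.Nodes.Bruhat Cfsg.Agent.Nodes.LeviDec
  Cfsg.Agent.Nodes.TypeC Cfsg.Agent.Characters Cfsg.Agent.Characters.Core

variable {k : ℕ} {W Y : Type} [Group W] [Finite W] [Group Y] [Fintype Y]
  {cs : CoxeterSystem (CoxeterMatrix.B (k + 2)) W} {n : Fin (k + 2) → Y} {X : (Fin (k + 2) → ℤ) → Subgroup Y}
  {ψ : Fin (k + 2) → Y → ℂ} {η β σ l l' : Y → ℂ} {y c e y' c' e' : ℕ}

/-- the character with the support `SR k 1 0 0` -/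
noncomputable def lz (ψ : Fin (k + 2) → Y → ℂ) (η : Y → ℂ) (u : Y) : ℂ :=
  η u * ∏ i ∈ (Finset.univ.erase (na k)).erase (nb k), ψ i u

variable (cs n X ψ η β σ) in
/-- the extensions to the parabolic subgroup -/
structure Ex (Q : Submonoid Y) : Prop where
  le : ∀ u ∈ UU cs (isCartan (k + 2)) X, u ∈ Q
  mem : n (na k) ∈ Q
  bmul : ∀ u ∈ Q, ∀ v ∈ Q, β (u * v) = β u * β v
  smul : ∀ u ∈ Q, ∀ v ∈ Q, σ (u * v) = σ u * σ v
  bU : ∀ u ∈ UU cs (isCartan (k + 2)) X, β u = lz ψ η u * ψ (nb k) u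
  sU : ∀ u ∈ UU cs (isCartan (k + 2)) X, σ u = ψ (na k) u

theorem RP.eq_sr {x : Fin (k + 2) → ℤ} {p q : ℕ} (r : RP x p q) (hp : p < q) (hq : q < 2 * k + 4) (i : Fin (k + 2)) :
    x = sr i ↔ (p = i ∧ q = i + 1) ∨ (p + (i + 1) = 2 * k + 3 ∧ q + i = 2 * k + 3) :=
  r.eq_iff (rp_sr i) hp hq (by omega) (by omega)

section Sg

variable (D : Dat cs (isCartan (k + 2)) X (na k) (nb k) ψ η)
include D

theorem sg_gam : Sg cs (isCartan (k + 2)) X (SR k 0 1 1) (phB ψ) := sg_prod D.psi Finset.univ fun x hx => by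
  obtain ⟨p, q, h1, h2, r⟩ := exists_pos_pq hx.1 hx.2
  rw [r.mem h1 h2, spG]
  simp only [r.eq_sr h1 h2, Finset.mem_univ, true_and]
  refine ⟨fun h3 => ?_, fun ⟨i, h3⟩ => by omega⟩
  by_cases h4 : p < k + 2
  · exact ⟨⟨p, h4⟩, Or.inl ⟨rfl, h3⟩⟩
  · exact ⟨⟨2 * k + 2 - p, by omega⟩, Or.inr (by simp only; omega)⟩

theorem sg_00 : Sg cs (isCartan (k + 2)) X (SR k 1 0 0) (lz ψ η) := by
  refine sg_times D.eta (sg_prod (S := SR k 0 0 0) D.psi _ fun x hx => ?_) fun x hx => ?_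
  · obtain ⟨p, q, h1, h2, r⟩ := exists_pos_pq hx.1 hx.2
    rw [r.mem h1 h2]
    simp only [r.eq_sr h1 h2, Finset.mem_erase, Finset.mem_univ, and_true, ne_eq, Fin.ext_iff, Fin.val_last,
      Fin.val_castSucc]
    refine ⟨fun h3 => ?_, fun ⟨i, h3⟩ => .inl (by have := i.2; omega)⟩
    replace h3 : q = p + 1 ∧ (p < k ∨ k + 3 ≤ p) := by
      rcases h3 with h | ⟨h, -⟩ | ⟨h, -⟩ | ⟨h, -⟩
      · exact h
      all_goals cases h
    by_cases h4 : p < k
    · exact ⟨⟨p, by omega⟩, ⟨by simp only; omega, by simp only; omega⟩, .inl ⟨rfl, h3.1⟩⟩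
    · exact ⟨⟨2 * k + 2 - p, by omega⟩, ⟨by simp only; omega, by simp only; omega⟩,
        .inr ⟨by simp only; omega, by simp only; omega⟩⟩
  · obtain ⟨p, q, h1, h2, r⟩ := exists_pos_pq hx.1 hx.2
    rw [r.mem h1 h2, r.mem h1 h2, Set.mem_insert_iff, Set.mem_singleton_iff, r.eq_iff rp_ab h1 h2 (by omega) (by omega),
      r.eq_iff rp_abb h1 h2 (by omega) (by omega)]
    unfold SP
    refine ⟨⟨?_, ?_⟩, ?_⟩
    · rintro (h | ⟨-, ⟨h, h' | h'⟩ | h⟩ | ⟨h, -⟩ | ⟨h, -⟩)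
      · exact .inr (.inl h)
      · exact .inl (.inl (.inl ⟨h, h'⟩))
      · exact .inl (.inr (.inl ⟨h, h'⟩))
      · exact .inl (.inl (.inr ⟨by omega, by omega⟩))
      all_goals cases h
    · rintro (((h | h) | h | h) | h | ⟨h, -⟩ | ⟨h, -⟩ | ⟨h, -⟩)
      · exact .inr (.inl ⟨rfl, .inl ⟨h.1, .inl h.2⟩⟩)
      · exact .inr (.inl ⟨rfl, .inr ⟨by omega, by omega⟩⟩)
      · exact .inr (.inl ⟨rfl, .inl ⟨h.1, .inr h.2⟩⟩)
      · exact .inr (.inl ⟨rfl, .inl ⟨by omega, .inr (by omega)⟩⟩)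
      · exact .inl h
      all_goals cases h
    · rintro ⟨h, h' | ⟨h', -⟩ | ⟨h', -⟩ | ⟨h', -⟩⟩
      · omega
      all_goals cases h'

theorem sg_a (s : Sg cs (isCartan (k + 2)) X (SR k y c 0) l) :
    Sg cs (isCartan (k + 2)) X (SR k y c 1) fun u => l u * ψ (na k) u := sg_times s (D.psi _) fun x hx => by
  obtain ⟨p, q, h1, h2, r⟩ := exists_pos_pq hx.1 hx.2
  rw [r.mem h1 h2, r.mem h1 h2, Set.mem_singleton_iff, r.eq_iff rp_a h1 h2 (by omega) (by omega)]
  unfold SP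
  refine ⟨⟨?_, ?_⟩, ?_⟩
  · rintro (h | h | h | ⟨-, h⟩)
    · exact .inl (.inl h)
    · exact .inl (.inr (.inl h))
    · exact .inl (.inr (.inr (.inl h)))
    · exact .inr (.inl h)
  · rintro ((h | h | h | ⟨h, -⟩) | h | h)
    · exact .inl h
    · exact .inr (.inl h)
    · exact .inr (.inr (.inl h))
    · cases h
    · exact .inr (.inr (.inr ⟨rfl, h⟩))
    · exact .inr (.inr (.inr ⟨rfl, by omega, by omega⟩))
  · rintro ⟨h, h'⟩
    replace h' : p = k + 1 ∧ q = k + 2 := h'.elim id fun h' => ⟨by omega, by omega⟩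
    rcases h with h | ⟨-, h⟩ | ⟨-, h⟩ | ⟨h, -⟩ <;> omega

theorem sg_10 : Sg cs (isCartan (k + 2)) X (SR k 1 1 0) fun u => lz ψ η u * ψ (nb k) u :=
  sg_times (sg_00 D) (D.psi _) fun x hx => by
    obtain ⟨p, q, h1, h2, r⟩ := exists_pos_pq hx.1 hx.2
    rw [r.mem h1 h2, r.mem h1 h2, Set.mem_singleton_iff, r.eq_iff rp_b h1 h2 (by omega) (by omega)]
    unfold SP
    refine ⟨⟨?_, ?_⟩, ?_⟩
    · rintro (h | h | ⟨-, h, h' | h'⟩ | ⟨h, -⟩)
      · exact .inl (.inl h)
      · exact .inl (.inr (.inl h))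
      · exact .inr (.inl ⟨h', by omega⟩)
      · exact .inr (.inr ⟨by omega, by omega⟩)
      · cases h
    · rintro ((h | h | ⟨h, -⟩ | ⟨h, -⟩) | h | h)
      · exact .inl h
      · exact .inr (.inl h)
      · cases h
      · cases h
      · exact .inr (.inr (.inl ⟨rfl, by omega, .inl h.1⟩))
      · exact .inr (.inr (.inl ⟨rfl, by omega, .inr (by omega)⟩))
    · rintro ⟨h | ⟨-, h⟩ | ⟨h, -⟩ | ⟨h, -⟩, h'⟩
      · omega
      · omega
      all_goals cases h

end Sg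

theorem sg_congr {S : Set (Fin (k + 2) → ℤ)} (s : Sg cs (isCartan (k + 2)) X S l)
    (h : ∀ u ∈ UU cs (isCartan (k + 2)) X, l' u = l u) : Sg cs (isCartan (k + 2)) X S l' where
  one := by rw [h 1 (one_mem _), s.one]
  mul u hu v hv := by rw [h u hu, h v hv, h _ (mul_mem hu hv), s.mul u hu v hv]
  neg x hx h1 u hu h2 := by rw [h u (X_le_UU hx.1 hx.2 hu), s.neg x hx h1 u hu h2]
  pos x hx h1 u hu := by rw [h u (X_le_UU hx.1 hx.2 hu), s.pos x hx h1 u hu]

theorem min_iff (w : W) : 0 ≤ rep cs (isCartan (k + 2)) w (sr (na k)) ↔ fw cs w (k + 2) < fw cs w (k + 1) :=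
  (rp_a.act cs w).nonneg ((isRoot_sr cs _ _).act w) (ps_lt _) (ps_lt _) fun e => by
    have := (fw_bj cs w).inj _ _ (by omega) (by omega) e
    omega

variable (R : RGD cs (isCartan (k + 2)) 2 ⊥ n X)
include R

theorem cp_cm (s : Sg cs (isCartan (k + 2)) X (SR k y c e) l) (s' : Sg cs (isCartan (k + 2)) X (SR k y' c' e') l') (w : W) :
    Cp (UU cs (isCartan (k + 2)) X) (UU cs (isCartan (k + 2)) X) l l' (nw R w) ↔ Cm k y c e y' c' e' (fw cs w⁻¹) := by
  rw [cp_iff R s s']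
  have B := fw_bj cs w⁻¹
  constructor
  · intro h p q h1 h2 h3
    obtain ⟨x, hx, r⟩ := exists_rp_root cs (p := p) (q := q) (by omega) h2 h1.ne
    have r' := r.act cs w⁻¹
    rw [← r.mem h1 h2, ← r'.mem h3 (ps_lt _)]
    exact h x hx ((r.nonneg hx (by omega) h2 h1.ne).2 h1) ((r'.nonneg (hx.act _) (ps_lt _) (ps_lt _) h3.ne).2 h3)
  · intro h x hx h0 h4
    obtain ⟨p, q, h1, h2, r⟩ := exists_pos_pq hx h0
    have r' := r.act cs w⁻¹
    have h3 := (r'.nonneg (hx.act _) (ps_lt _) (ps_lt _) fun e => by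
      have := B.inj _ _ h2 (by omega) e
      omega).1 h4
    rw [r.mem h1 h2, r'.mem h3 (ps_lt _)]
    exact h p q h1 h2 h3

theorem cpP {w : W} (hw : 0 ≤ rep cs (isCartan (k + 2)) w⁻¹ (sr (na k))) :
    Cp (PJ cs (isCartan (k + 2)) ⊥ X {na k}) (UU cs (isCartan (k + 2)) X) l l' (nw R w) ↔
      Cp (UU cs (isCartan (k + 2)) X) (UU cs (isCartan (k + 2)) X) l l' (nw R w) :=
  ⟨fun h q hq => h q (U_le_P _ hq), fun h q hq hq' => h q (mem_U_of_P R hw hq hq') hq'⟩

theorem nw_inv_eq {w : W} (h : ∀ p, p < 2 * k + 4 → fw cs w⁻¹ (fw cs w⁻¹ p) = p) : (nw R w)⁻¹ = 1 * nw R w * 1 := by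
  have h1 := sq_of_fw cs h
  rw [mul_inv_eq_one] at h1
  rw [← nw_inv, h1, one_mul, mul_one]

variable (hG : GG cs (isCartan (k + 2)) ⊥ X = ⊤)
include hG

theorem mf_U (s : Sg cs (isCartan (k + 2)) X (SR k 1 0 e) l) (χ : Y → ℂ) (hχ : IsIrrCharacter Y χ) :
    classInner (ii (UU cs (isCartan (k + 2)) X) l) χ = 0 ∨ classInner (ii (UU cs (isCartan (k + 2)) X) l) χ = 1 :=
  mf_sn (sn_of_sg s) (fun g => by
    obtain ⟨w, a, ha, b, hb, rfl⟩ := cov R hG g
    exact ⟨a, ha, _, b, hb, rfl, fun h => ⟨1, one_mem _, nw_inv_eq R (inv_one (fw_bj cs _) ((cp_cm R s s w).1 h))⟩⟩) hχ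

theorem mf_P (s : Sg cs (isCartan (k + 2)) X (SR k 1 1 e) l) (s' : Sn (PJ cs (isCartan (k + 2)) ⊥ X {na k}) l) (χ : Y → ℂ)
    (hχ : IsIrrCharacter Y χ) : classInner (ii (PJ cs (isCartan (k + 2)) ⊥ X {na k}) l) χ = 0 ∨
      classInner (ii (PJ cs (isCartan (k + 2)) ⊥ X {na k}) l) χ = 1 :=
  mf_sn s' (fun g => by
    obtain ⟨w, a, ha, b, hb, rfl⟩ := cov R hG g
    refine ⟨a, U_le_P _ ha, _, b, U_le_P _ hb, rfl, fun h => ?_⟩
    have B := fw_bj cs w⁻¹
    rcases inv_two B ((cp_cm R s s w).1 fun q hq hq' => h q (U_le_P _ hq) (U_le_P _ hq')) with h1 | h1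
    · exact ⟨1, one_mem _, nw_inv_eq R h1⟩
    · have h2 := sq_of_fw cs (w := w⁻¹ * cs.simple (na k)) fun p hp => by
        rw [fw_sw cs _ ((fw_bj cs _).lt p hp), fw_sw cs _ hp]
        exact h1 p hp
      refine ⟨_, n_mem_P R _, ?_⟩
      rw [← nw_inv, ← nw_simple R, ← nw_mul, ← nw_mul]
      congr 1
      have h3 := eq_inv_of_mul_eq_one_left h2
      rw [mul_inv_rev, inv_inv, inv_simple] at h3
      rw [← h3, mul_assoc, simple_mul_simple_self, mul_one]) hχ

theorem inner_UU (s : Sg cs (isCartan (k + 2)) X (SR k y c e) l) (s' : Sg cs (isCartan (k + 2)) X (SR k y' c' e') l') :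
    classInner (ii (UU cs (isCartan (k + 2)) X) l) (ii (UU cs (isCartan (k + 2)) X) l') =
      Nat.card {w : W // Cm k y c e y' c' e' (fw cs w⁻¹)} := by
  rw [inner_cnt (sn_of_sg s) (sn_of_sg s') (nw R) (dis R) (cov R hG),
    Nat.card_congr (Equiv.subtypeEquivRight (cp_cm R s s'))]

theorem inner_PU (s : Sg cs (isCartan (k + 2)) X (SR k y c e) l) (sP : Sn (PJ cs (isCartan (k + 2)) ⊥ X {na k}) l)
    (s' : Sg cs (isCartan (k + 2)) X (SR k y' c' e') l') :
    classInner (ii (PJ cs (isCartan (k + 2)) ⊥ X {na k}) l) (ii (UU cs (isCartan (k + 2)) X) l') =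
      Nat.card {w : {w : W // 0 ≤ rep cs (isCartan (k + 2)) w⁻¹ (sr (na k))} // Cm k y c e y' c' e' (fw cs w.1⁻¹)} := by
  rw [inner_cnt sP (sn_of_sg s') (fun w : {w : W // 0 ≤ rep cs (isCartan (k + 2)) w⁻¹ (sr (na k))} => nw R w) (disP R _)
    (covP R hG _)]
  exact congrArg Nat.cast (Nat.card_congr (Equiv.subtypeEquivRight
    fun w : {w : W // 0 ≤ rep cs (isCartan (k + 2)) w⁻¹ (sr (na k))} => (cpP R w.2).trans (cp_cm R s s' w.1)))

theorem mf_X (s : Sg cs (isCartan (k + 2)) X (SR k 1 1 e) l) (sP : Sn (PJ cs (isCartan (k + 2)) ⊥ X {na k}) l)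
    (s' : Sg cs (isCartan (k + 2)) X (SR k 1 0 e') l') (he : e = 1 ↔ e' ≠ 1) (χ : Y → ℂ) (hχ : IsIrrCharacter Y χ) :
    classInner (ii (PJ cs (isCartan (k + 2)) ⊥ X {na k}) l + ii (UU cs (isCartan (k + 2)) X) l') χ = 0 ∨
      classInner (ii (PJ cs (isCartan (k + 2)) ⊥ X {na k}) l + ii (UU cs (isCartan (k + 2)) X) l') χ = 1 := by
  refine mf_add (cls_ii _ _) (cls_ii _ _) (mf_P R hG s sP) (mf_U R hG s') ?_ χ hχ
  rw [inner_PU R hG s sP s', Nat.cast_eq_zero, Nat.card_eq_zero]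
  exact Or.inl ⟨fun w => cross (fw_bj cs _) w.2 he ((min_iff _).1 w.1.2)⟩

omit R hG in
theorem card_le : Nat.card {w : W // Cm k 0 1 1 0 1 1 (fw cs w⁻¹)} ≤
    Nat.card {w : {w : W // 0 ≤ rep cs (isCartan (k + 2)) w⁻¹ (sr (na k))} // Cm k 1 1 0 0 1 1 (fw cs w.1⁻¹)} +
      Nat.card {w : W // Cm k 1 0 1 0 1 1 (fw cs w⁻¹)} := by
  rw [← Nat.card_sum]
  have h1 : ∀ w : {w : W // Cm k 0 1 1 0 1 1 (fw cs w⁻¹)},
      ∃ z : {w : {w : W // 0 ≤ rep cs (isCartan (k + 2)) w⁻¹ (sr (na k))} // Cm k 1 1 0 0 1 1 (fw cs w.1⁻¹)} ⊕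
        {w : W // Cm k 1 0 1 0 1 1 (fw cs w⁻¹)}, ∀ p, p < 2 * k + 4 → fw cs w.1⁻¹ p =
          Sum.elim (fun v => fw cs v.1.1⁻¹ (sw k p)) (fun v => if fw cs v.1⁻¹ k < fw cs v.1⁻¹ (k + 1) then fw cs v.1⁻¹ p else
            if p < fw cs v.1⁻¹ (k + 1) ∨ 2 * k + 3 < p + fw cs v.1⁻¹ (k + 1) then fw cs v.1⁻¹ p else 2 * k + 3 - p) z := by
    rintro ⟨w, C⟩
    have B := fw_bj cs w⁻¹
    by_cases h1 : fw cs w⁻¹ k < fw cs w⁻¹ (k + 1)
    · exact ⟨Sum.inr ⟨w, gam_one B C h1⟩, fun p _ => (if_pos h1).symm⟩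
    have h2 : fw cs w⁻¹ (k + 1) < fw cs w⁻¹ k := by
      have := B.inj k (k + 1) (by omega) (by omega)
      omega
    by_cases h3 : fw cs w⁻¹ (k + 1) < fw cs w⁻¹ (k + 2)
    · have h4 : ∀ p, p < 2 * k + 4 → fw cs (cs.simple (na k) * w)⁻¹ p = fw cs w⁻¹ (sw k p) := fun p hp => by
        rw [mul_inv_rev, inv_simple, fw_sw cs _ hp]
      refine ⟨Sum.inl ⟨⟨cs.simple (na k) * w, (min_iff _).2 ?_⟩, (gam_two B C h2 h3).congr h4⟩, fun p hp => ?_⟩
      · rwa [h4 _ (by omega), h4 _ (by omega), sw_one, sw_two]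
      · exact ((h4 _ (sw_lt hp)).trans (by rw [sw_sw])).symm
    obtain ⟨g, h4, h5, h6, h7⟩ := gam_three B C h2 (by
      have := B.inj (k + 1) (k + 2) (by omega) (by omega)
      omega)
    obtain ⟨v, hv⟩ := fw_surj cs h4
    rw [← inv_inv v] at hv
    refine ⟨Sum.inr ⟨v⁻¹, h5.congr hv⟩, fun p hp => ?_⟩
    simp only [Sum.elim_inr]
    rw [hv k (by omega), hv (k + 1) (by omega), hv p hp, if_neg h6.not_gt]
    exact h7 p hp
  choose z hz using h1
  exact Nat.card_le_card_of_injective z fun v w e => Subtype.ext (inv_injective (fw_inj cs fun p hp => by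
    rw [hz v p hp, hz w p hp, e]))

omit hG in
theorem sn_P {Q : Submonoid Y} {S : Set (Fin (k + 2) → ℤ)} (h1 : ∀ u ∈ UU cs (isCartan (k + 2)) X, u ∈ Q) (h2 : n (na k) ∈ Q)
    (h3 : ∀ u ∈ Q, ∀ v ∈ Q, l (u * v) = l u * l v) (s : Sg cs (isCartan (k + 2)) X S l) :
    Sn (PJ cs (isCartan (k + 2)) ⊥ X {na k}) l := by
  have h4 : ∀ g ∈ PJ cs (isCartan (k + 2)) ⊥ X {na k}, g ∈ Q := fun g hg => by
    rcases mem_P R hg with h | ⟨a, ha, b, hb, rfl⟩
    · exact h1 g h
    · exact mul_mem (mul_mem (h1 a ha) h2) (h1 b hb)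
  refine ⟨fun u hu v hv => h3 u (h4 u hu) v (h4 v hv), fun g hg => ?_⟩
  rcases mem_P R hg with h | ⟨a, ha, b, hb, rfl⟩
  · exact (sn_of_sg s).sq g h
  · have h5 := h3 _ h2 _ h2
    rw [n_sq R, s.one] at h5
    rw [h3 _ (mul_mem (h1 a ha) h2) _ (h1 b hb), h3 _ (h1 a ha) _ h2]
    rcases (sn_of_sg s).sq a ha with h6 | h6 <;> rcases (sn_of_sg s).sq b hb with h7 | h7 <;>
      rcases mul_self_eq_one_iff.1 h5.symm with h8 | h8 <;> simp [h6, h7, h8]

/-- **The multiplicities in `Γ + Gc` are `0`, `1`, `-1`.** -/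
theorem mf (D : Dat cs (isCartan (k + 2)) X (na k) (nb k) ψ η) {Q : Submonoid Y} (E : Ex cs n X ψ η β σ Q) :
    MF cs (isCartan (k + 2)) X (na k) (nb k) ψ η := by
  have s1 := sg_gam D
  have s00 := sg_00 D
  have s01 := sg_a D s00
  have s10 := sg_congr (sg_10 D) E.bU
  have sσ := sg_congr (D.psi (na k)) E.sU
  have s11 : Sg cs (isCartan (k + 2)) X (SR k 1 1 1) fun u => β u * σ u :=
    sg_congr (sg_a D s10) fun u hu => by rw [E.sU u hu]
  have p10 := sn_P R E.le E.mem E.bmul s10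
  have pσ := sn_P R E.le E.mem E.smul sσ
  have p11 := p10.times pσ
  have m1 := mf_X R hG s11 p11 s00 (by omega)
  have m2 := mf_X R hG s10 p10 s01 (by omega)
  have hc : ∀ {H K : Subgroup Y} {f g : Y → ℂ}, IsClassFunction Y (ii H f + ii K g) := fun {H K f g} x y => by
    rw [Pi.add_apply, Pi.add_apply, cls_ii H f x y, cls_ii K g x y]
  refine ⟨1, Or.inl rfl, fun χ hχ m hm => mf_of (sn_of_sg s1).isChar hc m1 m2 (eq_of_le (sn_of_sg s1).isChar hc m2
    (inner_UU R hG s1 s1) (by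
      rw [classInner_add_left, inner_PU R hG s10 p10 s1, inner_UU R hG s01 s1, ← Nat.cast_add]) card_le) hχ ?_⟩
  have hk := isIrr_isClassFunction hχ
  have h1 := mn_P R (D.psi (na k)) pσ E.sU (F := fun x => (β x * σ x - β x) * conj (χ x))
    (fun x hx y hy => by beta_reduce; rw [p10.cl x hx y hy, pσ.cl x hx y hy, hk x y]) fun x _ h => by rw [h, mul_one, sub_self, zero_mul]
  have h2 : ∀ (H : Subgroup Y) (f g : Y → ℂ), (mn H fun x => (f x - g x) * conj (χ x)) =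
      (mn H fun x => f x * conj (χ x)) - mn H fun x => g x * conj (χ x) := fun H f g => by
    rw [eq_sub_iff_add_eq, ← mn_add]
    exact mn_congr fun x _ => by ring
  rw [h2] at h1
  rw [hm, classInner_sub_left, classInner_add_left, classInner_add_left, classInner_add_left]
  change classInner (ii _ fun u => phB ψ u + 1 * phC (na k) (nb k) ψ η u) χ = _
  simp only [inner_ii _ _ hk]
  have h3 : (mn (UU cs (isCartan (k + 2)) X) fun x => (phB ψ x + 1 * phC (na k) (nb k) ψ η x) * conj (χ x)) =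
      (mn (UU cs (isCartan (k + 2)) X) fun x => phB ψ x * conj (χ x)) +
      ((mn (UU cs (isCartan (k + 2)) X) fun x => (lz ψ η x - lz ψ η x * ψ (na k) x) * conj (χ x)) +
      mn (UU cs (isCartan (k + 2)) X) fun x => (β x * σ x - β x) * conj (χ x)) := by
    rw [← mn_add, ← mn_add]
    refine mn_congr fun x hx => ?_
    rw [E.bU x hx, E.sU x hx, phC, lz]
    ring
  rw [h3, ← h1, h2]
  ring

end Cfsg.Agent.MK.Sp2.B

private theorem dce_3f6b9ecb4b22 : _root_.True := by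
  try have : _root_.True := by simp only [_root_.Cfsg.Agent.MK.Sp2.phC.eq_1]
  try have : _root_.True := by simp only [_root_.Cfsg.Agent.MK.Sp2.B.lz.eq_1]
  try have : _root_.True := by simp only [_root_.Cfsg.Agent.MK.Sp2.phC.congr_simp]
  exact _root_.True.intro
end
end
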